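import Cfsg.Agent.Lib.Components.Local
import Cfsg.Prelude.Def_Balance

/-!
Transport of `p`-components under isomorphisms and the extended layer.
-/

set_option autoImplicit false
set_option linter.style.haveILetI false

namespace Cfsg.Agent.Components

open Subgroup
open Cfsg.Agent

variable {G G' : Type*} [Group G] [Group G'] [Finite G] {p : ℕ}

/-- The isomorphism of quotients by `p'`-cores induced by an isomorphism. -/
noncomputable def coreQuotientEquiv (p : ℕ) (e : G ≃* G') :
    G ⧸ pPrimeCore p G ≃* G' ⧸ pPrimeCore p G' :=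
  QuotientGroup.congr _ _ e (FittingCores.pPrimeCore_map_equiv p e)

theorem map_map_core (e : G ≃* G') (K : Subgroup G) :
    (K.map e.toMonoidHom).map (QuotientGroup.mk' (pPrimeCore p G')) =
      (K.map (QuotientGroup.mk' (pPrimeCore p G))).map (coreQuotientEquiv p e).toMonoidHom := by
  rw [Subgroup.map_map, Subgroup.map_map]
  rfl

theorem pComponent_map_equiv (e : G ≃* G') {K : Subgroup G} (hK : IsPComponent p K) :
    IsPComponent p (K.map e.toMonoidHom) := by
  haveI : Finite G' := Finite.of_equiv G e.toEquiv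
  refine ⟨hK.1.map e.surjective, ?_, ?_⟩
  · rw [map_map_core]
    exact component_map_equiv _ hK.2.1
  · intro H hH hle heq
    obtain ⟨H, rfl⟩ : ∃ H₀ : Subgroup G, H = H₀.map e.toMonoidHom :=
      ⟨H.comap e.toMonoidHom, (map_comap_eq_self_of_surjective e.surjective H).symm⟩
    rw [map_map_core, map_map_core] at heq
    have hs : H.IsSubnormal := by
      have := hH.map (f := e.symm.toMonoidHom) e.symm.surjective
      rwa [Subgroup.map_map, show e.symm.toMonoidHom.comp e.toMonoidHom = MonoidHom.id G from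
        MonoidHom.ext e.symm_apply_apply, Subgroup.map_id] at this
    rw [hK.2.2 H hs ((Subgroup.map_le_map_iff_of_injective e.injective).1 hle)
      (Subgroup.map_injective (coreQuotientEquiv p e).injective heq)]

theorem pLayer_map_equiv_le (e : G ≃* G') : (pLayer p G).map e.toMonoidHom ≤ pLayer p G' := by
  rw [map_le_iff_le_comap]
  exact sSup_le fun K hK => map_le_iff_le_comap.1 (le_sSup (pComponent_map_equiv e hK))

theorem pLayer_map_equiv (e : G ≃* G') : (pLayer p G).map e.toMonoidHom = pLayer p G' := by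
  haveI : Finite G' := Finite.of_equiv G e.toEquiv
  refine le_antisymm (pLayer_map_equiv_le e) fun x hx => ?_
  exact ⟨e.symm x, pLayer_map_equiv_le e.symm (mem_map_of_mem _ hx), e.apply_symm_apply x⟩

theorem pLayer_normal : (pLayer p G).Normal := by
  haveI : (pLayer p G).Characteristic :=
    characteristic_iff_map_eq.2 fun e => pLayer_map_equiv e
  infer_instance

theorem pPrimePCore_map_equiv (e : G ≃* G') :
    (pPrimePCore p G).map e.toMonoidHom = pPrimePCore p G' := by
  ext x
  obtain ⟨y, rfl⟩ := e.surjective x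
  unfold pPrimePCore
  rw [mem_map_equiv, e.symm_apply_apply, mem_comap, mem_comap,
    ← FittingCores.pCore_map_equiv p (coreQuotientEquiv p e),
    show QuotientGroup.mk' (pPrimeCore p G') (e y) =
      coreQuotientEquiv p e (QuotientGroup.mk' (pPrimeCore p G) y) from rfl,
    mem_map_equiv, MulEquiv.symm_apply_apply]

theorem pPrimeCore_map_subtype_map (e : G ≃* G') (H : Subgroup G) :
    ((pPrimeCore p ↥H).map H.subtype).map e.toMonoidHom =
      (pPrimeCore p ↥(H.map e.toMonoidHom)).map (H.map e.toMonoidHom).subtype := by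
  have h := FittingCores.pPrimeCore_map_equiv p (e.subgroupMap H)
  refine Eq.trans ?_ (congrArg (Subgroup.map (H.map (e : G →* G')).subtype) h)
  rw [Subgroup.map_map, Subgroup.map_map]
  rfl

theorem map_centralizer_equiv (e : G ≃* G') (S : Subgroup G) :
    (centralizer (S : Set G)).map e.toMonoidHom =
      centralizer ((S.map e.toMonoidHom : Subgroup G') : Set G') := by
  apply le_antisymm (map_centralizer_le_centralizer_image _ _)
  intro x hx
  refine ⟨e.symm x, mem_centralizer_iff.2 fun a ha => e.injective ?_, e.apply_symm_apply x⟩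
  rw [map_mul, map_mul, e.apply_symm_apply]
  exact mem_centralizer_iff.1 hx (e a) (mem_map_of_mem e.toMonoidHom ha)

/-- `O_{p'}(C(S))` as a subgroup of the whole group. -/
theorem centralizerCore_map_equiv (e : G ≃* G') (S : Subgroup G) :
    ((pPrimeCore p ↥(centralizer (S : Set G))).map (centralizer (S : Set G)).subtype).map
        e.toMonoidHom =
      (pPrimeCore p ↥(centralizer ((S.map e.toMonoidHom : Subgroup G') : Set G'))).map
        (centralizer ((S.map e.toMonoidHom : Subgroup G') : Set G')).subtype := by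
  rw [pPrimeCore_map_subtype_map, map_centralizer_equiv]

variable [hp : Fact p.Prime]

omit [Finite G] hp in
theorem pGen_pGen (H : Subgroup G) : pGen p (pGen p H) = pGen p H :=
  le_antisymm (pGen_le _) ((closure_le _).2 fun x ⟨hx, k, hk⟩ =>
    mem_pGen (mem_pGen hx hk) hk)

theorem pComponent_pGen {K : Subgroup G} (hK : IsPComponent p K) : pGen p K = K := by
  conv_lhs => rw [← pComponent_eq_pGen hK]
  rw [pGen_pGen, pComponent_eq_pGen hK]

theorem pPrimePCore_le_normalizer_pComponent {K : Subgroup G} (hK : IsPComponent p K) :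
    pPrimePCore p G ≤ normalizer (K : Set G) := by
  rw [← pComponent_eq_pGen hK]
  refine le_trans ?_ (normalizer_le_pGen _)
  refine le_trans ?_ (le_normalizer_comap _)
  unfold pPrimePCore
  refine comap_mono ?_
  haveI := FittingCores.pCore_normal (G := G ⧸ pPrimeCore p G) p
  refine normalizes_of_commute ?_
  rw [commutator_comm]
  exact component_commute_solvable hK.2.1
    (haveI := isNilpotent_pCore (G := G ⧸ pPrimeCore p G) (p := p); inferInstance)
    le_normalizer_of_normal

/-- Frattini argument for a Sylow subgroup and a normal subgroup with `p`-group quotient. -/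
theorem sup_sylow_eq_top {W : Type*} [Group W] [Finite W] {N S : Subgroup W} [N.Normal]
    (hS : IsPGroup p S) (h : N ⊔ S = ⊤) (T : Sylow p W) : N ⊔ (T : Subgroup W) = ⊤ := by
  rw [← index_eq_one]
  have h1 : (N ⊔ (T : Subgroup W)).index ∣ Nat.card S := by
    refine (index_dvd_of_le le_sup_left).trans ?_
    rw [← relIndex_top_right, ← h, sup_comm, relIndex_sup_right]
    exact relIndex_dvd_card _ _
  obtain ⟨k, hk⟩ := hS.exists_card_eq
  rw [hk] at h1
  obtain ⟨j, -, hj⟩ := (Nat.dvd_prime_pow hp.out).1 h1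
  rcases j.eq_zero_or_pos with rfl | hpos
  · simpa using hj
  · exact absurd ((dvd_pow_self p hpos.ne').trans ((dvd_of_eq hj.symm).trans
      (index_dvd_of_le le_sup_right))) T.not_dvd_index

theorem pPrimePCore_le_sup (T : Sylow p ↥(pLayer p G ⊔ pPrimePCore p G)) :
    pLayer p G ⊔ pPrimePCore p G =
      pLayer p G ⊔ pPrimeCore p G ⊔
        (T : Subgroup ↥(pLayer p G ⊔ pPrimePCore p G)).map
          (pLayer p G ⊔ pPrimePCore p G).subtype := by
  haveI := pLayer_normal (G := G) (p := p)
  haveI := FittingCores.pPrimeCore_normal (G := G) p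
  obtain ⟨P⟩ := (inferInstance : Nonempty (Sylow p ↥(pPrimePCore p G)))
  set S := (P : Subgroup ↥(pPrimePCore p G)).map (pPrimePCore p G).subtype with hSdef
  set N := pLayer p G ⊔ pPrimeCore p G with hNdef
  have hN : N ≤ (pLayer p G ⊔ pPrimePCore p G) := sup_le le_sup_left (pPrimeCore_le_pPrimePCore.trans le_sup_right)
  have hS : S ≤ (pLayer p G ⊔ pPrimePCore p G) := (map_subtype_le _).trans le_sup_right
  have htop : N.subgroupOf (pLayer p G ⊔ pPrimePCore p G) ⊔ S.subgroupOf (pLayer p G ⊔ pPrimePCore p G) = ⊤ := by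
    rw [← subgroupOf_sup hN hS, subgroupOf_eq_top]
    refine (sup_le_sup le_rfl (pPrimePCore_eq_sup P).le).trans ?_
    exact sup_le (le_sup_of_le_left le_sup_left) (sup_le le_sup_right (le_sup_of_le_left le_sup_right))
  have h := congrArg (Subgroup.map (pLayer p G ⊔ pPrimePCore p G).subtype) (sup_sylow_eq_top (W := ↥(pLayer p G ⊔ pPrimePCore p G))
    ((P.isPGroup'.map _).comap_subtype) htop T)
  rw [Subgroup.map_sup, map_subgroupOf_eq_of_le hN, ← MonoidHom.range_eq_map,
    range_subtype] at h
  exact h.symm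

theorem centralizer_sylow_le_normalizer_pComponent
    (T : Sylow p ↥(pLayer p G ⊔ pPrimePCore p G)) {K : Subgroup G} (hK : IsPComponent p K) :
    centralizer (((T : Subgroup ↥(pLayer p G ⊔ pPrimePCore p G)).map
      (pLayer p G ⊔ pPrimePCore p G).subtype : Subgroup G) : Set G) ≤ normalizer (K : Set G) := by
  intro c hc
  have hWK : (pLayer p G ⊔ pPrimePCore p G) ≤ normalizer (K : Set G) :=
    sup_le (pLayer_le_normalizer hK) (pPrimePCore_le_normalizer_pComponent hK)
  have hKW : K ≤ (pLayer p G ⊔ pPrimePCore p G) := le_trans (le_sSup hK : K ≤ pLayer p G) le_sup_left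
  rw [mem_normalizer_iff_map_conj_eq]
  by_contra hne
  set K' := K.map (MulAut.conj c).toMonoidHom
  set q := QuotientGroup.mk' (pPrimeCore p G)
  have hK' : IsPComponent p K' := pComponent_map_equiv _ hK
  have hcomm : K.map q ≤ centralizer ((K'.map q : Subgroup _) : Set _) :=
    commutator_eq_bot_iff_le_centralizer.1 (components_commute hK.2.1 hK'.2.1 fun e =>
      hne (pComponent_unique hK' hK e.symm))
  have hcen : K.map q ≤ centralizer ((K.map q : Subgroup _) : Set _) := by
    conv_lhs => rw [← pComponent_pGen hK]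
    rw [pGen, MonoidHom.map_closure, closure_le]
    rintro _ ⟨x, ⟨hxK, k, hk⟩, rfl⟩
    have hz : IsPGroup p ↥(zpowers (⟨x, hKW hxK⟩ : ↥(pLayer p G ⊔ pPrimePCore p G))) := by
      refine IsPGroup.of_card (n := (orderOf x).factorization p) ?_
      rw [Nat.card_zpowers, orderOf_mk]
      obtain ⟨j, -, hj⟩ := (Nat.dvd_prime_pow hp.out).1 (orderOf_dvd_of_pow_eq_one hk)
      rw [hj, hp.out.factorization_pow, Finsupp.single_eq_same]
    obtain ⟨T', hT'⟩ := hz.exists_le_sylow
    obtain ⟨w, hw⟩ := MulAction.exists_smul_eq (↥(pLayer p G ⊔ pPrimePCore p G)) T' T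
    have hyT : w * ⟨x, hKW hxK⟩ * w⁻¹ ∈ (T : Subgroup ↥(pLayer p G ⊔ pPrimePCore p G)) := by
      rw [← hw]
      exact smul_mem_pointwise_smul _ (MulAut.conj w) _ (hT' (mem_zpowers _))
    set y := (w : G) * x * (w : G)⁻¹ with hy
    have hyK : y ∈ K := (mem_normalizer_iff.1 (hWK w.2) x).1 hxK
    have hyc : y * c = c * y := mem_centralizer_iff.1 hc y (mem_map_of_mem (pLayer p G ⊔ pPrimePCore p G).subtype hyT)
    have hyK' : y ∈ K' := ⟨y, hyK, by
      show c * y * c⁻¹ = y
      rw [← hyc, mul_inv_cancel_right]⟩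
    rw [SetLike.mem_coe, mem_centralizer_iff]
    rintro _ ⟨b, hb, rfl⟩
    have hbK : (w : G) * b * (w : G)⁻¹ ∈ K := (mem_normalizer_iff.1 (hWK w.2) b).1 hb
    have h1 := mem_centralizer_iff.1 (hcomm (mem_map_of_mem q hbK)) (q y) (mem_map_of_mem q hyK')
    rw [hy, map_mul, map_mul, map_mul, map_mul, map_inv] at h1
    have h2 : q (w : G) * (q x * q b) * (q (w : G))⁻¹ = q (w : G) * (q b * q x) * (q (w : G))⁻¹ := by
      calc _ = q (w : G) * q x * (q (w : G))⁻¹ * (q (w : G) * q b * (q (w : G))⁻¹) := by group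
        _ = _ := h1
        _ = _ := by group
    exact (mul_left_cancel (mul_right_cancel h2)).symm
  have hbot := commutator_eq_bot_iff_le_centralizer.2 hcen
  rw [component_commutator_eq hK.2.1] at hbot
  exact component_ne_bot hK.2.1 hbot

theorem center_quotient_of_perfect {K : Type*} [Group K] [Group.IsPerfect K] (N : Subgroup K)
    [N.Normal] (hN : N ≤ center K) :
    center (K ⧸ N) = (center K).map (QuotientGroup.mk' N) := by
  set q := QuotientGroup.mk' N
  refine le_antisymm ?_ (map_le_iff_le_comap.2 fun x hx => ?_)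
  · intro z hz
    obtain ⟨a, rfl⟩ := QuotientGroup.mk'_surjective N z
    refine mem_map_of_mem q ?_
    set A := (center (K ⧸ N)).comap q with hA
    have haA : a ∈ A := hz
    have h1 : ⁅⁅A, (⊤ : Subgroup K)⁆, (⊤ : Subgroup K)⁆ = ⊥ := by
      have h0 : ⁅A, (⊤ : Subgroup K)⁆ ≤ center K := by
        refine le_trans ?_ hN
        rw [← QuotientGroup.ker_mk' N, ← Subgroup.map_eq_bot_iff, Subgroup.map_commutator,
          commutator_eq_bot_iff_le_centralizer]
        exact (map_comap_le _ _).trans (center_le_centralizer _)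
      rw [commutator_eq_bot_iff_le_centralizer]
      exact h0.trans (center_le_centralizer _)
    have h2 : ⁅⁅(⊤ : Subgroup K), A⁆, (⊤ : Subgroup K)⁆ = ⊥ := by
      rwa [Subgroup.commutator_comm (⊤ : Subgroup K) A]
    have h3 := commutator_commutator_eq_bot_of_rotate (H₁ := (⊤ : Subgroup K))
      (H₂ := (⊤ : Subgroup K)) (H₃ := A) h2 h1
    rw [← commutator_def, Group.IsPerfect.commutator_eq_top, commutator_comm,
      commutator_eq_bot_iff_le_centralizer] at h3
    simpa [← centralizer_univ] using h3 haA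
  · rw [mem_comap, mem_center_iff]
    intro g
    obtain ⟨b, rfl⟩ := QuotientGroup.mk'_surjective N g
    rw [← map_mul, ← map_mul, mem_center_iff.1 hx b]

theorem quasisimple_of_quotient_central {K : Type*} [Group K] [Group.IsPerfect K] (N : Subgroup K)
    [N.Normal] (hN : N ≤ center K) (h : IsQuasisimple (K ⧸ N)) : IsQuasisimple K := by
  refine ⟨inferInstance, ?_⟩
  haveI := h.2
  exact ((QuotientGroup.quotientMulEquivOfEq (center_quotient_of_perfect N hN)).trans
    (QuotientGroup.quotientQuotientEquivQuotient N (center K) hN)).symm.isSimpleGroup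


omit [Finite G] in
open scoped Pointwise in
/-- Conjugates of a Sylow subgroup of a normal subgroup. -/
theorem exists_sylow_map_conj {W : Subgroup G} [W.Normal] (T : Sylow p ↥W) (g : G) :
    ∃ T' : Sylow p ↥W, (T' : Subgroup ↥W).map W.subtype =
      ((T : Subgroup ↥W).map W.subtype).map (MulAut.conj g).toMonoidHom := by
  refine ⟨(MulAut.conjNormal g : MulAut ↥W) • T, ?_⟩
  ext x
  constructor
  · rintro ⟨y, ⟨t, ht, rfl⟩, rfl⟩
    exact ⟨(t : G), ⟨t, ht, rfl⟩, rfl⟩
  · rintro ⟨y, ⟨t, ht, rfl⟩, rfl⟩
    exact ⟨MulAut.conjNormal g t, ⟨t, ht, rfl⟩, rfl⟩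

end Cfsg.Agent.Components
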