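import Cfsg.Agent.Lib.Components.Balance
import Cfsg.Agent.Lib.Components.Extended
import Cfsg.Prelude.Def_Balance
import Cfsg.Agent.Lib.Solvable.Coprime
import Cfsg.Agent.Lib.Signalizer.Basic

/-! Automizers of components: images of `p'`-cores, and the reduction of balance to them. -/

set_option autoImplicit false
set_option linter.style.haveILetI false

namespace Cfsg.Agent.Components

open Subgroup
open scoped Pointwise commutatorElement

variable {G : Type*} [Group G] [Finite G] {p : ℕ} [Fact p.Prime]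

omit [Finite G] [Fact p.Prime] in
theorem automizer_kernel_normal {L H : Subgroup G} (hH : H ≤ normalizer (L : Set G)) :
    ((centralizer (L : Set G)).subgroupOf H).Normal := by
  refine ⟨fun a ha b => ?_⟩
  show (b : G) * a * (b : G)⁻¹ ∈ centralizer (L : Set G)
  have hNC : normalizer (L : Set G) ≤ normalizer (centralizer (L : Set G) : Set G) :=
    (normal_subgroupOf_iff_le_normalizer (centralizer_le_normalizer _)).1 inferInstance
  exact (mem_normalizer_iff.1 (hNC (hH b.2)) _).1 ha

/-- With `U ≤ C(x)` and `H = L U`, the image of a coprime normal subgroup of `U` in the automizer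
lies in the core of the centralizer of `x`. -/
theorem image_le_centralizer_core {x : G} {L U R : Subgroup G}
    (hL : IsComponent L) (hUx : U ≤ centralizer ({x} : Set G)) (hUL : U ≤ normalizer (L : Set G))
    (hxU : x ∈ U) (hLU : L ⊓ centralizer ({x} : Set G) ≤ U) (hRU : R ≤ U)
    (hUR : U ≤ normalizer (R : Set G)) (hRc : (Nat.card R).Coprime p)
    (hRZ : R ≤ centralizer (layerCenter G : Set G))
    [hn : ((centralizer (L : Set G)).subgroupOf (L ⊔ U)).Normal] :
    ∀ r : ↥(L ⊔ U : Subgroup G), (r : G) ∈ R →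
    QuotientGroup.mk' ((centralizer (L : Set G)).subgroupOf (L ⊔ U)) r ∈
      centralizerPPrimeCore p
        (QuotientGroup.mk' ((centralizer (L : Set G)).subgroupOf (L ⊔ U))
          ⟨x, mem_sup_right hxU⟩) := by
  classical
  set H := L ⊔ U with hHdef
  let f := QuotientGroup.mk' ((centralizer (L : Set G)).subgroupOf H)
  have hxH : x ∈ H := mem_sup_right hxU
  have hxL : zpowers x ≤ normalizer (L : Set G) := zpowers_le.2 (hUL hxU)
  have hRL : R ≤ normalizer (L : Set G) := hRU.trans hUL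
  have h1 : ∀ r ∈ R, x * r = r * x := fun r hr => mem_centralizer_iff.1 (hUx (hRU hr)) x rfl
  let CL := L ⊓ centralizer ({x} : Set G)
  let Y := CL ⊔ R
  have hYC : Y ≤ centralizer ({x} : Set G) := sup_le inf_le_right (hRU.trans hUx)
  have hYH : Y ≤ H := sup_le (inf_le_left.trans le_sup_left) (hRU.trans le_sup_right)
  let R' := (pPrimeCore p ↥Y).map Y.subtype
  haveI := Cfsg.Agent.PBasic.pPrimeCore_characteristic p ↥Y
  have hR'Y : R' ≤ Y := map_subtype_le _
  have hRR' : R ≤ R' := by
    intro r hr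
    refine ⟨⟨r, mem_sup_right hr⟩, Cfsg.Agent.PBasic.le_pPrimeCore (N := R.subgroupOf Y) ?_ ?_ hr, rfl⟩
    · exact (normal_subgroupOf_iff_le_normalizer le_sup_right).2
        (sup_le (hLU.trans hUR) le_normalizer)
    · rwa [Nat.card_congr (subgroupOfEquivOfLe (le_sup_right : R ≤ Y)).toEquiv]
  have hnormY : ∀ g : H, f g ∈ centralizer {f ⟨x, hxH⟩} → (g : G) ∈ normalizer (Y : Set G) := by
    intro g hg
    have hgH : (g : G) ∈ ((L ⊔ U : Subgroup G) : Set G) := g.2
    rw [coe_mul_of_right_le_normalizer_left L U hUL] at hgH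
    obtain ⟨l, hl, u, hu, hlu⟩ := hgH
    have hcomm : (g : G) * x * (g : G)⁻¹ * x⁻¹ ∈ centralizer (L : Set G) := by
      have h' := mem_centralizer_iff.1 hg _ rfl
      have : f (g * ⟨x, hxH⟩ * g⁻¹ * ⟨x, hxH⟩⁻¹) = 1 := by
        rw [map_mul, map_mul, map_mul, map_inv, map_inv, ← h']; group
      exact (QuotientGroup.eq_one_iff (N := (centralizer (L : Set G)).subgroupOf H) _).1 this
    have hux : u * x = x * u := (mem_centralizer_iff.1 (hUx hu) x rfl).symm
    have hz : l * x * l⁻¹ * x⁻¹ ∈ L ⊓ centralizer (L : Set G) := by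
      refine ⟨?_, ?_⟩
      · rw [show l * x * l⁻¹ * x⁻¹ = l * (x * l⁻¹ * x⁻¹) by group]
        exact L.mul_mem hl ((mem_normalizer_iff.1 (hxL (mem_zpowers x)) _).1 (L.inv_mem hl))
      · have : (g : G) * x * (g : G)⁻¹ * x⁻¹ = l * x * l⁻¹ * x⁻¹ := by
          rw [← hlu]
          calc l * u * x * (l * u)⁻¹ * x⁻¹ = l * (u * x) * u⁻¹ * l⁻¹ * x⁻¹ := by group
            _ = _ := by rw [hux]; group
        rw [← this]; exact hcomm
    have hzZ : l * x * l⁻¹ * x⁻¹ ∈ layerCenter G := layerCenter_of_component hL hz.1 hz.2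
    have hmemC : ∀ y : G, x * y = y * x → y ∈ centralizer ({x} : Set G) := by
      intro y hy
      rw [mem_centralizer_iff]
      intro z hz
      rw [show z = x from hz, hy]
    have hlY : l ∈ normalizer (Y : Set G) := by
      refine mem_normalizer_fintype (fun y hy => ?_)
      suffices hle : Y ≤ Y.comap (MulAut.conj l).toMonoidHom from hle hy
      refine sup_le (fun c hc => ?_) (fun r hr => ?_)
      · show l * c * l⁻¹ ∈ Y
        refine mem_sup_left ⟨L.mul_mem (L.mul_mem hl hc.1) (L.inv_mem hl), hmemC _ ?_⟩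
        have hcx := mem_centralizer_iff.1 hc.2 x rfl
        have hlc : l * c * l⁻¹ ∈ L := L.mul_mem (L.mul_mem hl hc.1) (L.inv_mem hl)
        have hzc := mem_centralizer_iff.1 hz.2 _ hlc
        calc x * (l * c * l⁻¹) = (l * x * l⁻¹ * x⁻¹)⁻¹ * (l * (x * c) * l⁻¹) := by group
          _ = (l * x * l⁻¹ * x⁻¹)⁻¹ * ((l * c * l⁻¹) * (l * x * l⁻¹ * x⁻¹)) * x := by rw [hcx]; group
          _ = _ := by rw [hzc]; group
      · show l * r * l⁻¹ ∈ Y
        rw [show l * r * l⁻¹ = (l * r * l⁻¹ * r⁻¹) * r by group]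
        refine Y.mul_mem (mem_sup_left ⟨?_, hmemC _ ?_⟩) (mem_sup_right hr)
        · rw [show l * r * l⁻¹ * r⁻¹ = l * (r * l⁻¹ * r⁻¹) by group]
          exact L.mul_mem hl ((mem_normalizer_iff.1 (hRL hr) _).1 (L.inv_mem hl))
        · have hrx := h1 r hr
          have hrz := mem_centralizer_iff.1 (hRZ hr) _ hzZ
          set z := l * x * l⁻¹ * x⁻¹ with hzdef
          have hzl : z * l = l * z := (mem_centralizer_iff.1 hz.2 l hl).symm
          have e1 : x * l = z⁻¹ * (l * x) := by rw [hzdef]; group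
          have e2 : x * l⁻¹ = l⁻¹ * z * x := by rw [hzdef]; group
          have e3 : x * r⁻¹ = r⁻¹ * x := ((show Commute x r from hrx).inv_right).eq
          calc x * (l * r * l⁻¹ * r⁻¹) = x * l * r * l⁻¹ * r⁻¹ := by group
            _ = z⁻¹ * (l * (x * r)) * l⁻¹ * r⁻¹ := by rw [e1]; group
            _ = z⁻¹ * (l * r * (x * l⁻¹)) * r⁻¹ := by rw [hrx]; group
            _ = z⁻¹ * (l * r * (l⁻¹ * z)) * (x * r⁻¹) := by rw [e2]; group
            _ = z⁻¹ * (l * r * (z * l⁻¹)) * (r⁻¹ * x) := by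
                rw [e3, show l⁻¹ * z = z * l⁻¹ from ((show Commute z l from hzl).inv_right).eq.symm]
            _ = z⁻¹ * (l * (r * z) * l⁻¹) * (r⁻¹ * x) := by group
            _ = z⁻¹ * ((l * z) * r * l⁻¹) * (r⁻¹ * x) := by rw [← hrz]; group
            _ = _ := by rw [← hzl]; group
    have hUCL : U ≤ normalizer (CL : Set G) :=
      (le_inf hUL (hUx.trans le_normalizer)).trans inf_normalizer_le_normalizer_inf
    rw [← hlu]
    exact mul_mem hlY (((le_inf hUCL hUR).trans (normalizer_inf_normalizer_le_normalizer_sup _ _)) hu)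
  have hnormR' : ∀ g : G, g ∈ normalizer (Y : Set G) → g ∈ normalizer (R' : Set G) := by
    intro g hg
    rw [mem_normalizer_iff_map_conj_eq]
    let e : MulAut Y := Y.normalizerMonoidHom ⟨g, hg⟩
    have he := characteristic_iff_map_eq.1 (inferInstance : (pPrimeCore p ↥Y).Characteristic) e
    conv_rhs => rw [show R' = (pPrimeCore p ↥Y).map Y.subtype from rfl, ← he]
    rw [map_map, map_map]
    rfl
  set C := centralizer ({f ⟨x, hxH⟩} : Set (↥H ⧸ (centralizer (L : Set G)).subgroupOf H))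
  have hR'C : ∀ (a : G) (ha : a ∈ H), a ∈ R' → f ⟨a, ha⟩ ∈ C := fun a ha haR => by
    rw [mem_centralizer_iff]
    rintro _ rfl
    rw [← map_mul, ← map_mul]
    exact congrArg f (Subtype.ext (mem_centralizer_iff.1 (hYC (hR'Y haR)) x rfl))
  have hS : (((R'.subgroupOf H).map f).subgroupOf C) ≤ pPrimeCore p ↥C := by
    refine Cfsg.Agent.PBasic.le_pPrimeCore ⟨?_⟩ ?_
    · rintro ⟨a, ha⟩ ⟨a', ha', haa⟩ ⟨c, hc⟩
      obtain ⟨c', rfl⟩ := QuotientGroup.mk'_surjective _ c
      refine ⟨c' * a' * c'⁻¹, ?_, ?_⟩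
      · exact (mem_normalizer_iff.1 (hnormR' _ (hnormY c' hc)) _).1 ha'
      · rw [map_mul, map_mul, map_inv, haa]
        rfl
    · rw [Nat.card_congr (subgroupOfEquivOfLe ?_).toEquiv]
      · refine Nat.Coprime.coprime_dvd_left (card_map_dvd _ f) ?_
        rw [Nat.card_congr (subgroupOfEquivOfLe (hR'Y.trans hYH)).toEquiv,
          card_map_of_injective Y.subtype_injective]
        exact Cfsg.Agent.PBasic.pPrimeCore_coprime p ↥Y
      · rintro _ ⟨a, ha, rfl⟩
        exact hR'C a a.2 ha
  intro r hr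
  exact ⟨⟨f r, hR'C r r.2 (hRR' hr)⟩, hS ⟨r, hRR' hr, rfl⟩, rfl⟩

/-- Locally `k`-balanced automizers force `Δ(A) = 1`. -/
theorem signalizerDelta_eq_bot (hO : pPrimeCore p G = ⊥) {k : ℕ} (hk : 1 ≤ k) (A : Subgroup G)
    (hA : IsElementaryAbelian p A) (hAk : Nat.card A = p ^ k)
    (h : ∀ L : Subgroup G, IsComponent L → ∀ H : Subgroup G, L ≤ H → H ≤ normalizer (L : Set G) →
      ∀ [((centralizer (L : Set G)).subgroupOf H).Normal],
      ∀ B : Subgroup (↥H ⧸ (centralizer (L : Set G)).subgroupOf H),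
        IsElementaryAbelian p B → Nat.card B = p ^ k → signalizerDelta p B = ⊥) :
    signalizerDelta p A = ⊥ := by
  classical
  set R := signalizerDelta p A
  have hp := (Fact.out : p.Prime)
  have hRle : ∀ a ∈ A, a ≠ 1 → R ≤ centralizerPPrimeCore p a := fun a ha ha1 =>
    iInf_le (fun a : {a : G // a ∈ A ∧ a ≠ 1} => centralizerPPrimeCore p (a : G)) ⟨a, ha, ha1⟩
  obtain ⟨a₀, ha₀, ha₀1⟩ : ∃ a ∈ A, a ≠ 1 := by
    refine A.bot_or_exists_ne_one.resolve_left fun hb => ?_
    rw [hb, Subgroup.card_bot] at hAk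
    exact (Nat.one_lt_pow (by omega) hp.one_lt).ne hAk
  have hRA : R ≤ centralizer (A : Set G) := by
    intro r hr
    rw [mem_centralizer_iff]
    intro a ha
    by_cases ha1 : a = 1
    · simp [ha1]
    · exact mem_centralizer_iff.1 ((centralizerPPrimeCore_props (p := p) a).1 (hRle a ha ha1 hr)) a (mem_zpowers a)
  have hCn : centralizer (A : Set G) ≤ normalizer (R : Set G) := by
    refine le_trans ?_ (iInf_normalizer_le_normalizer_iInf _)
    refine le_iInf fun a => le_trans ?_ (centralizerPPrimeCore_props (p := p) (a : G)).2.1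
    rw [zpowers_eq_closure, centralizer_closure]
    exact centralizer_le (Set.singleton_subset_iff.2 a.2.1)
  have hRc : (Nat.card R).Coprime p :=
    (centralizerPPrimeCore_props (p := p) a₀).2.2.coprime_dvd_left (card_dvd_of_le (hRle a₀ ha₀ ha₀1))
  have hAp : IsPGroup p A := IsPGroup.of_card hAk
  have hfix := coprime_fixesComponents hO hAp hRA hCn hRc
  refine eq_bot_of_centralizes_layer hO hAp hRA hCn hRc ?_
  rw [← commutator_eq_bot_iff_le_centralizer, commutator_comm, commutator_eq_bot_iff_le_centralizer,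
    layer_le_iff]
  intro L hL
  rw [← commutator_eq_bot_iff_le_centralizer]
  by_cases hex : ∃ a ∈ A, a ≠ 1 ∧ ⁅L, zpowers a⁆ ≠ L
  · obtain ⟨a, ha, ha1, hne⟩ := hex
    obtain ⟨h1, h2, h3⟩ := centralizerPPrimeCore_props (p := p) a
    have hap : a ^ p = 1 := Cfsg.Agent.Signalizer.ea_orderOf hA ha ha1 ▸ pow_orderOf_eq_one a
    rw [eq_bot_iff]
    exact (commutator_mono le_rfl (hRle a ha ha1)).trans
      (component_commute_coprime hO hap h1 h2 h3 hL hne).le
  push Not at hex
  have hLL := component_commutator_eq hL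
  have hAL : A ≤ normalizer (L : Set G) := fun a ha => by
    by_cases ha1 : a = 1
    · subst ha1; exact one_mem _
    · exact le_normalizer_iff_commutator_le_left.2 (hex a ha ha1).le (mem_zpowers a)
  have hRL : R ≤ normalizer (L : Set G) := fun r hr => mem_fixesComponents.1 (hfix hr) L hL
  let H := L ⊔ (R ⊔ A)
  have hHn : H ≤ normalizer (L : Set G) := sup_le le_normalizer (sup_le hRL hAL)
  haveI hKn := automizer_kernel_normal (L := L) hHn
  let f := QuotientGroup.mk' ((centralizer (L : Set G)).subgroupOf H)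
  have hAH : A ≤ H := le_sup_of_le_right le_sup_right
  let B := (A.subgroupOf H).map f
  have hinj : ∀ a ∈ A.subgroupOf H, f a = 1 → a = 1 := by
    intro a ha h1
    by_contra ha1
    have hac : zpowers (a : G) ≤ centralizer (L : Set G) :=
      zpowers_le.2 ((QuotientGroup.eq_one_iff (N := (centralizer (L : Set G)).subgroupOf H) a).1 h1)
    have := hex (a : G) ha (fun hc => ha1 (Subtype.ext hc))
    rw [commutator_comm, commutator_eq_bot_iff_le_centralizer.2 hac] at this
    exact component_ne_bot hL this.symm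
  have hBc : Nat.card B = p ^ k := by
    rw [← hAk, ← Nat.card_congr (subgroupOfEquivOfLe hAH).toEquiv]
    refine (Nat.card_congr (Equiv.ofBijective (fun a : A.subgroupOf H => (⟨f a, mem_map_of_mem f a.2⟩ : B)) ⟨?_, ?_⟩)).symm
    · intro a b hab
      have hab' : f a = f b := congrArg Subtype.val hab
      have h1 := hinj ((a : H) * (b : H)⁻¹) ((A.subgroupOf H).mul_mem a.2 (inv_mem b.2))
        (by rw [map_mul, map_inv, hab', mul_inv_cancel])
      exact Subtype.ext (mul_inv_eq_one.1 h1)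
    · rintro ⟨_, a, ha, rfl⟩
      exact ⟨⟨a, ha⟩, rfl⟩
  have hBel : IsElementaryAbelian p B := by
    refine ⟨⟨⟨?_⟩⟩, ?_⟩
    · rintro ⟨_, a, ha, rfl⟩ ⟨_, b, hb, rfl⟩
      refine Subtype.ext ?_
      show f a * f b = f b * f a
      rw [← map_mul, ← map_mul]
      exact congrArg f (Subtype.ext (Cfsg.Agent.Signalizer.ea_comm hA ha hb))
    · rintro _ ⟨a, ha, rfl⟩
      rw [← map_pow, show a ^ p = 1 from Subtype.ext (by simpa using hA.2 (a : G) ha), map_one]
  have hΔ := h L hL H le_sup_left hHn B hBel hBc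
  rw [commutator_comm, commutator_eq_bot_iff_le_centralizer]
  intro r hr
  have hrH : r ∈ H := mem_sup_right (mem_sup_left hr)
  refine ((QuotientGroup.eq_one_iff (N := (centralizer (L : Set G)).subgroupOf H) (⟨r, hrH⟩ : H)).1 ?_ :
    (⟨r, hrH⟩ : H) ∈ (centralizer (L : Set G)).subgroupOf H)
  rw [← mem_bot, ← hΔ]
  refine mem_iInf.2 ?_
  rintro ⟨bv, hbv, hb1⟩
  obtain ⟨a, ha, rfl⟩ := hbv
  have ha' : (a : G) ∈ A := ha
  have ha1 : (a : G) ≠ 1 := fun hc => hb1 (by rw [show a = 1 from Subtype.ext hc, map_one])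
  obtain ⟨h1, h2, h3⟩ := centralizerPPrimeCore_props (p := p) (a : G)
  let U := H ⊓ centralizer ({(a : G)} : Set G)
  have hzC : centralizer ((zpowers (a : G) : Subgroup G) : Set G) = centralizer ({(a : G)} : Set G) := by
    rw [zpowers_eq_closure, centralizer_closure]
  rw [hzC] at h1 h2
  have hAC : A ≤ centralizer ({(a : G)} : Set G) := fun x hx => by
    rw [mem_centralizer_iff]
    intro z hz
    rw [show z = (a : G) from hz]
    exact Cfsg.Agent.Signalizer.ea_comm hA ha' hx
  have hHU : L ⊔ U = H := by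
    refine le_antisymm (sup_le le_sup_left inf_le_left) (sup_le le_sup_left ?_)
    refine le_sup_of_le_right (sup_le (le_inf (le_sup_left.trans le_sup_right) ?_) (le_inf hAH hAC))
    exact (hRle _ ha' ha1).trans h1
  haveI : ((centralizer (L : Set G)).subgroupOf (L ⊔ U)).Normal :=
    automizer_kernel_normal (sup_le le_normalizer (inf_le_left.trans hHn))
  have key := image_le_centralizer_core (p := p) (x := (a : G)) (L := L) (U := U)
    (R := centralizerPPrimeCore p (a : G) ⊓ H) hL inf_le_right (inf_le_left.trans hHn)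
    ⟨a.2, hAC ha'⟩ (le_inf (inf_le_left.trans le_sup_left) inf_le_right)
    (le_inf inf_le_right (inf_le_left.trans h1))
    ((le_inf (inf_le_right.trans h2) (inf_le_left.trans le_normalizer)).trans
      inf_normalizer_le_normalizer_inf)
    (h3.coprime_dvd_left (card_dvd_of_le inf_le_left))
    (inf_le_left.trans (coprime_centralizes_layerCenter hO
      (IsPGroup.of_card (n := 1) (by rw [Nat.card_zpowers, Cfsg.Agent.Signalizer.ea_orderOf hA ha' ha1, pow_one]))
      (hzC ▸ h1) (hzC ▸ h2) h3))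
  have key' : ∀ (H' : Subgroup G) (_ : L ⊔ U = H') [((centralizer (L : Set G)).subgroupOf H').Normal]
      (r' a' : H'), (r' : G) ∈ centralizerPPrimeCore p (a : G) ⊓ H → (a' : G) = a →
      QuotientGroup.mk' ((centralizer (L : Set G)).subgroupOf H') r' ∈
        centralizerPPrimeCore p (QuotientGroup.mk' ((centralizer (L : Set G)).subgroupOf H') a') := by
    intro H' hH' _ r' a' hr' haa
    subst hH'
    have := key r' hr'
    rwa [show (⟨(a : G), mem_sup_right (show (a : G) ∈ U from ⟨a.2, hAC ha'⟩)⟩ : ↥(L ⊔ U)) = a' from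
      Subtype.ext haa.symm] at this
  exact key' H hHU ⟨r, hrH⟩ a ⟨hRle _ ha' ha1 hr, hrH⟩ rfl

omit [Finite G] [Fact p.Prime] in
theorem centralizerPPrimeCore_eq_zpowers (z : G) :
    centralizerPPrimeCore p z = (pPrimeCore p ↥(centralizer ((zpowers z : Subgroup G) : Set G))).map
      (centralizer ((zpowers z : Subgroup G) : Set G)).subtype := by
  have h : centralizer ((zpowers z : Subgroup G) : Set G) = centralizer ({z} : Set G) := by
    rw [zpowers_eq_closure, centralizer_closure]
  unfold centralizerPPrimeCore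
  rw [h]

omit [Finite G] [Fact p.Prime] in
theorem centralizerPPrimeCore_map_equiv [Finite G] {G' : Type*} [Group G'] [Finite G'] (e : G ≃* G')
    (x : G) : (centralizerPPrimeCore p x).map e.toMonoidHom = centralizerPPrimeCore p (e x) := by
  rw [centralizerPPrimeCore_eq_zpowers, centralizerPPrimeCore_eq_zpowers, centralizerCore_map_equiv,
    MonoidHom.map_zpowers]
  rfl

omit [Finite G] in
theorem signalizerDelta_eq_bot_of_equiv {X Y : Type*} [Group X] [Group Y] [Finite X] [Finite Y]
    (e : X ≃* Y)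
    {B : Subgroup X} (h : signalizerDelta p (B.map e.toMonoidHom) = ⊥) : signalizerDelta p B = ⊥ := by
  rw [eq_bot_iff]
  intro y hy
  have hy' : e y ∈ signalizerDelta p (B.map e.toMonoidHom) := by
    refine mem_iInf.2 ?_
    rintro ⟨z, hz, hz1⟩
    obtain ⟨b, hb, rfl⟩ := hz
    have hb1 : b ≠ 1 := fun hc => hz1 (by rw [hc, map_one])
    show e y ∈ centralizerPPrimeCore p (e b)
    rw [← centralizerPPrimeCore_map_equiv]
    exact mem_map_of_mem _ ((mem_iInf.1 hy) ⟨b, hb, hb1⟩)
  rw [h, mem_bot] at hy'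
  exact mem_bot.2 (e.injective (hy'.trans e.map_one.symm))

/-- An automizer of a component inside `Aut (L / Z(L))`. -/
theorem automizer_equiv {L H : Subgroup G} (hL : IsComponent L) (hLH : L ≤ H)
    (hH : H ≤ normalizer (L : Set G)) [((centralizer (L : Set G)).subgroupOf H).Normal] :
    ∃ S : Subgroup (MulAut (↥L ⧸ center ↥L)),
      (MulAut.conj : (↥L ⧸ center ↥L) →* MulAut (↥L ⧸ center ↥L)).range ≤ S ∧
        Nonempty ((↥H ⧸ (centralizer (L : Set G)).subgroupOf H) ≃* S) := by
  let c : H →* MulAut L := L.normalizerMonoidHom.comp (inclusion hH)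
  have hc : ∀ (e : H) (z : L), ((c e z : L) : G) = (e : G) * z * (e : G)⁻¹ := fun e z => rfl
  have hZ : ∀ e : H, (center ↥L).map (c e).toMonoidHom = center ↥L := fun e =>
    characteristic_iff_map_eq.1 inferInstance _
  let φ : H →* MulAut (↥L ⧸ center ↥L) :=
    { toFun := fun e => QuotientGroup.congr _ _ (c e) (hZ e)
      map_one' := MulEquiv.ext fun q => by
        induction q using QuotientGroup.induction_on with
        | _ z =>
          show ((c 1 z : L) : ↥L ⧸ center ↥L) = z
          rw [map_one]; rfl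
      map_mul' := fun a b => MulEquiv.ext fun q => by
        induction q using QuotientGroup.induction_on with
        | _ z =>
          show ((c (a * b) z : L) : ↥L ⧸ center ↥L) = ((c a (c b z) : L) : ↥L ⧸ center ↥L)
          rw [map_mul]; rfl }
  have hφ : ∀ (e : H) (z : L), φ e (z : ↥L ⧸ center ↥L) = ((c e z : L) : ↥L ⧸ center ↥L) :=
    fun e z => rfl
  have hker : φ.ker = (centralizer (L : Set G)).subgroupOf H := by
    ext e
    constructor
    · intro he
      rw [mem_subgroupOf]
      have hle : ⁅L, zpowers (e : G)⁆ ≤ centralizer (L : Set G) := by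
        rw [commutator_le]
        intro l hl w hw
        obtain ⟨i, rfl⟩ := mem_zpowers_iff.1 hw
        obtain ⟨w', hw', hww⟩ : ∃ w' : H, w' ∈ φ.ker ∧ (w' : G) = (e : G) ^ i :=
          ⟨e ^ i, φ.ker.zpow_mem he i, by simp⟩
        rw [← hww]
        have h1 := MulEquiv.ext_iff.1 (MonoidHom.mem_ker.1 hw') ((⟨l, hl⟩ : L) : ↥L ⧸ center ↥L)
        rw [hφ] at h1
        have h2 : (⟨l, hl⟩ : L) * (c w' ⟨l, hl⟩)⁻¹ ∈ center ↥L := by
          rw [← QuotientGroup.eq_one_iff, QuotientGroup.mk_mul, QuotientGroup.mk_inv, h1]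
          simp
        have h3 : ⁅l, (w' : G)⁆ = l * ((w' : G) * l * (w' : G)⁻¹)⁻¹ := by
          simp only [commutatorElement_def]; group
        rw [h3]
        exact (center_comm (((⟨l, hl⟩ : L) * (c w' ⟨l, hl⟩)⁻¹).2)).1 h2
      have := commute_of_commutator_central (component_commutator_eq hL) hle
      rw [commutator_comm, commutator_eq_bot_iff_le_centralizer] at this
      exact this (mem_zpowers _)
    · intro he
      rw [MonoidHom.mem_ker]
      refine MulEquiv.ext fun q => ?_
      induction q using QuotientGroup.induction_on with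
      | _ z =>
        rw [hφ]
        show ((c e z : L) : ↥L ⧸ center ↥L) = z
        congr 1
        refine Subtype.ext ?_
        rw [hc, show (e : G) * z = z * e from (mem_centralizer_iff.1 he z z.2).symm, mul_inv_cancel_right]
  refine ⟨φ.range, ?_, ⟨(QuotientGroup.quotientMulEquivOfEq hker).symm.trans
    (QuotientGroup.quotientKerEquivRange φ)⟩⟩
  rintro _ ⟨q, rfl⟩
  induction q using QuotientGroup.induction_on with
  | _ z =>
    refine ⟨⟨z, hLH z.2⟩, MulEquiv.ext fun w => ?_⟩
    induction w using QuotientGroup.induction_on with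
    | _ w =>
      rw [hφ, MulAut.conj_apply]
      rfl

/-- Locally balanced automizers of the components of `C(b)/O_{p'}(C(b))` give the balance inclusion. -/
theorem delta_inf_centralizer_le {k : ℕ} (hk : 1 ≤ k) {A : Subgroup G} (hA : IsElementaryAbelian p A)
    (hAk : Nat.card A = p ^ k) {b : G} (hcomm : ∀ a ∈ A, a * b = b * a)
    (h : ∀ K : Subgroup (↥(centralizer ({b} : Set G)) ⧸ pPrimeCore p ↥(centralizer ({b} : Set G))),
      IsComponent K → IsLocallyKBalanced p k (↥K ⧸ center ↥K)) :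
    signalizerDelta p A ⊓ centralizer {b} ≤ centralizerPPrimeCore p b := by
  classical
  set C := centralizer ({b} : Set G) with hC
  haveI := Cfsg.Agent.PBasic.pPrimeCore_characteristic p ↥C
  let f := QuotientGroup.mk' (pPrimeCore p ↥C)
  haveI : Finite (↥C ⧸ pPrimeCore p ↥C) := Quotient.finite _
  have hAC : A ≤ C := fun a ha => mem_centralizer_iff.2 fun z hz => by
    rw [show z = b from hz, hcomm a ha]
  let B := (A.subgroupOf C).map f
  have hcop := Cfsg.Agent.PBasic.pPrimeCore_coprime p ↥C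
  have hinj : ∀ a : C, a ∈ A.subgroupOf C → f a = 1 → a = 1 := fun a ha h1 =>
    Cfsg.Agent.PBasic.eq_one_of_isPGroup_of_coprime
      ((IsPGroup.of_card hAk).comap_of_injective C.subtype C.subtype_injective) ha
      (Cfsg.Agent.PBasic.coprime_orderOf_of_mem hcop ((QuotientGroup.eq_one_iff a).1 h1))
  have hBc : Nat.card B = p ^ k := by
    rw [← hAk, ← Nat.card_congr (subgroupOfEquivOfLe hAC).toEquiv]
    refine (Nat.card_congr (Equiv.ofBijective (fun a : A.subgroupOf C => (⟨f a, mem_map_of_mem f a.2⟩ : B)) ⟨?_, ?_⟩)).symm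
    · intro a a' hab
      have hab' : f a = f a' := congrArg Subtype.val hab
      have h1 := hinj ((a : C) * (a' : C)⁻¹) ((A.subgroupOf C).mul_mem a.2 (inv_mem a'.2))
        (by rw [map_mul, map_inv, hab', mul_inv_cancel])
      exact Subtype.ext (mul_inv_eq_one.1 h1)
    · rintro ⟨_, a, ha, rfl⟩
      exact ⟨⟨a, ha⟩, rfl⟩
  have hBel : IsElementaryAbelian p B := by
    refine ⟨⟨⟨?_⟩⟩, ?_⟩
    · rintro ⟨_, a, ha, rfl⟩ ⟨_, a', ha', rfl⟩
      refine Subtype.ext ?_
      show f a * f a' = f a' * f a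
      rw [← map_mul, ← map_mul]
      exact congrArg f (Subtype.ext (Cfsg.Agent.Signalizer.ea_comm hA ha ha'))
    · rintro _ ⟨a, ha, rfl⟩
      rw [← map_pow, show a ^ p = 1 from Subtype.ext (by simpa using hA.2 (a : G) ha), map_one]
  have hΔ : signalizerDelta p B = ⊥ := signalizerDelta_eq_bot (pPrimeCore_quotient ↥C) hk B hBel hBc
    fun L hL H hLH hH _ B' hB' hB'c => by
      obtain ⟨S, hS, ⟨e⟩⟩ := automizer_equiv hL hLH hH
      refine signalizerDelta_eq_bot_of_equiv e (h L hL S hS _ ⟨⟨⟨?_⟩⟩, ?_⟩ ?_)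
      · rintro ⟨_, x, hx, rfl⟩ ⟨_, y, hy, rfl⟩
        refine Subtype.ext ?_
        show e x * e y = e y * e x
        rw [← map_mul, ← map_mul, Cfsg.Agent.Signalizer.ea_comm hB' hx hy]
      · rintro _ ⟨x, hx, rfl⟩
        rw [← map_pow, hB'.2 x hx, map_one]
      · rw [card_map_of_injective e.injective, hB'c]
  intro x hx
  refine ⟨⟨x, hx.2⟩, (QuotientGroup.eq_one_iff _).1 ?_, rfl⟩
  rw [← mem_bot, ← hΔ]
  refine mem_iInf.2 ?_
  rintro ⟨_, ⟨a, ha, rfl⟩, hfa⟩
  have ha' : (a : G) ∈ A := ha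
  have ha1 : (a : G) ≠ 1 := fun hc => hfa (by rw [show a = 1 from Subtype.ext hc, map_one])
  have hxa : x ∈ centralizerPPrimeCore p (a : G) := (mem_iInf.1 hx.1) ⟨a, ha', ha1⟩
  obtain ⟨h1, h2, h3⟩ := centralizerPPrimeCore_props (p := p) (a : G)
  let R : Subgroup C := (centralizerPPrimeCore p (a : G)).subgroupOf C
  have hao : orderOf a = p := by rw [← orderOf_coe]; exact Cfsg.Agent.Signalizer.ea_orderOf hA ha' ha1
  set Ca := centralizer ({f a} : Set (↥C ⧸ pPrimeCore p ↥C))
  -- elements of `C` centralizing `a` modulo the core come from `C(a)`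
  have hlift : ∀ c : C, f c ∈ Ca → ∃ c' : C, c' * a = a * c' ∧ f c' = f c := by
    intro c hc
    let M := pPrimeCore p ↥C ⊔ zpowers a
    have haM : a ∈ M := mem_sup_right (mem_zpowers a)
    have hc' := mem_centralizer_iff.1 hc _ rfl
    have hcaM : c * a * c⁻¹ ∈ M := by
      have h1 : f (c * a * c⁻¹ * a⁻¹) = 1 := by
        rw [map_mul, map_mul, map_mul, map_inv, map_inv, ← hc']; group
      have := M.mul_mem (mem_sup_left (T := zpowers a) ((QuotientGroup.eq_one_iff _).1 h1)) haM
      simpa using this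
    have hMc : Nat.card M = Nat.card (pPrimeCore p ↥C) * p := by
      have h1 := Cfsg.Agent.SolvBasic.card_sup_mul_card_inf
        (le_normalizer_of_normal : zpowers a ≤ normalizer ((pPrimeCore p ↥C : Subgroup C) : Set C))
      have h2 : pPrimeCore p ↥C ⊓ zpowers a = ⊥ := Cfsg.Agent.PBasic.inf_eq_bot_of_coprime hcop
        (IsPGroup.of_card (n := 1) (by rw [Nat.card_zpowers, hao, pow_one]))
      rw [h2, Subgroup.card_bot, mul_one, Nat.card_zpowers, hao] at h1
      exact h1
    have hsyl : ∀ y : M, orderOf y = p → ∃ P : Sylow p M, (P : Subgroup M) = zpowers y := by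
      intro y hy
      have hy' : IsPGroup p (zpowers y) := IsPGroup.of_card (n := 1) (by rw [Nat.card_zpowers, hy, pow_one])
      refine ⟨hy'.toSylow ?_, IsPGroup.toSylow_coe _ _⟩
      intro hd
      have h1 := (zpowers y).card_mul_index
      rw [Nat.card_zpowers, hy, hMc, mul_comm (Nat.card _) p] at h1
      rw [Nat.eq_of_mul_eq_mul_left (Fact.out : p.Prime).pos h1] at hd
      exact ((Fact.out : p.Prime).coprime_iff_not_dvd.1 hcop.symm) hd
    obtain ⟨P, hP⟩ := hsyl ⟨a, haM⟩ (by rw [← orderOf_coe]; exact hao)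
    obtain ⟨Q, hQ⟩ := hsyl ⟨c * a * c⁻¹, hcaM⟩ (by
      rw [← orderOf_coe]
      show orderOf (MulAut.conj c a) = p
      rw [MulEquiv.orderOf_eq]; exact hao)
    obtain ⟨m, hm⟩ := MulAction.exists_smul_eq M Q P
    have hmem : m * ⟨c * a * c⁻¹, hcaM⟩ * m⁻¹ ∈ zpowers (⟨a, haM⟩ : M) := by
      rw [← hP, ← hm, Sylow.coe_subgroup_smul]
      exact ⟨_, by rw [hQ]; exact mem_zpowers _, rfl⟩
    obtain ⟨i, hi⟩ := mem_zpowers_iff.1 hmem
    have hm' : (m : C) ∈ ((pPrimeCore p ↥C ⊔ zpowers a : Subgroup C) : Set C) := m.2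
    rw [normal_mul] at hm'
    obtain ⟨n, hn, w, hw, hnw⟩ := hm'
    obtain ⟨j, rfl⟩ := mem_zpowers_iff.1 hw
    have hfn : f n = 1 := (QuotientGroup.eq_one_iff n).2 hn
    have hi' : a ^ i = (n * a ^ j) * (c * a * c⁻¹) * (n * a ^ j)⁻¹ := by
      have h4 := congrArg (fun z : M => (z : C)) hi
      simp only [Subgroup.coe_mul, Subgroup.coe_inv, SubgroupClass.coe_zpow] at h4
      rw [h4, ← hnw]
    have hai : a ^ i = a := by
      have h5 := congrArg f hi'
      simp only [map_mul, map_inv, map_zpow, hfn, one_mul] at h5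
      have h7 : f c * f a * (f c)⁻¹ = f a := by rw [← hc']; group
      rw [h7, show f a ^ j * f a * (f a ^ j)⁻¹ = f a by group] at h5
      rw [← mul_inv_eq_one]
      refine hinj _ ((A.subgroupOf C).mul_mem ((A.subgroupOf C).zpow_mem ha i) (inv_mem ha)) ?_
      rw [map_mul, map_inv, map_zpow, h5, mul_inv_cancel]
    refine ⟨a ^ (-j) * n * a ^ j * c, ?_, ?_⟩
    · have h6 : n * a ^ j * c * a = a * (n * a ^ j * c) := by
        rw [hai] at hi'
        rw [eq_mul_inv_iff_mul_eq] at hi'
        calc n * a ^ j * c * a = n * a ^ j * (c * a * c⁻¹) * c := by group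
          _ = a * (n * a ^ j) * c := by rw [hi']
          _ = _ := by group
      calc a ^ (-j) * n * a ^ j * c * a = a ^ (-j) * (n * a ^ j * c * a) := by group
        _ = a ^ (-j) * (a * (n * a ^ j * c)) := by rw [h6]
        _ = _ := by group
    · rw [map_mul, map_mul, map_mul, hfn, map_zpow, map_zpow]
      group
  have hRC : (R.map f).subgroupOf Ca ≤ pPrimeCore p ↥Ca := by
    refine Cfsg.Agent.PBasic.le_pPrimeCore ⟨?_⟩ ?_
    · rintro ⟨_, _⟩ ⟨r, hr, rfl⟩ ⟨cb, hcb⟩
      obtain ⟨c, rfl⟩ := QuotientGroup.mk'_surjective _ cb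
      obtain ⟨c', hc'a, hc'f⟩ := hlift c hcb
      refine ⟨c' * r * c'⁻¹, ?_, by rw [map_mul, map_mul, map_inv, hc'f]; rfl⟩
      refine (mem_normalizer_iff.1 (h2 ?_) _).1 hr
      rw [zpowers_eq_closure, centralizer_closure, mem_centralizer_iff]
      intro z hz
      rw [show z = (a : G) from hz]
      exact (congrArg Subtype.val hc'a).symm
    · rw [Nat.card_congr (subgroupOfEquivOfLe ?_).toEquiv]
      · refine Nat.Coprime.coprime_dvd_left (card_map_dvd _ f) ?_
        refine Nat.Coprime.coprime_dvd_left ?_ h3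
        exact card_comap_dvd_of_injective _ C.subtype C.subtype_injective
      · rintro _ ⟨r, hr, rfl⟩
        rw [mem_centralizer_iff]
        rintro _ rfl
        rw [← map_mul, ← map_mul]
        exact congrArg f (Subtype.ext (mem_centralizer_iff.1 (h1 hr) (a : G) (mem_zpowers _)))
  have hfx : f ⟨x, hx.2⟩ ∈ Ca := by
    rw [mem_centralizer_iff]
    rintro _ rfl
    rw [← map_mul, ← map_mul]
    exact congrArg f (Subtype.ext (mem_centralizer_iff.1 (h1 hxa) (a : G) (mem_zpowers _)))
  exact ⟨⟨f ⟨x, hx.2⟩, hfx⟩, hRC ⟨⟨x, hx.2⟩, hxa, rfl⟩, rfl⟩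

end Cfsg.Agent.Components
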