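import Mathlib.GroupTheory.Sylow
import Mathlib.GroupTheory.Nilpotent
import Mathlib.GroupTheory.Solvable
import Mathlib.GroupTheory.IsSubnormal
import Mathlib.GroupTheory.GroupAction.ConjAct
import Cfsg.Prelude.Def_Solvable

/-!
Fitting's theorem, the solvable radical, and their behaviour on subnormal subgroups.
-/

set_option autoImplicit false
set_option linter.style.haveILetI false

namespace Cfsg.Agent.Components

open Subgroup

variable {G G' : Type*} [Group G] [Group G']

theorem isSolvable_congr (e : G ≃* G') : Group.IsSolvable G ↔ Group.IsSolvable G' := by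
  constructor
  · intro h
    exact Group.isSolvable_of_surjective (f := e.toMonoidHom) e.surjective
  · intro h
    exact Group.isSolvable_of_surjective (f := e.symm.toMonoidHom) e.symm.surjective

theorem isSolvable_map (f : G →* G') (H : Subgroup G) [Group.IsSolvable ↥H] :
    Group.IsSolvable ↥(H.map f) :=
  Group.isSolvable_of_surjective (f := f.subgroupMap H) (f.subgroupMap_surjective H)

theorem isNilpotent_map (f : G →* G') (H : Subgroup G) [Group.IsNilpotent ↥H] :
    Group.IsNilpotent ↥(H.map f) :=
  Group.nilpotent_of_surjective (f.subgroupMap H) (f.subgroupMap_surjective H)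

theorem isSolvable_mono {H K : Subgroup G} (h : H ≤ K) [Group.IsSolvable ↥K] :
    Group.IsSolvable ↥H :=
  Group.isSolvable_of_isSolvable_injective (inclusion_injective h)

theorem isSolvable_of_sup_eq_top (A B : Subgroup G) [A.Normal] [Group.IsSolvable ↥A]
    [Group.IsSolvable ↥B] (h : A ⊔ B = ⊤) : Group.IsSolvable G := by
  have hs : Function.Surjective ((QuotientGroup.mk' A).comp B.subtype) := by
    intro x
    obtain ⟨g, rfl⟩ := QuotientGroup.mk'_surjective A x
    have hg : g ∈ A ⊔ B := h ▸ mem_top g
    obtain ⟨a, ha, b, hb, rfl⟩ := mem_sup_of_normal_left.1 hg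
    refine ⟨⟨b, hb⟩, ?_⟩
    have : QuotientGroup.mk' A a = 1 := (QuotientGroup.eq_one_iff a).2 ha
    simp [map_mul, this]
  haveI : Group.IsSolvable (G ⧸ A) := Group.isSolvable_of_surjective hs
  exact Group.isSolvable_of_ker_le_range A.subtype (QuotientGroup.mk' A) (by simp)

theorem isSolvable_sup (A B : Subgroup G) (hAB : B ≤ normalizer (A : Set G))
    [Group.IsSolvable ↥A] [Group.IsSolvable ↥B] : Group.IsSolvable ↥(A ⊔ B) := by
  haveI : (A.subgroupOf (A ⊔ B)).Normal :=
    (normal_subgroupOf_iff_le_normalizer le_sup_left).2 (sup_le le_normalizer hAB)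
  haveI : Group.IsSolvable ↥(A.subgroupOf (A ⊔ B)) :=
    (isSolvable_congr (subgroupOfEquivOfLe le_sup_left)).2 inferInstance
  haveI : Group.IsSolvable ↥(B.subgroupOf (A ⊔ B)) :=
    (isSolvable_congr (subgroupOfEquivOfLe le_sup_right)).2 inferInstance
  exact isSolvable_of_sup_eq_top (A.subgroupOf (A ⊔ B)) (B.subgroupOf (A ⊔ B))
    (by rw [← subgroupOf_sup le_sup_left le_sup_right, subgroupOf_self])

theorem card_dvd_of_sup_eq_top (A B : Subgroup G) [A.Normal] (h : A ⊔ B = ⊤) :
    Nat.card G ∣ Nat.card A * Nat.card B := by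
  rw [← card_mul_index A]
  refine Nat.mul_dvd_mul_left _ ?_
  apply card_dvd_of_surjective ((QuotientGroup.mk' A).comp B.subtype)
  intro x
  obtain ⟨g, rfl⟩ := QuotientGroup.mk'_surjective A x
  have hg : g ∈ A ⊔ B := h ▸ mem_top g
  obtain ⟨a, ha, b, hb, rfl⟩ := mem_sup_of_normal_left.1 hg
  refine ⟨⟨b, hb⟩, ?_⟩
  have : QuotientGroup.mk' A a = 1 := (QuotientGroup.eq_one_iff a).2 ha
  simp [map_mul, this]

/-- Fitting's theorem. -/
theorem isNilpotent_of_sup_eq_top [Finite G] (A B : Subgroup G) [A.Normal] [B.Normal]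
    [Group.IsNilpotent ↥A] [Group.IsNilpotent ↥B] (h : A ⊔ B = ⊤) : Group.IsNilpotent G := by
  refine (Group.isNilpotent_of_finite_tfae.out 0 3).2 ?_
  intro p hp P
  haveI := hp
  have key : ∀ (C : Subgroup G) [C.Normal] [Group.IsNilpotent ↥C],
      ∃ K : Subgroup G, K.Normal ∧ IsPGroup p K ∧ K ≤ C ∧ ¬ p ∣ K.relIndex C := by
    intro C _ _
    let Q : Sylow p C := default
    haveI hQn : (Q : Subgroup C).Normal :=
      (((Group.isNilpotent_of_finite_tfae (G := ↥C)).out 0 3 :
        Group.IsNilpotent ↥C ↔ ∀ (p : ℕ) (_ : Fact p.Prime) (P : Sylow p ↥C), (P : Subgroup ↥C).Normal)).1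
        (inferInstance : Group.IsNilpotent C) p hp Q
    haveI : (Q : Subgroup C).Characteristic := Q.characteristic_of_normal hQn
    refine ⟨(Q : Subgroup C).map C.subtype, inferInstance, Q.isPGroup'.map _, map_subtype_le _, ?_⟩
    have : ((Q : Subgroup C).map C.subtype).relIndex C = (Q : Subgroup C).index := by
      unfold relIndex
      congr 1
      exact comap_map_eq_self_of_injective (subtype_injective C) _
    rw [this]
    exact Q.not_dvd_index
  obtain ⟨Ka, hKan, hKap, hKaA, hKai⟩ := key A
  obtain ⟨Kb, hKbn, hKbp, hKbB, hKbi⟩ := key B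
  haveI := hKan
  haveI := hKbn
  let K : Subgroup G := Ka ⊔ Kb
  have hKp : IsPGroup p K := hKap.to_sup_of_normal_right hKbp
  have hdvd : ∀ (C D : Subgroup G), D ≤ K →
      Nat.card (C.map (QuotientGroup.mk' K)) ∣ D.relIndex C := by
    intro C D hD
    have e : Nat.card (C.map (QuotientGroup.mk' K)) = K.relIndex C := by
      have h1 := index_ker ((QuotientGroup.mk' K).comp C.subtype)
      rw [MonoidHom.range_comp, range_subtype, ← MonoidHom.comap_ker, QuotientGroup.ker_mk'] at h1
      exact h1.symm
    rw [e]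
    exact relIndex_dvd_of_le_left C hD
  have hcop : ¬ p ∣ K.index := by
    intro hdiv
    haveI : (A.map (QuotientGroup.mk' K)).Normal :=
      Normal.map inferInstance _ (QuotientGroup.mk'_surjective K)
    have hsup : A.map (QuotientGroup.mk' K) ⊔ B.map (QuotientGroup.mk' K) = ⊤ := by
      rw [← Subgroup.map_sup, h, map_top_of_surjective _ (QuotientGroup.mk'_surjective K)]
    have hd := card_dvd_of_sup_eq_top _ _ hsup
    rw [← index_eq_card] at hd
    rcases hp.out.dvd_mul.1 (hdiv.trans hd) with h' | h'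
    · exact hKai (h'.trans (hdvd A Ka le_sup_left))
    · exact hKbi (h'.trans (hdvd B Kb le_sup_right))
  have hKP : K ≤ P := by
    obtain ⟨R, hR⟩ := hKp.exists_le_sylow
    obtain ⟨g, hg⟩ := MulAction.exists_smul_eq G R P
    intro x hx
    rw [← hg]
    have hx' : g⁻¹ * x * g ∈ K := by
      simpa using (inferInstance : K.Normal).conj_mem x hx g⁻¹
    exact ⟨g⁻¹ * x * g, hR hx', by simp [mul_assoc]⟩
  have hPK : (P : Subgroup G) = K := by
    refine le_antisymm ?_ hKP
    have hcP : Nat.Coprime (Nat.card P) K.index := by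
      obtain ⟨n, hn⟩ := P.isPGroup'.exists_card_eq
      rw [hn]
      exact ((hp.out.coprime_iff_not_dvd.2 hcop)).pow_left n
    have := relIndex_dvd_index_of_normal K (P : Subgroup G)
    have h1 : K.relIndex P = 1 :=
      Nat.eq_one_of_dvd_coprimes hcP (relIndex_dvd_card K P) this
    exact relIndex_eq_one.1 h1
  rw [hPK]
  infer_instance

theorem isNilpotent_sup [Finite G] (A B : Subgroup G) [A.Normal] [B.Normal]
    [Group.IsNilpotent ↥A] [Group.IsNilpotent ↥B] : Group.IsNilpotent ↥(A ⊔ B) := by
  haveI : (A.subgroupOf (A ⊔ B)).Normal := normal_subgroupOf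
  haveI : (B.subgroupOf (A ⊔ B)).Normal := normal_subgroupOf
  haveI : Group.IsNilpotent ↥(A.subgroupOf (A ⊔ B)) :=
    Group.nilpotent_of_mulEquiv (subgroupOfEquivOfLe le_sup_left).symm
  haveI : Group.IsNilpotent ↥(B.subgroupOf (A ⊔ B)) :=
    Group.nilpotent_of_mulEquiv (subgroupOfEquivOfLe le_sup_right).symm
  exact isNilpotent_of_sup_eq_top (A.subgroupOf (A ⊔ B)) (B.subgroupOf (A ⊔ B))
    (by rw [← subgroupOf_sup le_sup_left le_sup_right, subgroupOf_self])

theorem fittingSubgroup_spec [Finite G] :
    (Cfsg.fittingSubgroup G).Normal ∧ Group.IsNilpotent ↥(Cfsg.fittingSubgroup G) := by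
  set s := {N : Subgroup G | N.Normal ∧ Group.IsNilpotent N}
  suffices ∀ t : Set (Subgroup G), t.Finite → t ⊆ s → (sSup t) ∈ s from
    this s (Set.toFinite s) subset_rfl
  intro t ht
  induction t, ht using Set.Finite.induction_on with
  | empty =>
    intro _
    rw [sSup_empty]
    exact ⟨normal_bot, inferInstance⟩
  | @insert a t' _ _ ih =>
    intro hsub
    obtain ⟨ha, ha'⟩ := hsub (Set.mem_insert _ _)
    obtain ⟨hb, hb'⟩ := ih ((Set.subset_insert _ _).trans hsub)
    rw [sSup_insert]
    haveI := ha
    haveI := ha'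
    haveI := hb
    haveI := hb'
    exact ⟨inferInstance, isNilpotent_sup _ _⟩

theorem fittingSubgroup_normal : (Cfsg.fittingSubgroup G).Normal :=
  Subgroup.sSup_normal _ (fun _ h => h.1)

theorem fittingSubgroup_nilpotent [Finite G] : Group.IsNilpotent ↥(Cfsg.fittingSubgroup G) :=
  fittingSubgroup_spec.2

theorem le_fittingSubgroup {N : Subgroup G} (hN : N.Normal) (hn : Group.IsNilpotent ↥N) :
    N ≤ Cfsg.fittingSubgroup G :=
  le_sSup ⟨hN, hn⟩

theorem fittingSubgroup_map_le (e : G ≃* G') :
    (Cfsg.fittingSubgroup G).map e.toMonoidHom ≤ Cfsg.fittingSubgroup G' := by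
  rw [Cfsg.fittingSubgroup, map_le_iff_le_comap]
  refine sSup_le fun N hN => map_le_iff_le_comap.1 ?_
  haveI := hN.2
  exact le_fittingSubgroup (hN.1.map _ e.surjective) (isNilpotent_map _ N)

theorem fittingSubgroup_map_equiv (e : G ≃* G') :
    (Cfsg.fittingSubgroup G).map e.toMonoidHom = Cfsg.fittingSubgroup G' := by
  refine le_antisymm (fittingSubgroup_map_le e) fun x hx => ?_
  exact ⟨e.symm x, fittingSubgroup_map_le e.symm ⟨x, hx, rfl⟩, by simp⟩

theorem fittingSubgroup_characteristic : (Cfsg.fittingSubgroup G).Characteristic :=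
  characteristic_iff_map_eq.2 fun e => fittingSubgroup_map_equiv e

theorem fittingSubgroup_eq_top (h : Group.IsNilpotent G) : Cfsg.fittingSubgroup G = ⊤ :=
  top_le_iff.1 (le_fittingSubgroup inferInstance (Group.isNilpotent_top.2 h))

/-- The Fitting subgroup of a subnormal subgroup lies in the Fitting subgroup. -/
theorem fitting_map_le_of_subnormal [Finite G] {H : Subgroup G} (hH : H.IsSubnormal) :
    (Cfsg.fittingSubgroup ↥H).map H.subtype ≤ Cfsg.fittingSubgroup G := by
  induction hH with
  | top => exact fittingSubgroup_map_le (topEquiv (G := G))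
  | step H K hle hK hN ih =>
    haveI := hN
    haveI : (Cfsg.fittingSubgroup ↥(H.subgroupOf K)).Characteristic := fittingSubgroup_characteristic
    haveI : Group.IsNilpotent ↥(Cfsg.fittingSubgroup ↥(H.subgroupOf K)) := fittingSubgroup_nilpotent
    have h1 : (Cfsg.fittingSubgroup ↥(H.subgroupOf K)).map (H.subgroupOf K).subtype ≤
        Cfsg.fittingSubgroup ↥K :=
      le_fittingSubgroup inferInstance (isNilpotent_map _ _)
    have h2 : (Cfsg.fittingSubgroup ↥H) =
        (Cfsg.fittingSubgroup ↥(H.subgroupOf K)).map (subgroupOfEquivOfLe hle).toMonoidHom :=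
      (fittingSubgroup_map_equiv _).symm
    rw [h2, map_map]
    calc _ = ((Cfsg.fittingSubgroup ↥(H.subgroupOf K)).map (H.subgroupOf K).subtype).map K.subtype := by
            rw [map_map]; rfl
      _ ≤ (Cfsg.fittingSubgroup ↥K).map K.subtype := map_mono h1
      _ ≤ _ := ih

theorem subnormal_nilpotent_le_fitting [Finite G] {H : Subgroup G} (hH : H.IsSubnormal)
    (hn : Group.IsNilpotent ↥H) : H ≤ Cfsg.fittingSubgroup G := by
  have := fitting_map_le_of_subnormal hH
  rwa [fittingSubgroup_eq_top hn, ← MonoidHom.range_eq_map, range_subtype] at this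

/-- The solvable radical. -/
def solvRadical (G : Type*) [Group G] : Subgroup G :=
  sSup {N : Subgroup G | N.Normal ∧ Group.IsSolvable N}

theorem solvRadical_normal : (solvRadical G).Normal :=
  Subgroup.sSup_normal _ (fun _ h => h.1)

theorem solvRadical_solvable [Finite G] : Group.IsSolvable ↥(solvRadical G) := by
  set s := {N : Subgroup G | N.Normal ∧ Group.IsSolvable N}
  suffices ∀ t : Set (Subgroup G), t.Finite → t ⊆ s → (sSup t) ∈ s from
    (this s (Set.toFinite s) subset_rfl).2
  intro t ht
  induction t, ht using Set.Finite.induction_on with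
  | empty =>
    intro _
    rw [sSup_empty]
    exact ⟨normal_bot, inferInstance⟩
  | @insert a t' _ _ ih =>
    intro hsub
    obtain ⟨ha, ha'⟩ := hsub (Set.mem_insert _ _)
    obtain ⟨hb, hb'⟩ := ih ((Set.subset_insert _ _).trans hsub)
    rw [sSup_insert]
    haveI := ha
    haveI := ha'
    haveI := hb
    haveI := hb'
    exact ⟨inferInstance, isSolvable_sup _ _ le_normalizer_of_normal⟩

theorem le_solvRadical {N : Subgroup G} (hN : N.Normal) (hn : Group.IsSolvable ↥N) :
    N ≤ solvRadical G :=
  le_sSup ⟨hN, hn⟩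

theorem solvRadical_map_le (e : G ≃* G') :
    (solvRadical G).map e.toMonoidHom ≤ solvRadical G' := by
  rw [solvRadical, map_le_iff_le_comap]
  refine sSup_le fun N hN => map_le_iff_le_comap.1 ?_
  haveI := hN.2
  exact le_solvRadical (hN.1.map _ e.surjective) (isSolvable_map _ N)

theorem solvRadical_map_equiv (e : G ≃* G') :
    (solvRadical G).map e.toMonoidHom = solvRadical G' := by
  refine le_antisymm (solvRadical_map_le e) fun x hx => ?_
  exact ⟨e.symm x, solvRadical_map_le e.symm ⟨x, hx, rfl⟩, by simp⟩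

theorem solvRadical_characteristic : (solvRadical G).Characteristic :=
  characteristic_iff_map_eq.2 fun e => solvRadical_map_equiv e

theorem solvRadical_map_le_of_subnormal [Finite G] {H : Subgroup G} (hH : H.IsSubnormal) :
    (solvRadical ↥H).map H.subtype ≤ solvRadical G := by
  induction hH with
  | top => exact solvRadical_map_le (topEquiv (G := G))
  | step H K hle hK hN ih =>
    haveI := hN
    haveI : (solvRadical ↥(H.subgroupOf K)).Characteristic := solvRadical_characteristic
    haveI : Group.IsSolvable ↥(solvRadical ↥(H.subgroupOf K)) := solvRadical_solvable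
    have h1 : (solvRadical ↥(H.subgroupOf K)).map (H.subgroupOf K).subtype ≤ solvRadical ↥K :=
      le_solvRadical inferInstance (isSolvable_map _ _)
    have h2 : solvRadical ↥H =
        (solvRadical ↥(H.subgroupOf K)).map (subgroupOfEquivOfLe hle).toMonoidHom :=
      (solvRadical_map_equiv _).symm
    rw [h2, map_map]
    calc _ = ((solvRadical ↥(H.subgroupOf K)).map (H.subgroupOf K).subtype).map K.subtype := by
            rw [map_map]; rfl
      _ ≤ (solvRadical ↥K).map K.subtype := map_mono h1
      _ ≤ _ := ih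

theorem subnormal_solvable_le_radical [Finite G] {H : Subgroup G} (hH : H.IsSubnormal)
    (hn : Group.IsSolvable ↥H) : H ≤ solvRadical G := by
  have := solvRadical_map_le_of_subnormal hH
  have ht : solvRadical ↥H = ⊤ :=
    top_le_iff.1 (le_solvRadical inferInstance
      ((isSolvable_congr (topEquiv (G := ↥H))).2 hn))
  rw [ht, ← MonoidHom.range_eq_map, range_subtype] at this
  exact this

end Cfsg.Agent.Components
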