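import Cfsg.Agent.Lib.Components.Basic

/-!
The generalized Fitting subgroup.
-/

set_option autoImplicit false
set_option linter.style.haveILetI false

namespace Cfsg.Agent.Components

open Subgroup

variable {G G' : Type*} [Group G] [Group G']

theorem generalizedFitting_map_equiv (e : G ≃* G') :
    (generalizedFittingSubgroup G).map e.toMonoidHom = generalizedFittingSubgroup G' := by
  rw [generalizedFittingSubgroup, Subgroup.map_sup, layer_map_equiv, fittingSubgroup_map_equiv]
  rfl

theorem generalizedFitting_characteristic : (generalizedFittingSubgroup G).Characteristic :=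
  characteristic_iff_map_eq.2 fun e => generalizedFitting_map_equiv e

theorem generalizedFitting_normal : (generalizedFittingSubgroup G).Normal := by
  haveI := generalizedFitting_characteristic (G := G)
  infer_instance

theorem layer_le_generalizedFitting : layer G ≤ generalizedFittingSubgroup G := le_sup_left

theorem fitting_le_generalizedFitting : fittingSubgroup G ≤ generalizedFittingSubgroup G :=
  le_sup_right

theorem isNilpotent_mono {H K : Subgroup G} (h : H ≤ K) [Group.IsNilpotent ↥K] :
    Group.IsNilpotent ↥H :=
  Group.nilpotent_of_mulEquiv (subgroupOfEquivOfLe h)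

theorem fitting_solvable [Finite G] : Group.IsSolvable ↥(fittingSubgroup G) := by
  haveI := fittingSubgroup_nilpotent (G := G)
  infer_instance

theorem fitting_le_solvRadical [Finite G] : fittingSubgroup G ≤ solvRadical G :=
  le_solvRadical fittingSubgroup_normal fitting_solvable

theorem layer_commute_normal_solvable [Finite G] {R : Subgroup G} (hR : R.Normal)
    (hs : Group.IsSolvable ↥R) : ⁅layer G, R⁆ = ⊥ := by
  haveI := hR
  exact layer_commute_solvable hs le_normalizer_of_normal

theorem layer_fitting_commute [Finite G] : ⁅layer G, fittingSubgroup G⁆ = ⊥ :=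
  layer_commute_normal_solvable fittingSubgroup_normal fitting_solvable

theorem fitting_le_centralizer_layer [Finite G] :
    fittingSubgroup G ≤ centralizer (layer G : Set G) :=
  commutator_eq_bot_iff_le_centralizer.1 (by rw [commutator_comm]; exact layer_fitting_commute)

theorem layer_le_centralizer_fitting [Finite G] :
    layer G ≤ centralizer (fittingSubgroup G : Set G) :=
  commutator_eq_bot_iff_le_centralizer.1 layer_fitting_commute

theorem layer_solvRadical_commute [Finite G] : ⁅layer G, solvRadical G⁆ = ⊥ :=
  layer_commute_normal_solvable solvRadical_normal solvRadical_solvable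

theorem center_map_subtype (H : Subgroup G) :
    (center ↥H).map H.subtype = H ⊓ centralizer (H : Set G) := by
  ext x
  constructor
  · rintro ⟨y, hy, rfl⟩
    refine ⟨y.2, mem_centralizer_iff.2 fun h hh => ?_⟩
    exact congrArg Subtype.val (mem_center_iff.1 hy ⟨h, hh⟩)
  · rintro ⟨h1, h2⟩
    exact ⟨⟨x, h1⟩, mem_center_iff.2 fun g => Subtype.ext (mem_centralizer_iff.1 h2 g g.2), rfl⟩

theorem le_center_of_commute {H S : Subgroup G} (hS : S ≤ H) (h : S ≤ centralizer (H : Set G)) :
    S.subgroupOf H ≤ center ↥H := fun x hx =>
  mem_center_iff.2 fun g => Subtype.ext (mem_centralizer_iff.1 (h hx) g g.2)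

theorem isNilpotent_of_commutator_le_center (h : commutator G ≤ center G) :
    Group.IsNilpotent G := by
  apply Group.of_quotient_center_nilpotent
  haveI : IsMulCommutative (G ⧸ center G) := by
    rw [← commutator_eq_bot_iff, commutator_def,
      ← map_top_of_surjective (QuotientGroup.mk' (center G)) (QuotientGroup.mk'_surjective _),
      ← Subgroup.map_commutator, Subgroup.map_eq_bot_iff, QuotientGroup.ker_mk']
    exact h
  letI : CommGroup (G ⧸ center G) :=
    { (inferInstance : Group (G ⧸ center G)) with mul_comm := fun a b => mul_comm' a b }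
  infer_instance

/-- `C_G(F*(G)) ≤ F*(G)`. -/
theorem centralizer_generalizedFitting_le [Finite G] :
    centralizer (generalizedFittingSubgroup G : Set G) ≤ generalizedFittingSubgroup G := by
  haveI hFn : (generalizedFittingSubgroup G).Normal := generalizedFitting_normal
  set F := generalizedFittingSubgroup G
  set C := centralizer (F : Set G)
  haveI hCn : C.Normal := inferInstance
  by_contra hcon
  obtain ⟨M, ⟨hMn, hMC, hMF⟩, hmin⟩ :=
    (Set.toFinite {M : Subgroup G | M.Normal ∧ M ≤ C ∧ ¬ M ≤ F}).exists_minimal ⟨C, hCn, le_rfl, hcon⟩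
  haveI := hMn
  have hsmall : ∀ N : Subgroup G, N.Normal → N ≤ M → N ≠ M → N ≤ F := by
    intro N hN hle hne
    by_contra hc
    exact hne (le_antisymm hle (hmin ⟨hN, hle.trans hMC, hc⟩ hle))
  have hFM : ∀ N : Subgroup G, N ≤ M → N ≤ F → N.subgroupOf M ≤ center ↥M := by
    intro N hle hNF
    refine le_center_of_commute hle ?_
    rw [le_centralizer_iff]
    exact hMC.trans (centralizer_le hNF)
  have hperf : ⁅M, M⁆ = M := by
    by_contra hne
    have h1 := hsmall ⁅M, M⁆ inferInstance (commutator_le_self M) hne
    have h2 : commutator ↥M ≤ center ↥M := by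
      have := hFM ⁅M, M⁆ (commutator_le_self M) h1
      rwa [← map_subtype_commutator, subgroupOf, comap_map_eq_self_of_injective M.subtype_injective]
        at this
    exact hMF ((le_fittingSubgroup hMn (isNilpotent_of_commutator_le_center h2)).trans
      fitting_le_generalizedFitting)
  haveI hMperf : Group.IsPerfect ↥M := Subgroup.isPerfect_iff.2 hperf
  haveI : Nontrivial ↥M := by
    rw [nontrivial_iff_ne_bot]
    rintro rfl
    exact hMF bot_le
  have hR : solvRadical ↥M ≤ center ↥M := by
    haveI : (solvRadical ↥M).Characteristic := solvRadical_characteristic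
    have hle : (solvRadical ↥M).map M.subtype ≤ M := map_subtype_le _
    have hne : (solvRadical ↥M).map M.subtype ≠ M := by
      intro e
      apply Group.IsPerfect.not_isSolvable ↥M
      have : solvRadical ↥M = ⊤ := by
        apply map_injective M.subtype_injective
        rw [e, ← MonoidHom.range_eq_map, range_subtype]
      have hs := solvRadical_solvable (G := ↥M)
      rw [this] at hs
      exact (isSolvable_congr topEquiv).1 hs
    have := hFM _ hle (hsmall _ inferInstance hle hne)
    rwa [subgroupOf, comap_map_eq_self_of_injective M.subtype_injective] at this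
  obtain ⟨S, ⟨hSs, hSns⟩, hSmin⟩ :=
    (Set.toFinite {S : Subgroup ↥M | S.IsSubnormal ∧ ¬ Group.IsSolvable ↥S}).exists_minimal
      ⟨⊤, IsSubnormal.top, fun h => Group.IsPerfect.not_isSolvable ↥M ((isSolvable_congr topEquiv).1 h)⟩
  have hproper : ∀ N : Subgroup ↥S, N.Normal → N ≠ ⊤ → Group.IsSolvable ↥N ∧ N ≤ center ↥S := by
    intro N hN hne
    have hs : Group.IsSolvable ↥(N.map S.subtype) := by
      by_contra hc
      refine hne ?_
      apply map_injective S.subtype_injective
      rw [← MonoidHom.range_eq_map, range_subtype]
      exact le_antisymm (map_subtype_le N) (hSmin ⟨hN.isSubnormal.trans' hSs, hc⟩ (map_subtype_le N))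
    refine ⟨(isSolvable_congr (equivMapOfInjective N S.subtype S.subtype_injective)).2 hs, ?_⟩
    have := (subnormal_solvable_le_radical (hN.isSubnormal.trans' hSs) hs).trans hR
    intro x hx
    rw [mem_center_iff]
    intro g
    exact Subtype.ext (mem_center_iff.1 (this ⟨x, hx, rfl⟩) g)
  have hSperf : Group.IsPerfect ↥S := by
    refine ⟨?_⟩
    by_contra hne
    obtain ⟨_, hc⟩ := hproper (commutator ↥S) inferInstance hne
    haveI := isNilpotent_of_commutator_le_center hc
    exact hSns inferInstance
  haveI := hSperf
  haveI : Nontrivial ↥S := by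
    by_contra hn
    rw [not_nontrivial_iff_subsingleton] at hn
    exact hSns inferInstance
  have hcS : center ↥S ≠ ⊤ := fun h => Group.IsPerfect.not_isMulCommutative ↥S (center_eq_top_iff.1 h)
  have hq : IsQuasisimple ↥S := by
    refine ⟨hSperf, ?_⟩
    haveI : Nontrivial (↥S ⧸ center ↥S) := by
      rw [← not_subsingleton_iff_nontrivial]
      intro hsub
      exact hcS (top_le_iff.1 fun x _ => (QuotientGroup.eq_one_iff x).1 (Subsingleton.elim _ _))
    refine ⟨fun N hN => ?_⟩
    haveI := hN
    by_cases e : N.comap (QuotientGroup.mk' (center ↥S)) = ⊤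
    · right
      rw [← map_comap_eq_self_of_surjective (QuotientGroup.mk'_surjective _) N, e,
        map_top_of_surjective _ (QuotientGroup.mk'_surjective _)]
    · left
      rw [← map_comap_eq_self_of_surjective (QuotientGroup.mk'_surjective (center ↥S)) N,
        Subgroup.map_eq_bot_iff, QuotientGroup.ker_mk']
      exact (hproper _ inferInstance e).2
  have hL : IsComponent (S.map M.subtype) :=
    component_map_subtype hMn.isSubnormal ⟨hSs, hq⟩
  apply quasisimple_not_commutative hL.2
  refine le_centralizer_iff_isMulCommutative.1 ?_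
  exact ((map_subtype_le S).trans hMC).trans
    (centralizer_le ((component_le_layer hL).trans layer_le_generalizedFitting))

theorem centralizer_generalizedFitting_eq [Finite G] :
    centralizer (generalizedFittingSubgroup G : Set G) =
      (center ↥(generalizedFittingSubgroup G)).map (generalizedFittingSubgroup G).subtype := by
  rw [center_map_subtype, inf_eq_right.2 centralizer_generalizedFitting_le]

/-! ### The centre of the layer -/

theorem center_layer_eq [Finite G] :
    layer G ⊓ centralizer (layer G : Set G) = fittingSubgroup G ⊓ layer G := by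
  apply le_antisymm
  · refine le_inf ?_ inf_le_left
    haveI := layer_normal (G := G)
    haveI : IsMulCommutative ↥(layer G ⊓ centralizer (layer G : Set G)) :=
      le_centralizer_iff_isMulCommutative.1 (inf_le_right.trans (centralizer_le inf_le_left))
    letI : CommGroup ↥(layer G ⊓ centralizer (layer G : Set G)) :=
      { (inferInstance : Group ↥(layer G ⊓ centralizer (layer G : Set G))) with
        mul_comm := fun a b => mul_comm' a b }
    exact le_fittingSubgroup inferInstance inferInstance
  · exact le_inf inf_le_right (inf_le_left.trans fitting_le_centralizer_layer)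

/-- Components of a subnormal subgroup, and the components centralising it. -/
theorem layer_eq_inner_sup_outer [Finite G] {B : Subgroup G} (hB : B.IsSubnormal) :
    layer G = (layer ↥B).map B.subtype ⊔ sSup {L : Subgroup G | IsComponent L ∧ ¬ L ≤ B} ∧
      ⁅B, sSup {L : Subgroup G | IsComponent L ∧ ¬ L ≤ B}⁆ = ⊥ := by
  constructor
  · apply le_antisymm
    · rw [layer_le_iff]
      intro L hL
      by_cases h : L ≤ B
      · refine le_trans ?_ le_sup_left
        rw [← map_subgroupOf_eq_of_le h]
        exact map_mono (component_le_layer (component_subgroupOf hL h))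
      · exact le_trans (le_sSup (s := {L : Subgroup G | IsComponent L ∧ ¬ L ≤ B}) ⟨hL, h⟩) le_sup_right
    · refine sup_le ?_ (sSup_le fun L hL => component_le_layer hL.1)
      rw [map_le_iff_le_comap, layer_le_iff]
      intro L hL
      exact map_le_iff_le_comap.1 (component_le_layer (component_map_subtype hB hL))
  · rw [commutator_comm, commutator_eq_bot_iff_le_centralizer]
    exact sSup_le fun L hL => commutator_eq_bot_iff_le_centralizer.1
      ((component_le_or_commute hL.1 hB).resolve_left hL.2)

theorem layer_map_le_of_subnormal {B : Subgroup G} (hB : B.IsSubnormal) :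
    (layer ↥B).map B.subtype ≤ layer G := by
  rw [map_le_iff_le_comap, layer_le_iff]
  intro L hL
  exact map_le_iff_le_comap.1 (component_le_layer (component_map_subtype hB hL))

theorem fitting_of_subnormal [Finite G] {B : Subgroup G} (hB : B.IsSubnormal) :
    (fittingSubgroup ↥B).map B.subtype = fittingSubgroup G ⊓ B := by
  apply le_antisymm (le_inf (fitting_map_le_of_subnormal hB) (map_subtype_le _))
  haveI := fittingSubgroup_nilpotent (G := G)
  haveI := fittingSubgroup_normal (G := G)
  haveI : Group.IsNilpotent ↥(fittingSubgroup G ⊓ B) := isNilpotent_mono inf_le_left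
  have hn : ((fittingSubgroup G ⊓ B).subgroupOf B).Normal := by
    rw [inf_subgroupOf_right]
    infer_instance
  rw [← map_subgroupOf_eq_of_le (inf_le_right : fittingSubgroup G ⊓ B ≤ B)]
  exact map_mono (le_fittingSubgroup hn
    (Group.nilpotent_of_mulEquiv (subgroupOfEquivOfLe inf_le_right).symm))

/-- `F*(B) = F*(G) ∩ B` for subnormal `B`. -/
theorem generalizedFitting_of_subnormal [Finite G] {B : Subgroup G} (hB : B.IsSubnormal) :
    (generalizedFittingSubgroup ↥B).map B.subtype = generalizedFittingSubgroup G ⊓ B := by
  haveI := fittingSubgroup_normal (G := G)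
  haveI := fittingSubgroup_nilpotent (G := G)
  apply le_antisymm
  · refine le_inf ?_ (map_subtype_le _)
    rw [generalizedFittingSubgroup, Subgroup.map_sup]
    exact sup_le_sup (layer_map_le_of_subnormal hB) (fitting_map_le_of_subnormal hB)
  obtain ⟨hE, hcomm⟩ := layer_eq_inner_sup_outer hB
  set E0 := sSup {L : Subgroup G | IsComponent L ∧ ¬ L ≤ B}
  set EB := (layer ↥B).map B.subtype
  have hBE0 : B ≤ centralizer (E0 : Set G) := commutator_eq_bot_iff_le_centralizer.1 hcomm
  -- the auxiliary nilpotent subgroup
  set D := (E0 ⊔ fittingSubgroup G) ⊓ B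
  have hEB : EB ≤ B := map_subtype_le _
  have hD : D ≤ (fittingSubgroup ↥B).map B.subtype := by
    have hn : (D.subgroupOf B).Normal := by
      rw [inf_subgroupOf_right, normal_subgroupOf_iff_le_normalizer_inf]
      refine le_trans ?_ inf_normalizer_le_normalizer_inf
      refine le_inf (le_trans ?_ (normalizer_inf_normalizer_le_normalizer_sup _ _)) le_normalizer
      exact le_inf (hBE0.trans (centralizer_le_normalizer _)) le_normalizer_of_normal
    haveI hnil : Group.IsNilpotent ↥D := by
      haveI : (E0.subgroupOf (E0 ⊔ fittingSubgroup G)).Normal :=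
        (normal_subgroupOf_iff_le_normalizer le_sup_left).2
          (sup_le le_normalizer
            (((fitting_le_centralizer_layer).trans
              (centralizer_le (show E0 ≤ layer G from hE ▸ le_sup_right))).trans (centralizer_le_normalizer _)))
      let W := E0 ⊔ fittingSubgroup G
      let q : ↥W →* ↥W ⧸ E0.subgroupOf W := QuotientGroup.mk' _
      have hq : Function.Surjective (q.comp (inclusion (le_sup_right : fittingSubgroup G ≤ W))) := by
        intro x
        obtain ⟨w, rfl⟩ := QuotientGroup.mk'_surjective _ x
        obtain ⟨w, hw⟩ := w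
        obtain ⟨f, hf, e, he, hfe⟩ := mem_sup_of_normal_left.1
          ((sup_comm E0 (fittingSubgroup G)) ▸ hw : w ∈ fittingSubgroup G ⊔ E0)
        refine ⟨⟨f, hf⟩, ?_⟩
        refine (QuotientGroup.eq).2 ?_
        show f⁻¹ * w ∈ E0
        rw [← hfe, inv_mul_cancel_left]
        exact he
      haveI : Group.IsNilpotent (↥W ⧸ E0.subgroupOf W) := Group.nilpotent_of_surjective _ hq
      let r : ↥D →* ↥W ⧸ E0.subgroupOf W := q.comp (inclusion inf_le_left)
      refine Subgroup.isNilpotent_of_ker_le_center r.rangeRestrict ?_
      intro x hx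
      rw [MonoidHom.ker_rangeRestrict] at hx
      have hx1 : (inclusion (inf_le_left : D ≤ W)) x ∈ E0.subgroupOf W :=
        (QuotientGroup.eq_one_iff _).1 hx
      have hx' : (x : G) ∈ E0 := hx1
      rw [mem_center_iff]
      intro g
      exact Subtype.ext (mem_centralizer_iff.1 (hBE0 g.2.2) (x : G) hx').symm
    rw [← map_subgroupOf_eq_of_le (show D ≤ B from inf_le_right)]
    exact map_mono (le_fittingSubgroup hn
      (Group.nilpotent_of_mulEquiv (subgroupOfEquivOfLe inf_le_right).symm))
  rintro x ⟨hx, hxB⟩
  rw [SetLike.mem_coe] at hx hxB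
  rw [generalizedFittingSubgroup, hE, sup_assoc] at hx
  have hnorm : E0 ⊔ fittingSubgroup G ≤ normalizer (EB : Set G) := by
    refine le_trans ?_ (centralizer_le_normalizer _)
    refine sup_le ?_ (fitting_le_centralizer_layer.trans (centralizer_le (show EB ≤ layer G from hE ▸ le_sup_left)))
    exact (le_centralizer_iff.1 hBE0).trans (centralizer_le hEB)
  have hx' : x ∈ EB ⊔ (E0 ⊔ fittingSubgroup G) := hx
  rw [sup_comm, ← SetLike.mem_coe, coe_mul_of_left_le_normalizer_right _ _ hnorm] at hx'
  obtain ⟨d, hd, e, he, rfl⟩ := hx'
  have hdB : d ∈ B := by simpa using B.mul_mem hxB (B.inv_mem (hEB he))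
  rw [generalizedFittingSubgroup, Subgroup.map_sup]
  exact mul_mem (mem_sup_right (hD ⟨hd, hdB⟩)) (mem_sup_left he)

theorem subnormal_le_generalizedFitting [Finite G] {S : Subgroup G} (hS : S.IsSubnormal)
    (h : S ≤ generalizedFittingSubgroup G) : generalizedFittingSubgroup ↥S = ⊤ := by
  apply map_injective S.subtype_injective
  rw [generalizedFitting_of_subnormal hS, inf_eq_right.2 h, ← MonoidHom.range_eq_map, range_subtype]

end Cfsg.Agent.Components
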