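import Cfsg.Agent.Lib.Components.PComponent
import Cfsg.Agent.Lib.CharP.AxB
import Cfsg.Agent.Lib.Transfer.Basic

/-!
Groups with `C(O_p) ≤ O_p`, `p`-constraint, and normalisers of `p`-subgroups.
-/

set_option autoImplicit false
set_option linter.style.haveILetI false

namespace Cfsg.Agent.Components

open Subgroup
open Cfsg.Agent

variable {G : Type*} [Group G] [Finite G] {p : ℕ} [hp : Fact p.Prime]

theorem isNilpotent_pCore : Group.IsNilpotent ↥(pCore p G) :=
  _root_.IsPGroup.isNilpotent (G := ↥(pCore p G)) (p := p) (FittingCores.pCore_isPGroup (G := G) p)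

theorem pCore_le_fittingSubgroup : pCore p G ≤ fittingSubgroup G :=
  le_fittingSubgroup (FittingCores.pCore_normal (G := G) p) isNilpotent_pCore

theorem layer_eq_bot_of_le {P : Subgroup G} [Group.IsNilpotent ↥P] (h : layer G ≤ P) :
    layer G = ⊥ := by
  by_contra hne
  have hn := isNilpotent_mono h
  haveI : Nontrivial ↥(layer G) := (nontrivial_iff_ne_bot _).2 hne
  haveI : Group.IsPerfect ↥(layer G) := layer_isPerfect
  exact Group.IsPerfect.not_isNilpotent _ hn

/-- `F*(G) = O_p(G)` iff `C(O_p(G)) ≤ O_p(G)`. -/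
theorem generalizedFitting_eq_pCore_iff :
    generalizedFittingSubgroup G = pCore p G ↔
      centralizer (pCore p G : Set G) ≤ pCore p G := by
  constructor
  · intro h
    rw [← h]
    exact centralizer_generalizedFitting_le
  · intro h
    have hpn : (pCore p G).Normal := FittingCores.pCore_normal p
    have hP : IsPGroup p (pCore p G) := FittingCores.pCore_isPGroup p
    have hE : layer G = ⊥ := by
      haveI : Group.IsNilpotent ↥(pCore p G) := isNilpotent_pCore
      have h1 : centralizer (fittingSubgroup G : Set G) ≤ centralizer (pCore p G : Set G) :=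
        centralizer_le (SetLike.coe_subset_coe.2 (pCore_le_fittingSubgroup (G := G) (p := p)))
      have h2 : layer G ≤ centralizer (fittingSubgroup G : Set G) := layer_le_centralizer_fitting
      exact layer_eq_bot_of_le ((h2.trans h1).trans h)
    refine le_antisymm (sup_le (le_of_eq_of_le hE bot_le) ?_)
      ((pCore_le_fittingSubgroup (G := G) (p := p)).trans le_sup_right)
    rw [FittingCores.fitting_eq_iSup_pCore]
    refine iSup_le fun q' => ?_
    obtain ⟨q, hq⟩ := q'
    rcases eq_or_ne q p with rfl | hqp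
    · exact le_rfl
    · show pCore q G ≤ pCore p G
      refine le_trans ?_ h
      rw [← commutator_eq_bot_iff_le_centralizer, eq_bot_iff]
      haveI := hpn
      haveI := FittingCores.pCore_normal (G := G) q
      refine (commutator_le_inf_of_normalizer le_normalizer_of_normal le_normalizer_of_normal).trans ?_
      exact le_of_eq (PBasic.inf_eq_bot_of_coprime
        ((FittingCores.pPrimeCore_coprime p).coprime_dvd_left
          (card_dvd_of_le (FittingCores.pCore_le_pPrimeCore hp.out hq hqp))) hP)

theorem layer_eq_bot_iff_charP (h : pPrimeCore p G = ⊥) :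
    layer G = ⊥ ↔ centralizer (pCore p G : Set G) ≤ pCore p G := by
  rw [← generalizedFitting_eq_pCore_iff]
  have hF : fittingSubgroup G = pCore p G := FittingCores.fitting_eq_pCore hp.out h
  constructor
  · intro e
    rw [generalizedFittingSubgroup, e, bot_sup_eq, hF]
  · intro e
    haveI : Group.IsNilpotent ↥(pCore p G) := isNilpotent_pCore
    exact layer_eq_bot_of_le (layer_le_generalizedFitting.trans e.le)

theorem sylow_pPrimePCore_map (P : Sylow p ↥(pPrimePCore p G)) :
    ((P : Subgroup ↥(pPrimePCore p G)).map (pPrimePCore p G).subtype).map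
      (QuotientGroup.mk' (pPrimeCore p G)) = pCore p (G ⧸ pPrimeCore p G) := by
  let q := QuotientGroup.mk' (pPrimeCore p G)
  have hmap : (pPrimePCore p G).map q = pCore p (G ⧸ pPrimeCore p G) := map_mk'_comap _
  refine le_antisymm ((map_mono (map_subtype_le _)).trans hmap.le) ?_
  have hr : Function.Surjective (q.subgroupMap (pPrimePCore p G)) := q.subgroupMap_surjective _
  have hp' : IsPGroup p ((pPrimePCore p G).map q) := hmap.symm ▸ FittingCores.pCore_isPGroup p
  have htop : ((P.mapSurjective hr : Sylow p ↥((pPrimePCore p G).map q)) :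
      Subgroup ↥((pPrimePCore p G).map q)) = ⊤ :=
    ((P.mapSurjective hr).is_maximal' (hp'.to_subgroup ⊤) le_top).symm
  intro x hx
  rw [← hmap] at hx
  have : (⟨x, hx⟩ : ↥((pPrimePCore p G).map q)) ∈ (P.mapSurjective hr : Subgroup _) := htop ▸ mem_top _
  rw [Sylow.coe_mapSurjective] at this
  obtain ⟨y, hy, hyx⟩ := this
  exact ⟨(y : G), ⟨y, hy, rfl⟩, congrArg Subtype.val hyx⟩

theorem pPrimeCore_le_pPrimePCore : pPrimeCore p G ≤ pPrimePCore p G := le_comap_mk' _

theorem pPrimePCore_eq_sup (P : Sylow p ↥(pPrimePCore p G)) :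
    pPrimePCore p G =
      (P : Subgroup ↥(pPrimePCore p G)).map (pPrimePCore p G).subtype ⊔ pPrimeCore p G := by
  conv_lhs => rw [pPrimePCore, ← sylow_pPrimePCore_map P]
  rw [comap_map_eq, QuotientGroup.ker_mk']

/-- The centraliser of a Sylow subgroup of `O_{p',p}` covers the centraliser of `O_p` of the quotient. -/
theorem map_centralizer_sylow (P : Sylow p ↥(pPrimePCore p G)) :
    (centralizer (((P : Subgroup ↥(pPrimePCore p G)).map (pPrimePCore p G).subtype : Subgroup G) :
        Set G)).map (QuotientGroup.mk' (pPrimeCore p G)) =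
      centralizer (pCore p (G ⧸ pPrimeCore p G) : Set (G ⧸ pPrimeCore p G)) := by
  set q := QuotientGroup.mk' (pPrimeCore p G)
  set S := (P : Subgroup ↥(pPrimePCore p G)).map (pPrimePCore p G).subtype
  have hS : S.map q = pCore p (G ⧸ pPrimeCore p G) := sylow_pPrimePCore_map P
  apply le_antisymm
  · rw [← hS]
    exact map_centralizer_le_centralizer_image _ _
  intro z hz
  obtain ⟨y, rfl⟩ := QuotientGroup.mk'_surjective _ z
  haveI hn : (pPrimePCore p G).Normal := (FittingCores.pCore_normal p).comap _
  have htop : normalizer (S : Set G) ⊔ pPrimeCore p G = ⊤ := by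
    have h1 : normalizer (S : Set G) ⊔ (S ⊔ pPrimeCore p G) = ⊤ := by
      rw [← pPrimePCore_eq_sup P]
      exact P.normalizer_sup_eq_top
    rwa [← sup_assoc, sup_eq_left.2 (le_normalizer (H := S))] at h1
  obtain ⟨w, hw, o, ho, rfl⟩ := mem_sup_of_normal_right.1 (htop ▸ mem_top y)
  have hwy : q w = q (w * o) := by
    rw [map_mul, show q o = 1 from (QuotientGroup.eq_one_iff o).2 ho, mul_one]
  refine ⟨w, ?_, hwy⟩
  rw [SetLike.mem_coe, mem_centralizer_iff]
  intro s hs
  have h1 : w * s * w⁻¹ * s⁻¹ ∈ S := mul_mem ((mem_normalizer_iff.1 hw s).1 hs) (inv_mem hs)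
  have h2 : w * s * w⁻¹ * s⁻¹ ∈ pPrimeCore p G := by
    refine (QuotientGroup.eq_one_iff _).1 ?_
    show q (w * s * w⁻¹ * s⁻¹) = 1
    have hc : q s * q (w * o) = q (w * o) * q s :=
      mem_centralizer_iff.1 hz (q s) (hS ▸ mem_map_of_mem q hs)
    rw [← hwy] at hc
    rw [map_mul, map_mul, map_mul, map_inv, map_inv, ← hc]
    group
  have h3 : w * s * w⁻¹ * s⁻¹ = 1 := by
    have := PBasic.inf_eq_bot_of_coprime (FittingCores.pPrimeCore_coprime (G := G) p)
      (P.isPGroup'.map (pPrimePCore p G).subtype)
    exact (mem_bot).1 (this ▸ mem_inf.2 ⟨h2, h1⟩)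
  rw [mul_inv_eq_one, mul_inv_eq_iff_eq_mul] at h3
  exact h3.symm

/-- `p`-constraint means that the quotient by the `p'`-core has characteristic `p`. -/
theorem isPConstrained_iff_charP :
    IsPConstrained p G ↔
      centralizer (pCore p (G ⧸ pPrimeCore p G) : Set (G ⧸ pPrimeCore p G)) ≤
        pCore p (G ⧸ pPrimeCore p G) := by
  constructor
  · intro h
    obtain ⟨P⟩ := (inferInstance : Nonempty (Sylow p ↥(pPrimePCore p G)))
    rw [← map_centralizer_sylow P]
    exact (map_mono (h P)).trans (map_mk'_comap _).le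
  · intro h P
    exact map_le_iff_le_comap.1 ((map_centralizer_sylow P).le.trans h)

theorem isPConstrained_iff_pLayer : IsPConstrained p G ↔ pLayer p G = ⊥ := by
  rw [isPConstrained_iff_charP, pLayer_eq_bot_iff,
    layer_eq_bot_iff_charP (pPrimeCore_quotient G)]

/-- A perfect group is generated by its elements of order prime to `p`. -/
theorem pResidual_eq_top_of_perfect [Group.IsPerfect G] : pResidual p G = ⊤ := by
  by_contra hne
  haveI : Group.IsNilpotent (G ⧸ pResidual p G) := (PBasic.quotient_pResidual_isPGroup p G).isNilpotent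
  haveI : Nontrivial (G ⧸ pResidual p G) := by
    rw [← not_subsingleton_iff_nontrivial]
    intro hs
    exact hne (top_le_iff.1 fun x _ => (QuotientGroup.eq_one_iff x).1 (Subsingleton.elim _ _))
  exact Group.IsPerfect.not_isNilpotent (G ⧸ pResidual p G) inferInstance

/-- An element of order prime to `p` centralising `P` and `C_Q(P)` centralises the normal
`p`-subgroup `Q`. -/
theorem centralizes_pCore_of_coprime {P : Subgroup G} (hP : IsPGroup p P) {x : G}
    (hx : (orderOf x).Coprime p) (hxP : x ∈ centralizer (P : Set G))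
    (hxQ : x ∈ centralizer ((pCore p G ⊓ centralizer (P : Set G) : Subgroup G) : Set G)) :
    x ∈ centralizer (pCore p G : Set G) := by
  haveI := FittingCores.pCore_normal (G := G) p
  rw [mem_centralizer_iff]
  intro y hy
  refine (AxB.thompson (FittingCores.pCore_isPGroup p) hP le_normalizer_of_normal
    (fun y hy => (inferInstance : (pCore p G).Normal).conj_mem y hy x)
    (fun a ha => mem_centralizer_iff.1 hxP a ha) (pow_orderOf_eq_one x) hx.symm ?_ y hy).symm
  intro z hz hzP
  exact (mem_centralizer_iff.1 hxQ z ⟨hz, mem_centralizer_iff.2 hzP⟩).symm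

/-- If `C(O_p) ≤ O_p` then the same holds in the normaliser of every `p`-subgroup. -/
theorem charP_normalizer (h : centralizer (pCore p G : Set G) ≤ pCore p G) {P : Subgroup G}
    (hP : IsPGroup p P) :
    centralizer (pCore p ↥(normalizer (P : Set G)) : Set ↥(normalizer (P : Set G))) ≤
      pCore p ↥(normalizer (P : Set G)) := by
  set N := normalizer (P : Set G)
  set R := centralizer (pCore p ↥N : Set ↥N)
  haveI := FittingCores.pCore_normal (G := ↥N) p
  haveI : R.Normal := inferInstance
  refine FittingCores.le_pCore inferInstance ?_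
  have hPN : P.subgroupOf N ≤ pCore p ↥N :=
    FittingCores.le_pCore normal_in_normalizer hP.comap_subtype
  have hQN : (pCore p G).subgroupOf N ≤ pCore p ↥N :=
    FittingCores.le_pCore ((FittingCores.pCore_normal p).subgroupOf N)
      (FittingCores.pCore_isPGroup p).comap_subtype
  have hcop : ∀ x ∈ R, (orderOf x).Coprime p → x = 1 := by
    intro x hx hcop
    have hxP : (x : G) ∈ centralizer (P : Set G) := mem_centralizer_iff.2 fun a ha =>
      congrArg Subtype.val (mem_centralizer_iff.1 hx ⟨a, le_normalizer ha⟩ (hPN ha))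
    have hxQ : (x : G) ∈ centralizer ((pCore p G ⊓ centralizer (P : Set G) : Subgroup G) : Set G) :=
      mem_centralizer_iff.2 fun a ha =>
        congrArg Subtype.val (mem_centralizer_iff.1 hx
          ⟨a, centralizer_le_normalizer _ ha.2⟩ (hQN ha.1))
    have hxo : orderOf (x : G) = orderOf x := orderOf_coe x
    have h1 := h (centralizes_pCore_of_coprime hP (hxo.symm ▸ hcop) hxP hxQ)
    obtain ⟨k, hk⟩ := IsPGroup.iff_orderOf.1 (FittingCores.pCore_isPGroup p) ⟨_, h1⟩
    rw [orderOf_mk, hxo] at hk
    rw [← orderOf_eq_one_iff]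
    rw [hk] at hcop ⊢
    exact (Nat.coprime_self _).1 (hcop.pow_right k)
  intro x
  refine ⟨(Nat.card ↥R).factorization p, ?_⟩
  have hord : (orderOf ((x ^ p ^ (Nat.card ↥R).factorization p : ↥R) : ↥N)).Coprime p := by
    rw [orderOf_coe]
    refine Nat.Coprime.coprime_dvd_left ?_
      (Nat.coprime_ordCompl hp.out (Nat.card_pos (α := ↥R)).ne').symm
    apply orderOf_dvd_of_pow_eq_one
    rw [← pow_mul, Nat.ordProj_mul_ordCompl_eq_self, pow_card_eq_one']
  exact Subtype.ext (hcop _ (x ^ p ^ (Nat.card ↥R).factorization p).2 hord)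


theorem pCore_pPrimeCore_of_charP {X : Type*} [Group X] [Finite X]
    (h : centralizer (pCore p X : Set X) ≤ pCore p X) : pPrimeCore p X = ⊥ := by
  haveI := FittingCores.pPrimeCore_normal (G := X) p
  haveI := FittingCores.pCore_normal (G := X) p
  have hcop : (Nat.card ↥(pPrimeCore p X)).Coprime p := FittingCores.pPrimeCore_coprime (G := X) p
  have hP : IsPGroup p ↥(pCore p X) := FittingCores.pCore_isPGroup p
  have hb : pPrimeCore p X ⊓ pCore p X = ⊥ := PBasic.inf_eq_bot_of_coprime hcop hP
  have hc : pPrimeCore p X ≤ centralizer (pCore p X : Set X) := by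
    rw [← commutator_eq_bot_iff_le_centralizer, eq_bot_iff]
    exact (commutator_le_inf_of_normalizer le_normalizer_of_normal le_normalizer_of_normal).trans
      hb.le
  rw [← hb, inf_eq_left.2 (hc.trans h)]

theorem charP_congr {X Y : Type*} [Group X] [Group Y] [Finite X] (e : X ≃* Y)
    (h : centralizer (pCore p X : Set X) ≤ pCore p X) :
    centralizer (pCore p Y : Set Y) ≤ pCore p Y := by
  intro y hy
  obtain ⟨x, rfl⟩ := e.surjective y
  rw [← FittingCores.pCore_map_equiv p e] at hy ⊢
  refine mem_map_of_mem _ (h (mem_centralizer_iff.2 fun a ha => e.injective ?_))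
  rw [map_mul, map_mul]
  exact mem_centralizer_iff.1 hy (e a) (mem_map_of_mem e.toMonoidHom ha)

/-- If `T` is a normal `p`-subgroup and some subgroup containing `C(T)` has `C(O_p) ≤ O_p`, then
so does the whole group. -/
theorem charP_of_le {T M : Subgroup G} [T.Normal] (hT : IsPGroup p T)
    (hM : centralizer (T : Set G) ≤ M)
    (h : centralizer (pCore p ↥M : Set ↥M) ≤ pCore p ↥M) :
    centralizer (pCore p G : Set G) ≤ pCore p G := by
  haveI hn : (pCore p G).Normal := FittingCores.pCore_normal p
  set R := centralizer (pCore p G : Set G)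
  haveI : R.Normal := inferInstance
  have hRM : R ≤ M :=
    (centralizer_le (SetLike.coe_subset_coe.2
      (FittingCores.le_pCore (inferInstance : T.Normal) hT))).trans hM
  refine FittingCores.le_pCore inferInstance ?_
  have key : ∀ x ∈ R, (orderOf x).Coprime p → x = 1 := by
    intro x hx hxc
    haveI := FittingCores.pCore_normal (G := ↥M) p
    have hQ : IsPGroup p ↥((pCore p ↥M).map M.subtype) := (FittingCores.pCore_isPGroup p).map _
    have hI : R ⊓ (pCore p ↥M).map M.subtype ≤ pCore p G := by
      have hsub : ((R ⊓ (pCore p ↥M).map M.subtype).subgroupOf R).Normal := by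
        refine (normal_subgroupOf_iff_le_normalizer inf_le_left).2
          (le_trans (le_inf ?_ ?_) inf_normalizer_le_normalizer_inf)
        · exact le_normalizer
        · refine hRM.trans ?_
          rw [← normal_subgroupOf_iff_le_normalizer (map_subtype_le _)]
          rw [subgroupOf, comap_map_eq_self_of_injective M.subtype_injective]
          infer_instance
      refine FittingCores.le_pCore_of_isSubnormal ?_ (hQ.to_le inf_le_right)
      exact IsSubnormal.step _ R inf_le_left (Normal.isSubnormal inferInstance) hsub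
    have hfix : ∀ q ∈ (pCore p ↥M).map M.subtype, x * q = q * x := by
      intro q hq
      have hxq : x * q * x⁻¹ ∈ (pCore p ↥M).map M.subtype := by
        obtain ⟨q', hq', rfl⟩ := hq
        exact ⟨⟨x, hRM hx⟩ * q' * ⟨x, hRM hx⟩⁻¹,
          (inferInstance : (pCore p ↥M).Normal).conj_mem q' hq' _, rfl⟩
      set c := x * q * x⁻¹ * q⁻¹ with hc
      have hcR : c ∈ R := by
        have : c = x * (q * x⁻¹ * q⁻¹) := by rw [hc]; group
        rw [this]
        exact R.mul_mem hx ((inferInstance : R.Normal).conj_mem _ (R.inv_mem hx) q)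
      have hcQ : c ∈ (pCore p ↥M).map M.subtype := mul_mem hxq (inv_mem hq)
      have hcx : x * c = c * x := (mem_centralizer_iff.1 hx c (hI ⟨hcR, hcQ⟩)).symm
      have hiter : ∀ n : ℕ, x ^ n * q * (x ^ n)⁻¹ = c ^ n * q := by
        intro n
        induction n with
        | zero => simp
        | succ n ih =>
          have hcn : x * c ^ n = c ^ n * x := (Commute.pow_right hcx n).eq
          calc x ^ (n + 1) * q * (x ^ (n + 1))⁻¹
              = x * (x ^ n * q * (x ^ n)⁻¹) * x⁻¹ := by rw [pow_succ']; group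
            _ = x * c ^ n * q * x⁻¹ := by rw [ih]; group
            _ = c ^ n * (x * q * x⁻¹) := by rw [hcn]; group
            _ = c ^ (n + 1) * q := by rw [pow_succ, hc]; group
      have h1 := hiter (orderOf x)
      rw [pow_orderOf_eq_one, one_mul, inv_one, mul_one, right_eq_mul] at h1
      obtain ⟨k, hk⟩ := IsPGroup.iff_orderOf.1 hQ ⟨c, hcQ⟩
      rw [orderOf_mk] at hk
      have hd : orderOf c ∣ orderOf x := orderOf_dvd_of_pow_eq_one h1
      have h2 : (orderOf c).Coprime (p ^ k) := (hxc.coprime_dvd_left hd).pow_right k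
      rw [hk, Nat.coprime_self, ← hk, orderOf_eq_one_iff, hc, mul_inv_eq_one,
        mul_inv_eq_iff_eq_mul] at h2
      exact h2
    have h3 := h (mem_centralizer_iff.2 fun a (ha : a ∈ pCore p ↥M) =>
      Subtype.ext (hfix a (mem_map_of_mem M.subtype ha)).symm :
        (⟨x, hRM hx⟩ : ↥M) ∈ centralizer (pCore p ↥M : Set ↥M))
    obtain ⟨k, hk⟩ := IsPGroup.iff_orderOf.1 (FittingCores.pCore_isPGroup p) ⟨_, h3⟩
    rw [orderOf_mk, orderOf_mk] at hk
    have := hxc.pow_right k
    rw [hk, Nat.coprime_self, ← hk, orderOf_eq_one_iff] at this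
    exact this
  intro x
  refine ⟨(Nat.card ↥R).factorization p, ?_⟩
  have hord : (orderOf ((x ^ p ^ (Nat.card ↥R).factorization p : ↥R) : G)).Coprime p := by
    rw [orderOf_coe]
    refine Nat.Coprime.coprime_dvd_left ?_
      (Nat.coprime_ordCompl hp.out (Nat.card_pos (α := ↥R)).ne').symm
    apply orderOf_dvd_of_pow_eq_one
    rw [← pow_mul, Nat.ordProj_mul_ordCompl_eq_self, pow_card_eq_one']
  exact Subtype.ext (key _ (x ^ p ^ (Nat.card ↥R).factorization p).2 hord)

/-- The image of the normaliser of a `p`-subgroup modulo a normal `p'`-subgroup. -/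
theorem map_normalizer_eq {O : Subgroup G} [O.Normal] (hO : (Nat.card O).Coprime p)
    {P : Subgroup G} (hP : IsPGroup p P) :
    (normalizer (P : Set G)).map (QuotientGroup.mk' O) =
      normalizer ((P.map (QuotientGroup.mk' O) : Subgroup (G ⧸ O)) : Set (G ⧸ O)) := by
  set q := QuotientGroup.mk' O
  apply le_antisymm (le_normalizer_map q)
  intro z hz
  obtain ⟨g, rfl⟩ := QuotientGroup.mk'_surjective O z
  set K := P ⊔ O with hK
  have hcK : (P.map q).comap q = K := by rw [comap_map_eq, QuotientGroup.ker_mk']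
  have hgK : ∀ y ∈ K, g * y * g⁻¹ ∈ K := by
    intro y hy
    rw [← hcK, mem_comap] at hy ⊢
    rw [map_mul, map_mul, map_inv]
    exact (mem_normalizer_iff.1 hz _).1 hy
  have hsy : ∀ A : Subgroup G, A ≤ K → IsPGroup p A → Nat.card A = Nat.card P →
      ∃ S : Sylow p ↥K, (S : Subgroup ↥K) = A.subgroupOf K := by
    intro A hA hAp hcard
    refine ⟨hAp.comap_subtype.toSylow ?_, IsPGroup.toSylow_coe _ _⟩
    have hcAP : Nat.card ↥(A.subgroupOf K) = Nat.card P := by
      rw [Nat.card_congr (subgroupOfEquivOfLe hA).toEquiv, hcard]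
    have hdvd : Nat.card ↥K ∣ Nat.card P * Nat.card O := by
      rw [hK, ← relIndex_bot_left, ← relIndex_mul_relIndex ⊥ O (P ⊔ O) bot_le le_sup_right,
        relIndex_bot_left, relIndex_sup_right, mul_comm]
      exact Nat.mul_dvd_mul_right (relIndex_dvd_card _ _) _
    rw [← Subgroup.card_mul_index (A.subgroupOf K), hcAP] at hdvd
    exact fun hd => (hp.out.coprime_iff_not_dvd.1 hO.symm)
      (hd.trans ((Nat.mul_dvd_mul_iff_left Nat.card_pos).1 hdvd))
  have hgP : P.map (MulAut.conj g).toMonoidHom ≤ K := by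
    rintro _ ⟨y, hy, rfl⟩
    exact hgK y (le_sup_left (b := O) hy)
  obtain ⟨S, hS⟩ := hsy P le_sup_left hP rfl
  obtain ⟨S', hS'⟩ := hsy _ hgP (hP.map _) (card_map_of_injective (MulAut.conj g).injective)
  obtain ⟨k, hk⟩ := MulAction.exists_smul_eq (↥K) S' S
  have hn : (k : G) * g ∈ normalizer (P : Set G) := by
    refine mem_normalizer_fintype fun y hy => ?_
    have h1 : (⟨g * y * g⁻¹, hgK y (le_sup_left (b := O) hy)⟩ : ↥K) ∈ (S' : Subgroup ↥K) := by
      rw [hS', mem_subgroupOf]
      exact ⟨y, hy, rfl⟩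
    have h2 : k * ⟨g * y * g⁻¹, hgK y (le_sup_left (b := O) hy)⟩ * k⁻¹ ∈ (S : Subgroup ↥K) := by
      rw [← hk]
      exact smul_mem_pointwise_smul _ (MulAut.conj k) _ h1
    rw [hS, mem_subgroupOf] at h2
    convert h2 using 1
    simp [mul_assoc]
  have hkmem : q (k : G) ∈ (normalizer (P : Set G)).map q := by
    have h : q (k : G) ∈ (P ⊔ O).map q := mem_map_of_mem q k.2
    rw [Subgroup.map_sup] at h
    rw [(Subgroup.map_eq_bot_iff O).2 (QuotientGroup.ker_mk' O).ge, sup_bot_eq] at h
    exact map_mono le_normalizer h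
  rw [show q g = (q (k : G))⁻¹ * q ((k : G) * g) by rw [map_mul, inv_mul_cancel_left]]
  exact mul_mem (inv_mem hkmem) (mem_map_of_mem q hn)

end Cfsg.Agent.Components
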