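import Cfsg.Prelude.Def_Local
import Cfsg.Agent.Lib.Components.FStar
import Cfsg.Agent.Lib.Solvable.Fitting
import Mathlib.GroupTheory.SchurZassenhaus

/-!
`p`-components and the `p`-layer.

If `Kbar` is a component of `X / O_{p'}(X)` with preimage `M`, the `p`-component above it is the
subgroup of `M` generated by the `p`-elements of `M`.
-/

set_option autoImplicit false
set_option linter.style.haveILetI false

namespace Cfsg.Agent.Components

open Subgroup
open Cfsg.Agent

variable {G G' : Type*} [Group G] [Group G'] (p : ℕ)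

/-- The subgroup of `H` generated by the `p`-elements of `H`. -/
def pGen (H : Subgroup G) : Subgroup G :=
  closure {x : G | x ∈ H ∧ ∃ k : ℕ, x ^ p ^ k = 1}

variable {p}

theorem pGen_le (H : Subgroup G) : pGen p H ≤ H :=
  (closure_le H).2 fun _ hx => hx.1

theorem pGen_mono {H K : Subgroup G} (h : H ≤ K) : pGen p H ≤ pGen p K :=
  closure_mono fun _ hx => ⟨h hx.1, hx.2⟩

theorem mem_pGen {H : Subgroup G} {x : G} (hx : x ∈ H) {k : ℕ} (h : x ^ p ^ k = 1) :
    x ∈ pGen p H :=
  subset_closure ⟨hx, k, h⟩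

theorem map_pGen_le (f : G →* G') (H : Subgroup G) : (pGen p H).map f ≤ pGen p (H.map f) := by
  rw [pGen, MonoidHom.map_closure, closure_le]
  rintro _ ⟨x, ⟨hx, k, hk⟩, rfl⟩
  exact mem_pGen (mem_map_of_mem f hx) (k := k) (by rw [← map_pow, hk, map_one])

theorem normalizer_le_pGen (H : Subgroup G) :
    normalizer (H : Set G) ≤ normalizer (pGen p H : Set G) := by
  intro g hg
  have key : ∀ a ∈ normalizer (H : Set G), ∀ x ∈ pGen p H, a * x * a⁻¹ ∈ pGen p H := by
    intro a ha x hx
    have h1 : (pGen p H).map (MulAut.conj a).toMonoidHom ≤ pGen p H := by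
      refine (map_pGen_le _ H).trans (pGen_mono ?_)
      rintro _ ⟨y, hy, rfl⟩
      exact (mem_normalizer_iff.1 ha y).1 hy
    exact h1 ⟨x, hx, rfl⟩
  rw [mem_normalizer_iff]
  intro x
  refine ⟨key g hg x, fun hx => ?_⟩
  have := key g⁻¹ (inv_mem hg) _ hx
  simpa [mul_assoc] using this

theorem isPGroup_le_pGen {P H : Subgroup G} (hP : IsPGroup p P) (hPH : P ≤ H) : P ≤ pGen p H := by
  intro x hx
  obtain ⟨k, hk⟩ := hP ⟨x, hx⟩
  exact mem_pGen (hPH hx) (k := k) (congrArg Subtype.val hk)

variable [Finite G] [hp : Fact p.Prime]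

/-- A normal subgroup of index prime to `p` contains all `p`-elements. -/
theorem pGen_le_of_normal {H K : Subgroup G} (hHK : H ≤ K) (hn : (H.subgroupOf K).Normal)
    (hi : (H.relIndex K).Coprime p) : pGen p K ≤ H := by
  rw [pGen, closure_le]
  rintro x ⟨hxK, k, hk⟩
  haveI := hn
  let q := QuotientGroup.mk' (H.subgroupOf K)
  have h1 : orderOf (q ⟨x, hxK⟩) ∣ p ^ k := by
    refine (orderOf_map_dvd q _).trans ?_
    rw [orderOf_mk]
    exact orderOf_dvd_of_pow_eq_one hk
  have h2 : orderOf (q ⟨x, hxK⟩) ∣ H.relIndex K := orderOf_dvd_natCard _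
  have h3 : orderOf (q ⟨x, hxK⟩) = 1 :=
    Nat.eq_one_of_dvd_coprimes (hi.symm.pow_left k) h1 h2
  exact (QuotientGroup.eq_one_iff (N := H.subgroupOf K) ⟨x, hxK⟩).1 (orderOf_eq_one_iff.1 h3)

/-- A subnormal subgroup covering `M` modulo a `p'`-kernel contains the `p`-elements of `M`. -/
theorem pGen_le_of_subnormal {M O : Subgroup G} (hO : (Nat.card O).Coprime p) (hn : M ≤ normalizer (O : Set G))
    (hOM : O ≤ M) {H : Subgroup G} (hHM : H ≤ M) (hs : (H.subgroupOf M).IsSubnormal)
    (hgen : M ≤ H ⊔ O) : pGen p M ≤ H := by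
  suffices h : ∀ S : Subgroup ↥M, S.IsSubnormal → H.subgroupOf M ≤ S →
      pGen p M ≤ S.map M.subtype by
    have := h _ hs le_rfl
    rwa [map_subgroupOf_eq_of_le hHM] at this
  intro S hS
  induction hS with
  | top =>
    intro _
    rw [← MonoidHom.range_eq_map, range_subtype]
    exact pGen_le M
  | step A B hle _ hAB ih =>
    intro hA
    have h1 : pGen p M ≤ pGen p (B.map M.subtype) := by
      conv_lhs => rw [pGen]
      rw [closure_le]
      rintro x ⟨hx, k, hk⟩
      exact mem_pGen (ih (hA.trans hle) (mem_pGen hx hk)) hk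
    refine h1.trans (pGen_le_of_normal (map_mono hle) ?_ ?_)
    · rw [normal_subgroupOf_iff_le_normalizer (map_mono hle)]
      exact (map_mono ((normal_subgroupOf_iff_le_normalizer hle).1 hAB)).trans
        (le_normalizer_map _)
    · rw [relIndex_map_map_of_injective _ _ M.subtype_injective]
      haveI := hAB
      haveI hOn : (O.subgroupOf M).Normal := (normal_subgroupOf_iff_le_normalizer hOM).2 hn
      let f : ↥(B ⊓ O.subgroupOf M) →* ↥B ⧸ A.subgroupOf B :=
        (QuotientGroup.mk' (A.subgroupOf B)).comp (inclusion inf_le_left)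
      have hf : Function.Surjective f := by
        intro q
        obtain ⟨⟨b, hb⟩, rfl⟩ := QuotientGroup.mk'_surjective _ q
        have hb' : b ∈ A ⊔ O.subgroupOf M := by
          have htop : (⊤ : Subgroup ↥M) ≤ H.subgroupOf M ⊔ O.subgroupOf M := by
            rw [← subgroupOf_sup hHM hOM, subgroupOf_eq_top.2 hgen]
          exact (htop.trans (sup_le_sup_right hA _)) (mem_top b)
        obtain ⟨a, ha, o, ho, rfl⟩ := mem_sup_of_normal_right.1 hb'
        have hoB : o ∈ B := by simpa using B.mul_mem (B.inv_mem (hle ha)) hb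
        refine ⟨⟨o, hoB, ho⟩, QuotientGroup.eq.2 ?_⟩
        show o⁻¹ * (a * o) ∈ A
        rw [← mul_assoc]
        have := (mem_normalizer_iff.1 ((normal_subgroupOf_iff_le_normalizer hle).1 hAB
          (B.inv_mem hoB)) a).1 ha
        simpa using this
      refine Nat.Coprime.coprime_dvd_left ((card_dvd_of_surjective f hf).trans ?_) hO
      rw [← Nat.card_congr (subgroupOfEquivOfLe hOM).toEquiv]
      exact card_dvd_of_le inf_le_right

omit hp [Finite G] in
theorem map_mk'_comap {N : Subgroup G} [N.Normal] (Kb : Subgroup (G ⧸ N)) :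
    (Kb.comap (QuotientGroup.mk' N)).map (QuotientGroup.mk' N) = Kb :=
  map_comap_eq_self_of_surjective (QuotientGroup.mk'_surjective N) Kb

omit hp [Finite G] in
theorem le_comap_mk' {N : Subgroup G} [N.Normal] (Kb : Subgroup (G ⧸ N)) :
    N ≤ Kb.comap (QuotientGroup.mk' N) := fun x hx => by
  rw [mem_comap, QuotientGroup.mk'_apply, (QuotientGroup.eq_one_iff x).2 hx]
  exact one_mem _

theorem pPrimeCore_quotient (X : Type*) [Group X] [Finite X] :
    Cfsg.pPrimeCore p (X ⧸ Cfsg.pPrimeCore p X) = ⊥ :=
  FittingCores.pPrimeCore_quotient_eq_bot p _ rfl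

/-- A subnormal subgroup of order prime to `p` lies in the `p'`-core. -/
theorem subnormal_le_pPrimeCore {H : Subgroup G} (hs : H.IsSubnormal)
    (hH : (Nat.card H).Coprime p) : H ≤ Cfsg.pPrimeCore p G := by
  suffices h : ∀ K : Subgroup G, K.IsSubnormal →
      (Cfsg.pPrimeCore p ↥K).map K.subtype ≤ Cfsg.pPrimeCore p G by
    have htop : Cfsg.pPrimeCore p ↥H = ⊤ :=
      top_le_iff.1 (FittingCores.le_pPrimeCore inferInstance (by rwa [card_top]))
    have := h H hs
    rwa [htop, ← MonoidHom.range_eq_map, range_subtype] at this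
  intro K hK
  induction hK with
  | top =>
    exact FittingCores.pPrimeCore_map_le p fun x => ⟨⟨x, trivial⟩, rfl⟩
  | step A B hle _ hN ih =>
    refine le_trans ?_ ((map_mono (FittingCores.pPrimeCore_map_subtype_le p hN)).trans ih)
    rw [← FittingCores.pPrimeCore_map_equiv p (subgroupOfEquivOfLe hle), map_map, map_map]
    exact le_rfl

/-- A component of a group with trivial `p'`-core is generated by its `p`-elements. -/
theorem component_pGen {L : Subgroup G} (hO : Cfsg.pPrimeCore p G = ⊥) (hL : IsComponent L) :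
    pGen p L = L := by
  haveI := hL.2.1
  have hn : ((pGen p L).subgroupOf L).Normal :=
    (normal_subgroupOf_iff_le_normalizer (pGen_le L)).2
      (le_normalizer.trans (normalizer_le_pGen L))
  haveI := hn
  rcases quasisimple_normal hL.2 ((pGen p L).subgroupOf L) with h | h
  · exact le_antisymm (pGen_le L) (subgroupOf_eq_top.1 h)
  exfalso
  -- a Sylow subgroup of `L` would be central
  obtain ⟨P⟩ := (inferInstance : Nonempty (Sylow p ↥L))
  have hPc : (P : Subgroup ↥L) ≤ center ↥L := fun x hx =>
    h (show (x : G) ∈ pGen p L from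
      isPGroup_le_pGen (P.isPGroup'.map L.subtype) (map_subtype_le _) ⟨x, hx, rfl⟩)
  haveI : (P : Subgroup ↥L).Normal := ⟨fun x hx g => by
    rwa [mem_center_iff.1 (hPc hx) g, mul_inv_cancel_right]⟩
  obtain ⟨N, hN⟩ := Subgroup.exists_right_complement'_of_coprime (N := (P : Subgroup ↥L))
    P.card_coprime_index
  haveI : N.Normal := by
    rw [← normalizer_eq_top_iff, ← top_le_iff, ← hN.sup_eq_top]
    exact sup_le (hPc.trans ((center_le_centralizer _).trans (centralizer_le_normalizer _)))
      le_normalizer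
  rcases quasisimple_normal hL.2 N with hN1 | hN1
  · -- `L` would have order prime to `p`
    have hLcop : (Nat.card L).Coprime p := by
      subst hN1
      have hP1 : Nat.card (P : Subgroup ↥L) = 1 := by
        have := hN.card_mul
        rw [card_top] at this
        exact (Nat.mul_eq_right Nat.card_pos.ne').1 this
      have hi := (P : Subgroup ↥L).card_mul_index
      rw [hP1, one_mul] at hi
      rw [← hi]
      exact (hp.out.coprime_iff_not_dvd.2 P.not_dvd_index).symm
    exact component_ne_bot hL (le_bot_iff.1 (hO ▸ subnormal_le_pPrimeCore hL.1 hLcop))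
  · apply quasisimple_not_commutative hL.2
    rw [← center_eq_top_iff, ← top_le_iff, ← hN.sup_eq_top]
    exact sup_le hPc hN1

/-- `K` is a `p`-component iff it is the subgroup generated by the `p`-elements of the preimage of a
component of `G / O_{p'}(G)`. -/
theorem pComponent_eq_pGen {K : Subgroup G} (hK : IsPComponent p K) :
    pGen p ((K.map (QuotientGroup.mk' (Cfsg.pPrimeCore p G))).comap
      (QuotientGroup.mk' (Cfsg.pPrimeCore p G))) = K := by
  obtain ⟨hs, hc, hmin⟩ := hK
  set O := Cfsg.pPrimeCore p G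
  set q := QuotientGroup.mk' O
  set M := (K.map q).comap q
  have hKM : K ≤ M := le_comap_map q K
  have hMeq : M = K ⊔ O := by rw [show M = (K.map q).comap q from rfl, comap_map_eq, QuotientGroup.ker_mk']
  have hle : pGen p M ≤ K :=
    pGen_le_of_subnormal (FittingCores.pPrimeCore_coprime p) le_normalizer_of_normal (le_comap_mk' _) hKM
      hs.subgroupOf hMeq.le
  refine hmin _ (IsSubnormal.step _ M (pGen_le M) (hc.1.comap q)
    ((normal_subgroupOf_iff_le_normalizer (pGen_le M)).2
      (le_normalizer.trans (normalizer_le_pGen M)))) hle ?_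
  refine le_antisymm (map_mono hle) ?_
  conv_lhs => rw [← component_pGen (pPrimeCore_quotient G) hc]
  rw [pGen, closure_le]
  rintro y ⟨hy, k, hk⟩
  -- lift the `p`-element through a Sylow subgroup
  haveI : Finite ↥M := inferInstance
  let r : ↥M →* ↥(K.map q) := ((q.comp M.subtype).codRestrict (K.map q) fun m => m.2)
  have hr : Function.Surjective r := by
    rintro ⟨z, x, hx, rfl⟩
    exact ⟨⟨x, hKM hx⟩, rfl⟩
  have hz : IsPGroup p (zpowers (⟨y, hy⟩ : ↥(K.map q))) := by
    intro g
    obtain ⟨n, hn⟩ := g.2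
    refine ⟨k, Subtype.ext ?_⟩
    have : (⟨y, hy⟩ : ↥(K.map q)) ^ p ^ k = 1 := Subtype.ext hk
    show (g : ↥(K.map q)) ^ p ^ k = 1
    rw [← hn]
    show ((⟨y, hy⟩ : ↥(K.map q)) ^ n) ^ p ^ k = 1
    rw [← zpow_natCast, ← zpow_mul, mul_comm, zpow_mul, zpow_natCast, this, one_zpow]
  obtain ⟨R, hR⟩ := hz.exists_le_sylow
  obtain ⟨P, hP⟩ := Sylow.mapSurjective_surjective hr p R
  have hy' : (⟨y, hy⟩ : ↥(K.map q)) ∈ (P : Subgroup ↥M).map r := by
    rw [← Sylow.coe_mapSurjective hr P, hP]
    exact hR (mem_zpowers _)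
  obtain ⟨m, hm, hmy⟩ := hy'
  exact ⟨(m : G), isPGroup_le_pGen (P.isPGroup'.map M.subtype) (map_subtype_le _) ⟨m, hm, rfl⟩,
    congrArg Subtype.val hmy⟩

/-- The `p`-component above a component of the quotient. -/
theorem exists_pComponent (Kb : Subgroup (G ⧸ Cfsg.pPrimeCore p G)) (hKb : IsComponent Kb) :
    IsPComponent p (pGen p (Kb.comap (QuotientGroup.mk' (Cfsg.pPrimeCore p G)))) ∧
      (pGen p (Kb.comap (QuotientGroup.mk' (Cfsg.pPrimeCore p G)))).map
        (QuotientGroup.mk' (Cfsg.pPrimeCore p G)) = Kb := by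
  set O := Cfsg.pPrimeCore p G
  set q := QuotientGroup.mk' O
  set M := Kb.comap q
  have hMs : M.IsSubnormal := hKb.1.comap q
  have hn : ((pGen p M).subgroupOf M).Normal :=
    (normal_subgroupOf_iff_le_normalizer (pGen_le M)).2 (le_normalizer.trans (normalizer_le_pGen M))
  have himg : (pGen p M).map q = Kb := by
    refine le_antisymm ((map_mono (pGen_le M)).trans (map_mk'_comap Kb).le) ?_
    -- the image is a normal subgroup of `p'`-index
    conv_lhs => rw [← component_pGen (pPrimeCore_quotient G) hKb]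
    obtain ⟨P⟩ := (inferInstance : Nonempty (Sylow p ↥M))
    have hPi : ¬ p ∣ (P : Subgroup ↥M).index := P.not_dvd_index
    have hle : (pGen p M).map q ≤ Kb := (map_mono (pGen_le M)).trans (map_mk'_comap Kb).le
    refine pGen_le_of_normal hle ?_ ?_
    · rw [normal_subgroupOf_iff_le_normalizer hle]
      calc Kb = M.map q := (map_mk'_comap Kb).symm
        _ ≤ (normalizer (pGen p M : Set G)).map q :=
          map_mono (le_normalizer.trans (normalizer_le_pGen M))
        _ ≤ _ := le_normalizer_map _
    · refine Nat.Coprime.coprime_dvd_left ?_ (hp.out.coprime_iff_not_dvd.2 hPi).symm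
      have h1 : ((pGen p M).map q).relIndex Kb ∣ (pGen p M).relIndex M := by
        conv_lhs => rw [← map_mk'_comap Kb]
        rw [relIndex_map_map, QuotientGroup.ker_mk', sup_eq_left.2 (le_comap_mk' Kb)]
        exact relIndex_dvd_of_le_left _ le_sup_left
      refine h1.trans ?_
      unfold relIndex
      refine index_dvd_of_le fun x hx => ?_
      exact isPGroup_le_pGen (P.isPGroup'.map M.subtype) (map_subtype_le _) ⟨x, hx, rfl⟩
  refine ⟨⟨IsSubnormal.step _ M (pGen_le M) hMs hn, himg.symm ▸ hKb, fun H hHs hHle hHim => ?_⟩, himg⟩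
  refine le_antisymm hHle ?_
  have hHM : H ≤ M := hHle.trans (pGen_le M)
  refine pGen_le_of_subnormal (FittingCores.pPrimeCore_coprime p) le_normalizer_of_normal
    (le_comap_mk' _) hHM hHs.subgroupOf ?_
  have : M = (H.map q).comap q := by rw [hHim, himg]
  show M ≤ H ⊔ O
  rw [this, comap_map_eq, QuotientGroup.ker_mk']

theorem pComponent_unique {K L : Subgroup G} (hK : IsPComponent p K) (hL : IsPComponent p L)
    (h : K.map (QuotientGroup.mk' (Cfsg.pPrimeCore p G)) =
      L.map (QuotientGroup.mk' (Cfsg.pPrimeCore p G))) : K = L := by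
  rw [← pComponent_eq_pGen hK, ← pComponent_eq_pGen hL, h]

theorem map_pLayer : (Cfsg.pLayer p G).map (QuotientGroup.mk' (Cfsg.pPrimeCore p G)) =
    layer (G ⧸ Cfsg.pPrimeCore p G) := by
  apply le_antisymm
  · rw [Cfsg.pLayer, map_le_iff_le_comap]
    exact sSup_le fun K hK => map_le_iff_le_comap.1 (component_le_layer hK.2.1)
  · rw [layer_le_iff]
    intro Kb hKb
    obtain ⟨h1, h2⟩ := exists_pComponent Kb hKb
    rw [← h2]
    exact map_mono (le_sSup (s := {K : Subgroup G | IsPComponent p K}) h1)

theorem pComponent_commutator_eq {K : Subgroup G} (hK : IsPComponent p K) : ⁅K, K⁆ = K := by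
  refine hK.2.2 _ ?_ (commutator_le_self K) ?_
  · exact IsSubnormal.step _ K (commutator_le_self K) hK.1
      ((normal_subgroupOf_iff_le_normalizer (commutator_le_self K)).2
        (normalizer_commutator_ge_left K K))
  · rw [Subgroup.map_commutator, component_commutator_eq hK.2.1]

theorem pComponent_not_coprime {K : Subgroup G} (hK : IsPComponent p K) :
    p ∣ Nat.card K := by
  by_contra h
  have hle := subnormal_le_pPrimeCore hK.1 (hp.out.coprime_iff_not_dvd.2 h).symm
  apply component_ne_bot hK.2.1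
  rw [Subgroup.map_eq_bot_iff, QuotientGroup.ker_mk']
  exact hle

theorem pComponent_core {K : Subgroup G} (hK : IsPComponent p K) :
    (Cfsg.pPrimeCore p ↥K).map K.subtype = K ⊓ Cfsg.pPrimeCore p G := by
  apply le_antisymm
  · refine le_inf (map_subtype_le _) (subnormal_le_pPrimeCore ?_ ?_)
    · exact ((FittingCores.pPrimeCore_normal p).isSubnormal).trans' hK.1
    · rw [card_map_of_injective K.subtype_injective]
      exact FittingCores.pPrimeCore_coprime p
  · rw [← map_subgroupOf_eq_of_le (inf_le_left : K ⊓ Cfsg.pPrimeCore p G ≤ K)]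
    refine map_mono (FittingCores.le_pPrimeCore ?_ ?_)
    · rw [inf_subgroupOf_left]; infer_instance
    · rw [Nat.card_congr (subgroupOfEquivOfLe inf_le_left).toEquiv]
      exact (FittingCores.pPrimeCore_coprime p).coprime_dvd_left (card_dvd_of_le inf_le_right)

theorem pComponent_quotient_quasisimple {K : Subgroup G} (hK : IsPComponent p K) :
    IsQuasisimple (↥K ⧸ Cfsg.pPrimeCore p ↥K) := by
  let q := QuotientGroup.mk' (Cfsg.pPrimeCore p G)
  let r : ↥K →* ↥(K.map q) := q.subgroupMap K
  have hr : Function.Surjective r := q.subgroupMap_surjective K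
  have hk : r.ker = Cfsg.pPrimeCore p ↥K := by
    apply map_injective K.subtype_injective
    rw [pComponent_core hK]
    ext x
    constructor
    · rintro ⟨y, hy, rfl⟩
      exact ⟨y.2, (QuotientGroup.eq_one_iff (y : G)).1 (congrArg Subtype.val hy)⟩
    · rintro ⟨hx, hxO⟩
      exact ⟨⟨x, hx⟩, Subtype.ext ((QuotientGroup.eq_one_iff x).2 hxO), rfl⟩
  exact (quasisimple_congr ((QuotientGroup.quotientMulEquivOfEq hk.symm).trans
    (QuotientGroup.quotientKerEquivOfSurjective r hr))).2 hK.2.1.2

/-- `p`-components normalise one another. -/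
theorem pComponent_le_normalizer {K L : Subgroup G} (hK : IsPComponent p K)
    (hL : IsPComponent p L) : L ≤ normalizer (K : Set G) := by
  rcases eq_or_ne (L.map (QuotientGroup.mk' (Cfsg.pPrimeCore p G)))
    (K.map (QuotientGroup.mk' (Cfsg.pPrimeCore p G))) with e | e
  · rw [pComponent_unique hL hK e]
    exact le_normalizer
  · rw [← pComponent_eq_pGen hK]
    refine le_trans ?_ (normalizer_le_pGen _)
    refine le_trans (le_comap_map _ L) (le_trans (comap_mono ?_) (le_normalizer_comap _))
    exact normalizes_of_commute (components_commute hL.2.1 hK.2.1 e)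

theorem pPrimeCore_le_normalizer_pComponent {K : Subgroup G} (hK : IsPComponent p K) :
    Cfsg.pPrimeCore p G ≤ normalizer (K : Set G) := by
  rw [← pComponent_eq_pGen hK]
  exact (le_comap_mk' _).trans (le_normalizer.trans (normalizer_le_pGen _))

theorem pLayer_le_normalizer {K : Subgroup G} (hK : IsPComponent p K) :
    Cfsg.pLayer p G ≤ normalizer (K : Set G) :=
  sSup_le fun _ hL => pComponent_le_normalizer hK hL

theorem pComponent_commutator_le {K L : Subgroup G} (hK : IsPComponent p K)
    (hL : IsPComponent p L) (hne : K ≠ L) : ⁅K, L⁆ ≤ K ⊓ L ⊓ Cfsg.pPrimeCore p G := by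
  refine le_inf (commutator_le_inf_of_normalizer (pComponent_le_normalizer hK hL)
    (pComponent_le_normalizer hL hK)) ?_
  have h := components_commute hK.2.1 hL.2.1 fun e => hne (pComponent_unique hK hL e)
  rwa [← Subgroup.map_commutator, Subgroup.map_eq_bot_iff, QuotientGroup.ker_mk'] at h

theorem pLayer_eq_bot_iff :
    Cfsg.pLayer p G = ⊥ ↔ layer (G ⧸ Cfsg.pPrimeCore p G) = ⊥ := by
  constructor
  · intro h
    rw [← map_pLayer, h, Subgroup.map_bot]
  · intro h
    rw [Cfsg.pLayer, sSup_eq_bot]
    intro K hK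
    exact absurd (le_bot_iff.1 (h ▸ component_le_layer hK.2.1)) (component_ne_bot hK.2.1)

end Cfsg.Agent.Components
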