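import Cfsg.Agent.Lib.Components.FStar
import Cfsg.Agent.Lib.Components.PComponent
import Cfsg.Agent.Lib.Transfer.Basic
import Cfsg.Agent.Lib.CharP.AxB
import Cfsg.Agent.Lib.FGBasics.Sylow
import Cfsg.Agent.Lib.Signalizer.Transitivity
import Mathlib.GroupTheory.IsPerfect

/-! If `O_{p'}(G) = 1` and `P` is a `p`-subgroup, then the `p'`-core and the layer modulo it of
`N_G(P)` fix every component of `G`. -/

set_option autoImplicit false
set_option linter.style.haveILetI false

namespace Cfsg.Agent.Components

open Subgroup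
open scoped Pointwise commutatorElement

variable {G : Type*} [Group G]

/-- The subgroup of elements normalizing every component. -/
def fixesComponents (G : Type*) [Group G] : Subgroup G :=
  ⨅ L : {L : Subgroup G // IsComponent L}, normalizer ((L : Subgroup G) : Set G)

theorem mem_map_conj {L : Subgroup G} {g y : G} :
    y ∈ L.map (MulAut.conj g).toMonoidHom ↔ g⁻¹ * y * g ∈ L := by
  constructor
  · rintro ⟨z, hz, rfl⟩
    simpa [mul_assoc] using hz
  · intro h
    exact ⟨_, h, by simp [mul_assoc]⟩

theorem mem_fixesComponents {g : G} :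
    g ∈ fixesComponents G ↔ ∀ L : Subgroup G, IsComponent L → g ∈ normalizer (L : Set G) := by
  simp [fixesComponents, Subgroup.mem_iInf]

instance fixesComponents_normal : (fixesComponents G).Normal := by
  refine ⟨fun x hx g => mem_fixesComponents.2 fun L hL => ?_⟩
  have h1 := mem_normalizer_iff.1 (mem_fixesComponents.1 hx _ (component_conj hL g⁻¹))
  rw [mem_normalizer_iff]
  intro y
  have h2 := h1 (g⁻¹ * y * g)
  simp only [mem_map_conj] at h2
  simpa [mul_assoc] using h2

theorem layer_le_fixesComponents [Finite G] : layer G ≤ fixesComponents G :=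
  le_iInf fun L => layer_le_normalizer_component L.2

variable [Finite G] {p : ℕ} [Fact p.Prime]

/-- A nilpotent normal subgroup of a `p'`-core free group is a `p`-group. -/
theorem isPGroup_of_normal_nilpotent (hO : pPrimeCore p G = ⊥) (N : Subgroup G) [N.Normal]
    [Group.IsNilpotent N] : IsPGroup p N := by
  refine IsPGroup.of_card (n := (Nat.card N).primeFactorsList.length)
    (Nat.eq_prime_pow_of_unique_prime_dvd Nat.card_pos.ne' fun {q} hq hqN => ?_)
  by_contra hne
  haveI := Fact.mk hq
  obtain ⟨Q⟩ : Nonempty (Sylow q N) := inferInstance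
  haveI : (Q : Subgroup N).Normal :=
    (Group.isNilpotent_of_finite_tfae (G := N)).out 0 3 rfl rfl |>.1 inferInstance q ⟨hq⟩ Q
  haveI : (Q : Subgroup N).Characteristic := Q.characteristic_of_normal inferInstance
  have hcop : (Nat.card ((Q : Subgroup N).map N.subtype)).Coprime p := by
    rw [Subgroup.card_map_of_injective N.subtype_injective, Q.card_eq_multiplicity]
    exact ((Nat.coprime_primes hq Fact.out).2 hne).pow_left _
  have hle := Cfsg.Agent.PBasic.le_pPrimeCore (p := p) (inferInstance :
    ((Q : Subgroup N).map N.subtype).Normal) hcop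
  rw [hO, le_bot_iff, Subgroup.map_eq_bot_iff_of_injective _ N.subtype_injective] at hle
  exact Q.ne_bot_of_dvd_card hqN hle

/-- The centre of the layer. -/
def layerCenter (G : Type*) [Group G] : Subgroup G := layer G ⊓ centralizer (layer G : Set G)

instance layerCenter_normal : (layerCenter G).Normal := by
  haveI := layer_normal (G := G)
  haveI : (centralizer (layer G : Set G)).Normal := Subgroup.normal_centralizer
  exact inferInstanceAs (layer G ⊓ centralizer (layer G : Set G)).Normal

omit [Finite G] [Fact p.Prime] in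
theorem layerCenter_le_centralizer : layerCenter G ≤ centralizer (layerCenter G : Set G) :=
  (inf_le_right : layerCenter G ≤ _).trans (centralizer_le inf_le_left)

theorem layerCenter_isPGroup (hO : pPrimeCore p G = ⊥) : IsPGroup p (layerCenter G) := by
  haveI : Group.IsNilpotent (layerCenter G) := by
    letI : CommGroup (layerCenter G) :=
      { mul_comm := fun a b => Subtype.ext
          ((mem_centralizer_iff.1 (layerCenter_le_centralizer b.2) a a.2)) }
    exact CommGroup.isNilpotent
  exact isPGroup_of_normal_nilpotent hO _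

theorem fixes_of_orbit {P : Subgroup G} {g : G} {n : ℕ} (hn : ∀ a ∈ P, a ^ n = 1)
    (hcomm : ∀ a ∈ P, g * a * g⁻¹ * a⁻¹ ∈ fixesComponents G)
    (horb : ∀ L : Subgroup G, IsComponent L → ∃ a ∈ P, a⁻¹ * g ∈ normalizer (L : Set G)) :
    g ^ n ∈ fixesComponents G := by
  refine mem_fixesComponents.2 fun L hL => ?_
  obtain ⟨a, ha, hN⟩ := horb L hL
  have key : ∀ j : ℕ, (a ^ j)⁻¹ * g ^ j ∈ normalizer (L : Set G) := by
    intro j
    induction j with
    | zero => simpa using one_mem (normalizer (L : Set G))
    | succ j ih =>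
      have hc := hcomm _ (P.pow_mem ha j)
      have hc' : (a ^ (j + 1))⁻¹ * (g * a ^ j * g⁻¹ * (a ^ j)⁻¹) * a ^ (j + 1) ∈
          fixesComponents G := by
        simpa using (inferInstance : (fixesComponents G).Normal).conj_mem _ hc ((a ^ (j + 1))⁻¹)
      have := mul_mem (mul_mem (mem_fixesComponents.1 hc' L hL) hN) ih
      convert this using 1
      rw [pow_succ, pow_succ' g]
      group
  simpa [hn a ha] using key n

theorem isPGroup_pow_card {P : Subgroup G} (hP : IsPGroup p P) :
    ∃ n : ℕ, ∀ a ∈ P, a ^ p ^ n = 1 := by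
  obtain ⟨n, hn⟩ := hP.exists_card_eq
  refine ⟨n, fun a ha => ?_⟩
  have := pow_card_eq_one' (G := P) (x := ⟨a, ha⟩)
  rw [hn] at this
  simpa using congrArg Subtype.val this

/-- The key step: `g` stays inside each orbit of `P` on the components. -/
theorem orbit_of_coprime_comm (hO : pPrimeCore p G = ⊥) {P : Subgroup G} (hP : IsPGroup p P)
    (hZ : layerCenter G ≤ P) {g : G}
    (hg : ∀ t ∈ layer G ⊓ normalizer (P : Set G), (∃ k, t ^ p ^ k = 1) →
      (orderOf (g * t * g⁻¹ * t⁻¹)).Coprime p)
    (hcomm : ∀ a ∈ P, g * a * g⁻¹ * a⁻¹ ∈ fixesComponents G)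
    (L : Subgroup G) (hL : IsComponent L) : ∃ a ∈ P, a⁻¹ * g ∈ normalizer (L : Set G) := by
  classical
  by_contra hno
  simp only [not_exists, not_and] at hno
  let EL : Subgroup G := ⨆ a : P, L.map (MulAut.conj (a : G)).toMonoidHom
  let E' : Subgroup G := sSup {M : Subgroup G | IsComponent M ∧
    ∀ a ∈ P, M ≠ L.map (MulAut.conj a).toMonoidHom}
  have hELlayer : EL ≤ layer G := iSup_le fun a => component_le_layer (component_conj hL (a : G))
  have hE'layer : E' ≤ layer G := sSup_le fun M hM => component_le_layer hM.1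
  have hEE : EL ≤ centralizer (E' : Set G) := by
    refine iSup_le fun a => ?_
    rw [← commutator_eq_bot_iff_le_centralizer, commutator_comm,
      commutator_eq_bot_iff_le_centralizer]
    refine sSup_le fun M hM => ?_
    rw [← commutator_eq_bot_iff_le_centralizer]
    exact components_commute hM.1 (component_conj hL _) (hM.2 a a.2)
  have hlayer : layer G ≤ EL ⊔ E' := sSup_le fun M hM => by
    by_cases h : ∀ a ∈ P, M ≠ L.map (MulAut.conj a).toMonoidHom
    · exact le_sup_of_le_right (le_sSup ⟨hM, h⟩)
    · push Not at h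
      obtain ⟨a, ha, rfl⟩ := h
      exact le_sup_of_le_left
        (le_iSup (fun a : P => L.map (MulAut.conj (a : G)).toMonoidHom) ⟨a, ha⟩)
  have hinter : EL ⊓ E' ≤ layerCenter G := by
    refine le_inf (inf_le_left.trans hELlayer) ?_
    rw [← commutator_eq_bot_iff_le_centralizer, commutator_comm,
      commutator_eq_bot_iff_le_centralizer]
    refine hlayer.trans (sup_le ?_ ?_)
    · exact hEE.trans (centralizer_le inf_le_right)
    · refine le_trans ?_ (centralizer_le (inf_le_left : EL ⊓ E' ≤ EL))
      rw [← commutator_eq_bot_iff_le_centralizer, commutator_comm,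
        commutator_eq_bot_iff_le_centralizer]
      exact hEE
  -- `g` moves the orbit off itself
  have hmove : EL.map (MulAut.conj g).toMonoidHom ≤ E' := by
    rw [Subgroup.map_iSup]
    refine iSup_le fun b => le_sSup ⟨component_map_equiv (MulAut.conj g) (component_conj hL _), ?_⟩
    intro a ha heq
    apply hno ((b : G)⁻¹ * a) (P.mul_mem (P.inv_mem b.2) ha)
    have hc := mem_fixesComponents.1 (hcomm b b.2) L hL
    have hmem : a⁻¹ * (g * b) ∈ normalizer (L : Set G) := by
      rw [mem_normalizer_iff]
      intro y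
      have h2 := SetLike.ext_iff.1 heq (g * (b * y * (b : G)⁻¹) * g⁻¹)
      simp only [mem_map_conj] at h2
      simpa [mul_assoc] using h2
    have hc2 : (g * (b : G))⁻¹ * ((g * (b : G) * g⁻¹ * (b : G)⁻¹)) * (g * b) ∈ normalizer (L : Set G) := by
      refine mem_fixesComponents.1 ?_ L hL
      simpa using (inferInstance : (fixesComponents G).Normal).conj_mem _ (hcomm b b.2) (g * (b : G))⁻¹
    have e : ((b : G)⁻¹ * a)⁻¹ * g = a⁻¹ * (g * b) *
        ((g * (b : G))⁻¹ * (g * (b : G) * g⁻¹ * (b : G)⁻¹) * (g * b))⁻¹ := by group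
    rw [e]
    exact mul_mem hmem (inv_mem hc2)
  -- a `p`-element of the orbit product normalizing `P` outside the centre
  obtain ⟨t, htEL, htN, htp, htZ⟩ : ∃ t ∈ EL, t ∈ normalizer (P : Set G) ∧
      (∃ k, t ^ p ^ k = 1) ∧ t ∉ layerCenter G := by
    have hnorm : P ≤ normalizer (EL : Set G) := fun b hb => by
      rw [mem_normalizer_iff_map_conj_eq]
      have key : ∀ c ∈ P, EL.map (MulAut.conj c).toMonoidHom ≤ EL := fun c hc => by
        rw [Subgroup.map_iSup]
        refine iSup_le fun a => ?_
        refine le_trans (le_of_eq ?_)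
          (le_iSup (fun a : P => L.map (MulAut.conj (a : G)).toMonoidHom) ⟨c * a, P.mul_mem hc a.2⟩)
        rw [Subgroup.map_map]
        congr 1
        ext y; simp [mul_assoc]
      refine le_antisymm (key b hb) fun y hy => ?_
      exact ⟨b⁻¹ * y * b, by
        have := key b⁻¹ (P.inv_mem hb) ⟨y, hy, rfl⟩
        simpa using this, by simp [mul_assoc]⟩
    let M := EL ⊔ P
    haveI : (EL.subgroupOf M).Normal := (normal_subgroupOf_iff_le_normalizer le_sup_left).2
      (sup_le le_normalizer hnorm)
    obtain ⟨S, hS⟩ := (hP.comap_of_injective M.subtype M.subtype_injective :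
      IsPGroup p (P.subgroupOf M)).exists_le_sylow
    obtain ⟨T, hT⟩ := Cfsg.Agent.FGBasics.exists_sylow_inf S (EL.subgroupOf M)
    by_contra hnone
    simp only [not_exists, not_and, not_not] at hnone
    let U : Subgroup G := ((S : Subgroup M).map M.subtype) ⊓ EL
    have hUZ : U ≤ layerCenter G := by
      by_contra hU
      have hSp : IsPGroup p ((S : Subgroup M).map M.subtype) := S.isPGroup'.map _
      have hpow : ∀ u ∈ U, ∃ k, u ^ p ^ k = 1 := fun u hu => by
        obtain ⟨k, hk⟩ := hSp ⟨u, hu.1⟩
        exact ⟨k, congrArg Subtype.val hk⟩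
      by_cases hUP : U ≤ P
      · obtain ⟨u, hu, hu'⟩ := SetLike.not_le_iff_exists.1 hU
        exact hu' (hnone u hu.2 (le_normalizer (hUP hu)) (hpow u hu))
      · have hPS : P ≤ (S : Subgroup M).map M.subtype := fun a ha =>
          ⟨⟨a, mem_sup_right ha⟩, hS ha, rfl⟩
        have hsup : P ⊔ U ≤ (S : Subgroup M).map M.subtype := sup_le hPS inf_le_left
        have hne : P ≠ P ⊔ U := fun h => hUP (sup_eq_left.1 h.symm)
        have := Cfsg.Agent.Signalizer.normalizer_inf_not_le (hSp.to_le hsup) le_sup_left hne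
        obtain ⟨w, ⟨hwN, hwPU⟩, hwP⟩ := SetLike.not_le_iff_exists.1 this
        have hUn : P ≤ normalizer (U : Set G) :=
          (le_inf (hPS.trans le_normalizer) hnorm).trans inf_normalizer_le_normalizer_inf
        have hwPU' : w ∈ (U : Set G) * (P : Set G) := by
          rw [← coe_mul_of_right_le_normalizer_left U P hUn, sup_comm]
          exact hwPU
        obtain ⟨u, hu, a, ha, rfl⟩ := hwPU'
        have huN : u ∈ normalizer (P : Set G) := by
          have h5 : a ∈ normalizer (P : Set G) := le_normalizer ha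
          simpa using mul_mem (show u * a ∈ normalizer (P : Set G) from hwN) (inv_mem h5)
        have huZ := hnone u hu.2 huN (hpow u hu)
        exact hwP (P.mul_mem (hZ huZ) ha)
    -- so every `p`-element of `EL` is central in the layer
    have hpel : pGen p L ≤ layerCenter G := by
      refine closure_le _ |>.2 ?_
      rintro x ⟨hx, k, hk⟩
      have hxEL : x ∈ EL := le_iSup (fun a : P => L.map (MulAut.conj (a : G)).toMonoidHom) ⟨1, P.one_mem⟩
        ⟨x, hx, by simp⟩
      let x' : EL.subgroupOf M := ⟨⟨x, mem_sup_left hxEL⟩, hxEL⟩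
      have hx'p : IsPGroup p (zpowers x') := by
        intro z
        obtain ⟨i, hi⟩ := Subgroup.mem_zpowers_iff.1 z.2
        refine ⟨k, Subtype.ext ?_⟩
        rw [SubgroupClass.coe_pow, ← hi, ← zpow_natCast, ← zpow_mul, mul_comm, zpow_mul, zpow_natCast]
        have : x' ^ p ^ k = 1 := Subtype.ext (Subtype.ext (by simpa using hk))
        rw [this, one_zpow]
        rfl
      obtain ⟨T', hT'⟩ := hx'p.exists_le_sylow
      obtain ⟨c, hc⟩ := MulAction.exists_smul_eq (EL.subgroupOf M) T' T
      have hmem : c * x' * c⁻¹ ∈ (T : Subgroup (EL.subgroupOf M)) := by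
        rw [← hc]
        exact ⟨x', hT' (mem_zpowers x'), rfl⟩
      have h2 : ((c * x' * c⁻¹ : EL.subgroupOf M) : M) ∈ (S : Subgroup M) ⊓ EL.subgroupOf M := by
        rw [← hT]; exact mem_map_of_mem _ hmem
      have h3 : ((c : M) : G) * x * ((c : M) : G)⁻¹ ∈ U :=
        ⟨⟨_, h2.1, rfl⟩, (c * x' * c⁻¹).2⟩
      have h4 := (inferInstance : (layerCenter G).Normal).conj_mem _ (hUZ h3) ((c : M) : G)⁻¹
      simpa [mul_assoc] using h4
    rw [component_pGen hO hL] at hpel
    haveI : IsMulCommutative L := ⟨⟨fun a b => Subtype.ext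
      (mem_centralizer_iff.1 (layerCenter_le_centralizer (hpel b.2)) a (hpel a.2))⟩⟩
    exact quasisimple_not_commutative hL.2 inferInstance
  -- the contradiction
  obtain ⟨k, hk⟩ := htp
  have hgt : g * t * g⁻¹ ∈ E' := hmove ⟨t, htEL, rfl⟩
  have hc : Commute (g * t * g⁻¹) t⁻¹ :=
    (Commute.inv_right (mem_centralizer_iff.1 (hEE htEL) _ hgt))
  have hd1 : orderOf (g * t * g⁻¹ * t⁻¹) ∣ p ^ k := by
    refine orderOf_dvd_of_pow_eq_one ?_
    rw [hc.mul_pow, conj_pow, inv_pow, hk]
    simp
  have hd2 := hg t ⟨hELlayer htEL, htN⟩ ⟨k, hk⟩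
  have : orderOf (g * t * g⁻¹ * t⁻¹) = 1 :=
    Nat.eq_one_of_dvd_coprimes (hd2.pow_right k) dvd_rfl hd1
  rw [orderOf_eq_one_iff, mul_inv_eq_one] at this
  exact htZ (hinter ⟨htEL, this ▸ hgt⟩)

theorem layerCenter_centralized (hO : pPrimeCore p G = ⊥) {P : Subgroup G} (hP : IsPGroup p P)
    {x : G} (hxP : x ∈ centralizer (P : Set G)) (hx : (orderOf x).Coprime p)
    (hC : x ∈ centralizer ((layerCenter G ⊓ centralizer (P : Set G) : Subgroup G) : Set G)) :
    x ∈ centralizer (layerCenter G : Set G) := by
  rw [mem_centralizer_iff]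
  intro y hy
  exact (AxB.thompson (layerCenter_isPGroup hO) hP le_normalizer_of_normal
    (fun y hy => (inferInstance : (layerCenter G).Normal).conj_mem y hy x)
    (fun a ha => mem_centralizer_iff.1 hxP a ha) (pow_orderOf_eq_one x)
    hx.symm (fun y hy hyP => (mem_centralizer_iff.1 hC y
      ⟨hy, mem_centralizer_iff.2 fun a ha => hyP a ha⟩).symm) y hy).symm

omit [Fact p.Prime] in
theorem coprime_normal_commute {X : Subgroup G} {Q R : Subgroup G} (hXQ : X ≤ normalizer (Q : Set G))
    (hQX : Q ≤ X) (hR : R ≤ X) (hRX : X ≤ normalizer (R : Set G))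
    (hcop : (Nat.card Q).Coprime (Nat.card R)) : ⁅Q, R⁆ = ⊥ := by
  have hle : ⁅Q, R⁆ ≤ Q ⊓ R :=
    commutator_le_inf_of_normalizer (hR.trans hXQ) (hQX.trans hRX)
  rw [Subgroup.eq_bot_iff_card]
  exact Nat.eq_one_of_dvd_coprimes hcop (card_dvd_of_le (hle.trans inf_le_left))
    (card_dvd_of_le (hle.trans inf_le_right))

/-- A `p'`-subgroup centralizing `P` and normalized by `C_G(P)` centralizes the centre of the layer. -/
theorem coprime_centralizes_layerCenter (hO : pPrimeCore p G = ⊥) {P Q : Subgroup G}
    (hP : IsPGroup p P) (hQP : Q ≤ centralizer (P : Set G))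
    (hQn : centralizer (P : Set G) ≤ normalizer (Q : Set G)) (hQc : (Nat.card Q).Coprime p) :
    Q ≤ centralizer (layerCenter G : Set G) := by
  intro x hx
  refine layerCenter_centralized hO hP (hQP hx)
    (Nat.Coprime.coprime_dvd_left (by
      rw [← orderOf_mk (H := Q) x hx]; exact orderOf_dvd_natCard _) hQc) ?_
  have := coprime_normal_commute (X := centralizer (P : Set G))
    (R := layerCenter G ⊓ centralizer (P : Set G)) hQn hQP inf_le_right
    ((le_inf le_normalizer_of_normal le_normalizer).trans inf_normalizer_le_normalizer_inf) (by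
      obtain ⟨n, hn⟩ := ((layerCenter_isPGroup hO).to_le
        (inf_le_left : layerCenter G ⊓ centralizer (P : Set G) ≤ _)).exists_card_eq
      rw [hn]; exact hQc.pow_right n)
  rw [commutator_eq_bot_iff_le_centralizer] at this
  exact this hx

omit [Fact p.Prime] in
theorem normalizer_le_normalizer_centralizer (P : Subgroup G) :
    normalizer (P : Set G) ≤ normalizer (centralizer (P : Set G) : Set G) :=
  normal_subgroupOf_iff_le_normalizer (centralizer_le_normalizer (P : Set G)) |>.1 inferInstance

/-- `p'`-subgroups of `C_G(P)` normalized by `C_G(P)` fix all components. -/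
theorem coprime_fixesComponents (hO : pPrimeCore p G = ⊥) {P Q : Subgroup G}
    (hP : IsPGroup p P) (hQP : Q ≤ centralizer (P : Set G))
    (hQn : centralizer (P : Set G) ≤ normalizer (Q : Set G)) (hQc : (Nat.card Q).Coprime p) :
    Q ≤ fixesComponents G := by
  let P' := P ⊔ layerCenter G
  have hP' : IsPGroup p P' := hP.to_sup_of_normal_right (layerCenter_isPGroup hO)
  let C := centralizer (P' : Set G)
  have hCle : C ≤ centralizer (P : Set G) := centralizer_le (le_sup_left : P ≤ P')
  have hQC : Q ≤ C := by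
    have h1 := coprime_centralizes_layerCenter hO hP hQP hQn hQc
    show Q ≤ centralizer (P' : Set G)
    rw [← commutator_eq_bot_iff_le_centralizer, commutator_comm, commutator_eq_bot_iff_le_centralizer]
    refine sup_le ?_ ?_ <;>
      rw [← commutator_eq_bot_iff_le_centralizer, commutator_comm, commutator_eq_bot_iff_le_centralizer]
    · exact hQP
    · exact h1
  let R := (pPrimeCore p C).map C.subtype
  have hQR : Q ≤ R := fun x hx => ⟨⟨x, hQC hx⟩, Cfsg.Agent.PBasic.le_pPrimeCore
    ((normal_subgroupOf_iff_le_normalizer hQC).2 (hCle.trans hQn))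
    (by rwa [Nat.card_congr (subgroupOfEquivOfLe hQC).toEquiv]) hx, rfl⟩
  have hRn : normalizer (P' : Set G) ≤ normalizer (R : Set G) := by
    haveI := Cfsg.Agent.PBasic.pPrimeCore_characteristic p C
    intro m hm
    have hmC : m ∈ normalizer (C : Set G) := normalizer_le_normalizer_centralizer P' hm
    rw [mem_normalizer_iff_map_conj_eq]
    let e : MulAut C := C.normalizerMonoidHom ⟨m, hmC⟩
    have he := characteristic_iff_map_eq.1 (inferInstance : (pPrimeCore p C).Characteristic) e
    conv_rhs => rw [show R = (pPrimeCore p C).map C.subtype from rfl, ← he]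
    show ((pPrimeCore p C).map C.subtype).map _ = _
    rw [map_map, map_map]
    rfl
  have hRc : (Nat.card R).Coprime p := by
    rw [card_map_of_injective C.subtype_injective]
    exact Cfsg.Agent.PBasic.pPrimeCore_coprime p C
  refine hQR.trans fun q hq => ?_
  have hqC : q ∈ C := map_subtype_le _ hq
  have hq1 : ∀ a ∈ P', q * a * q⁻¹ * a⁻¹ ∈ fixesComponents G := fun a ha => by
    rw [← mem_centralizer_iff.1 hqC a ha]
    simp
  have horb := orbit_of_coprime_comm hO hP' le_sup_right (g := q) (fun t ht _ => by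
    refine Nat.Coprime.coprime_dvd_left ?_ hRc
    have hmem : q * t * q⁻¹ * t⁻¹ ∈ R := by
      rw [show q * t * q⁻¹ * t⁻¹ = q * (t * q⁻¹ * t⁻¹) by group]
      exact mul_mem hq ((mem_normalizer_iff.1 (hRn ht.2) _).1 (inv_mem hq))
    rw [← orderOf_mk (H := R) _ hmem]
    exact orderOf_dvd_natCard _) hq1
  obtain ⟨n, hn⟩ := isPGroup_pow_card hP'
  have h1 := fixes_of_orbit hn hq1 horb
  have hcop : (orderOf q).Coprime (p ^ n) := (Nat.Coprime.coprime_dvd_left
    (by rw [← orderOf_mk (H := R) q hq]; exact orderOf_dvd_natCard _) hRc).pow_right n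
  obtain ⟨m, hm⟩ := exists_pow_eq_self_of_coprime hcop.symm
  rw [← hm]
  exact pow_mem h1 m

theorem pPrimeCore_normalizer_props (P : Subgroup G) (hP : IsPGroup p P) :
    let Q := (pPrimeCore p (normalizer (P : Set G))).map (normalizer (P : Set G)).subtype
    Q ≤ centralizer (P : Set G) ∧ centralizer (P : Set G) ≤ normalizer (Q : Set G) ∧
      (Nat.card Q).Coprime p := by
  intro Q
  set N := normalizer (P : Set G)
  haveI := Cfsg.Agent.PBasic.pPrimeCore_characteristic p N
  have hQN : Q ≤ N := map_subtype_le _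
  have hNQ : N ≤ normalizer (Q : Set G) := AxB.le_normalizer_map_subtype inferInstance
  have hc : (Nat.card Q).Coprime p := by
    rw [card_map_of_injective N.subtype_injective]
    exact Cfsg.Agent.PBasic.pPrimeCore_coprime p N
  refine ⟨?_, centralizer_le_normalizer (P : Set G) |>.trans hNQ, hc⟩
  rw [← commutator_eq_bot_iff_le_centralizer]
  obtain ⟨n, hn⟩ := hP.exists_card_eq
  exact coprime_normal_commute (X := N) hNQ hQN le_normalizer le_rfl (hn ▸ hc.pow_right n)

theorem pPrimeCore_normalizer_fixes (hO : pPrimeCore p G = ⊥) (P : Subgroup G) (hP : IsPGroup p P) :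
    (pPrimeCore p (normalizer (P : Set G))).map (normalizer (P : Set G)).subtype ≤ fixesComponents G :=
  let h := pPrimeCore_normalizer_props P hP
  coprime_fixesComponents hO hP h.1 h.2.1 h.2.2

omit [Finite G] [Fact p.Prime] in
/-- A component of a subgroup mapped injectively, inside a normal image, stays a component. -/
theorem component_map_of_injective {A B : Type*} [Group A] [Group B] (ι : A →* B)
    (hι : Function.Injective ι) {K C : Subgroup A} (hK : IsComponent K) (hKC : K ≤ C)
    (hC : (C.map ι).Normal) : IsComponent (K.map ι) := by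
  refine ⟨?_, (quasisimple_congr (equivMapOfInjective K ι hι)).1 hK.2⟩
  let e := equivMapOfInjective C ι hι
  have h1 : ((K.subgroupOf C).map e.toMonoidHom).IsSubnormal :=
    (hK.1.subgroupOf (K := C)).map e.surjective
  have h2 : (K.subgroupOf C).map e.toMonoidHom = (K.map ι).subgroupOf (C.map ι) := by
    ext y
    constructor
    · rintro ⟨x, hx, rfl⟩
      exact ⟨x.1, hx, rfl⟩
    · rintro ⟨x, hx, hxy⟩
      exact ⟨⟨x, hKC hx⟩, hx, Subtype.ext hxy⟩
  exact (h2 ▸ h1).trans (map_mono hKC) hC.isSubnormal

omit [Finite G] in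
/-- A perfect subgroup all of whose images are `p`-elements lies in the kernel. -/
theorem le_ker_of_perfect {A B : Type*} [Group A] [Finite A] [Group B] {K : Subgroup A}
    (hK : ⁅K, K⁆ = K) (f : A →* B) (h : ∀ x ∈ K, ∃ n, f x ^ p ^ n = 1) : K ≤ f.ker := by
  have hp : IsPGroup p (K.map f) := by
    rintro ⟨_, x, hx, rfl⟩
    obtain ⟨n, hn⟩ := h x hx
    exact ⟨n, Subtype.ext hn⟩
  haveI : Finite (K.map f) := Finite.of_surjective _ (MonoidHom.subgroupMap_surjective f K)
  haveI := hp.isNilpotent
  by_contra hne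
  have hne' : K.map f ≠ ⊥ := fun hb => hne ((map_eq_bot_iff K).1 hb)
  haveI : Nontrivial (K.map f) := (nontrivial_iff_ne_bot _).2 hne'
  refine (Group.IsSolvable.commutator_lt_top_of_nontrivial (G := K.map f)).ne ?_
  rw [_root_.commutator_def]
  apply map_injective (K.map f).subtype_injective
  rw [map_commutator, ← MonoidHom.range_eq_map, range_subtype, ← map_commutator, hK]

theorem layer_mod_core_fixes_aux (hO : pPrimeCore p G = ⊥) {P : Subgroup G} (hP : IsPGroup p P)
    (hZ : layerCenter G ≤ P) :
    ∀ K : Subgroup (↥(normalizer (P : Set G)) ⧸ pPrimeCore p ↥(normalizer (P : Set G))),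
    IsComponent K → K.comap (QuotientGroup.mk' (pPrimeCore p ↥(normalizer (P : Set G)))) ≤
      (fixesComponents G).subgroupOf (normalizer (P : Set G)) := by
  classical
  set M := normalizer (P : Set G) with hM
  intro K hK
  haveI hn := layer_normal (G := G)
  let f := QuotientGroup.mk' (pPrimeCore p ↥M)
  have hker : pPrimeCore p ↥M ≤ (fixesComponents G).subgroupOf M := fun x hx =>
    pPrimeCore_normalizer_fixes hO P hP ⟨x, hx, rfl⟩
  have hfin : Finite (↥M ⧸ pPrimeCore p ↥M) := Quotient.finite _
  have hU : ((layer G).subgroupOf M).map f |>.Normal :=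
    Normal.map inferInstance f (QuotientGroup.mk'_surjective _)
  rcases component_le_or_commute hK hU.isSubnormal with hle | hcom
  · refine (comap_mono hle).trans ?_
    rw [comap_map_eq, QuotientGroup.ker_mk']
    exact sup_le (fun x hx => layer_le_fixesComponents hx) hker
  -- otherwise the elements of `K` act as a `p`-group
  have hPs : Group.IsSolvable ↥((P.subgroupOf M).map f) := by
    haveI : Group.IsNilpotent ↥((P.subgroupOf M).map f) :=
      ((hP.comap_of_injective M.subtype M.subtype_injective : IsPGroup p (P.subgroupOf M)).map f).isNilpotent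
    infer_instance
  have hPn : ((P.subgroupOf M).map f).Normal :=
    Normal.map ((normal_subgroupOf_iff_le_normalizer le_normalizer).2 le_rfl) f
      (QuotientGroup.mk'_surjective _)
  have hKP := component_commute_solvable hK hPs (by rw [normalizer_eq_top_iff.2 hPn]; exact le_top)
  have hmem : ∀ (x : M) (y : M), f x ∈ K → ⁅f x, f y⁆ = 1 →
      (x : G) * y * (x : G)⁻¹ * (y : G)⁻¹ ∈ (pPrimeCore p ↥M).map M.subtype := by
    intro x y _ h
    refine ⟨⁅x, y⁆, ?_, by simp [commutatorElement_def]⟩
    rw [← map_commutatorElement] at h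
    exact (QuotientGroup.eq_one_iff _).1 h
  have hRc : (Nat.card ((pPrimeCore p ↥M).map M.subtype)).Coprime p := (pPrimeCore_normalizer_props P hP).2.2
  obtain ⟨n, hn'⟩ := isPGroup_pow_card hP
  have hpow : ∀ x : M, f x ∈ K → (x : G) ^ p ^ n ∈ fixesComponents G := by
    intro x hx
    have hcomm : ∀ a ∈ P, (x : G) * a * (x : G)⁻¹ * a⁻¹ ∈ fixesComponents G := fun a ha =>
      pPrimeCore_normalizer_fixes hO P hP (hmem x ⟨a, le_normalizer ha⟩ hx (by
        have := commutator_mem_commutator hx (mem_map_of_mem f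
          (show (⟨a, le_normalizer ha⟩ : M) ∈ P.subgroupOf M from ha))
        rwa [hKP, mem_bot] at this))
    refine fixes_of_orbit hn' hcomm (orbit_of_coprime_comm hO hP hZ (fun t ht _ => ?_) hcomm)
    have := hmem x ⟨t, ht.2⟩ hx (by
      have := commutator_mem_commutator hx (mem_map_of_mem f
        (show (⟨t, ht.2⟩ : M) ∈ (layer G).subgroupOf M from ht.1))
      rwa [hcom, mem_bot] at this)
    refine Nat.Coprime.coprime_dvd_left ?_ hRc
    rw [← orderOf_mk (H := (pPrimeCore p ↥M).map M.subtype) _ this]
    exact orderOf_dvd_natCard _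
  haveI : (((fixesComponents G).subgroupOf M).map f).Normal :=
    Normal.map inferInstance f (QuotientGroup.mk'_surjective _)
  have := le_ker_of_perfect (p := p) (component_commutator_eq hK)
    (QuotientGroup.mk' (((fixesComponents G).subgroupOf M).map f)) (by
      intro y hy
      obtain ⟨x, rfl⟩ := QuotientGroup.mk'_surjective _ y
      refine ⟨n, ?_⟩
      rw [← map_pow, ← map_pow]
      exact (QuotientGroup.eq_one_iff _).2 ⟨x ^ p ^ n, by simpa [mem_subgroupOf] using hpow x hy, rfl⟩)
  rw [QuotientGroup.ker_mk'] at this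
  refine (comap_mono this).trans ?_
  rw [comap_map_eq, QuotientGroup.ker_mk']
  exact sup_le le_rfl hker

/-- The preimage of the layer of `N_G(P)/O_{p'}(N_G(P))` fixes every component. -/
theorem layer_mod_core_fixes (hO : pPrimeCore p G = ⊥) {P : Subgroup G} (hP : IsPGroup p P) :
    (layer (↥(normalizer (P : Set G)) ⧸ pPrimeCore p ↥(normalizer (P : Set G)))).comap
        (QuotientGroup.mk' (pPrimeCore p ↥(normalizer (P : Set G)))) ≤
      (fixesComponents G).subgroupOf (normalizer (P : Set G)) := by
  classical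
  set N := normalizer (P : Set G) with hN
  let P' := P ⊔ layerCenter G
  have hP' : IsPGroup p P' := hP.to_sup_of_normal_right (layerCenter_isPGroup hO)
  set M := normalizer (P' : Set G) with hM
  have hNM : N ≤ M :=
    (le_inf le_rfl le_normalizer_of_normal).trans
      (normalizer_inf_normalizer_le_normalizer_sup P (layerCenter G))
  let f := QuotientGroup.mk' (pPrimeCore p ↥N)
  have hker : pPrimeCore p ↥N ≤ (fixesComponents G).subgroupOf N := fun x hx =>
    pPrimeCore_normalizer_fixes hO P hP ⟨x, hx, rfl⟩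
  suffices h : layer (↥N ⧸ pPrimeCore p ↥N) ≤ ((fixesComponents G).subgroupOf N).map f by
    refine (comap_mono h).trans ?_
    rw [comap_map_eq, QuotientGroup.ker_mk']
    exact sup_le le_rfl hker
  refine layer_le_iff.2 fun K hK => ?_
  have hfin : Finite (↥N ⧸ pPrimeCore p ↥N) := Quotient.finite _
  obtain ⟨hQP, hQn, hQc⟩ := pPrimeCore_normalizer_props P hP
  have hQZ := coprime_centralizes_layerCenter hO hP hQP hQn hQc
  let C := centralizer (P' : Set G)
  have hCdef : ∀ x : G, x ∈ centralizer (P : Set G) → x ∈ centralizer (layerCenter G : Set G) → x ∈ C := by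
    intro x h1 h2
    show x ∈ centralizer (P' : Set G)
    have : P' ≤ centralizer ({x} : Set G) := by
      refine sup_le ?_ ?_ <;> intro y hy <;> rw [mem_centralizer_iff] <;> rintro z rfl
      · exact (mem_centralizer_iff.1 h1 y hy).symm
      · exact (mem_centralizer_iff.1 h2 y hy).symm
    rw [mem_centralizer_iff]
    exact fun y hy => (mem_centralizer_iff.1 (this hy) x rfl).symm
  have hQC : pPrimeCore p ↥N ≤ C.subgroupOf N := fun x hx =>
    hCdef _ (hQP ⟨x, hx, rfl⟩) (hQZ ⟨x, hx, rfl⟩)
  haveI hCN : (C.subgroupOf N).Normal := by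
    have hCM : M ≤ normalizer (C : Set G) := normalizer_le_normalizer_centralizer P'
    refine (normal_subgroupOf_iff_le_normalizer ?_).2 (hNM.trans hCM)
    exact (centralizer_le (le_sup_left : P ≤ P')).trans (centralizer_le_normalizer _)
  haveI : ((C.subgroupOf N).map f).Normal :=
    Normal.map inferInstance f (QuotientGroup.mk'_surjective _)
  -- `K` lies in the image of `C`
  have hsolv : ∀ S : Subgroup G, S ≤ N → IsPGroup p S → (S.subgroupOf N).Normal →
      ⁅K, (S.subgroupOf N).map f⁆ = ⊥ := by
    intro S _ hS hSn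
    haveI : Group.IsNilpotent ↥((S.subgroupOf N).map f) :=
      ((hS.comap_of_injective N.subtype N.subtype_injective : IsPGroup p (S.subgroupOf N)).map f).isNilpotent
    refine component_commute_solvable hK inferInstance ?_
    rw [normalizer_eq_top_iff.2 (Normal.map hSn f (QuotientGroup.mk'_surjective _))]
    exact le_top
  let S := layerCenter G ⊓ centralizer (P : Set G)
  have hSN : S ≤ N := inf_le_right.trans (centralizer_le_normalizer _)
  have hSp : IsPGroup p S := (layerCenter_isPGroup hO).to_le inf_le_left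
  have hKP := hsolv P le_normalizer hP ((normal_subgroupOf_iff_le_normalizer le_normalizer).2 le_rfl)
  have hKS := hsolv S hSN hSp ((normal_subgroupOf_iff_le_normalizer hSN).2
    ((le_inf le_normalizer_of_normal (normalizer_le_normalizer_centralizer P)).trans
      inf_normalizer_le_normalizer_inf))
  have hcent : ∀ x : N, f x ∈ K → ∀ T : Subgroup G, T ≤ N → IsPGroup p T →
      N ≤ normalizer (T : Set G) → ⁅K, (T.subgroupOf N).map f⁆ = ⊥ →
      (x : G) ∈ centralizer (T : Set G) := by
    intro x hx T hT hTp hTn h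
    rw [mem_centralizer_iff]
    intro t ht
    have h1 : ⁅f x, f ⟨t, hT ht⟩⁆ = 1 := by
      have := commutator_mem_commutator hx (mem_map_of_mem f
        (show (⟨t, hT ht⟩ : N) ∈ T.subgroupOf N from ht))
      rwa [h, mem_bot] at this
    rw [← map_commutatorElement] at h1
    have hR : ⁅x, (⟨t, hT ht⟩ : N)⁆ ∈ pPrimeCore p ↥N := (QuotientGroup.eq_one_iff _).1 h1
    have h2 : (x : G) * t * (x : G)⁻¹ * t⁻¹ ∈ T :=
      mul_mem ((mem_normalizer_iff.1 (hTn x.2) t).1 ht) (inv_mem ht)
    have h3 : (x : G) * t * (x : G)⁻¹ * t⁻¹ = 1 :=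
      Cfsg.Agent.PBasic.eq_one_of_isPGroup_of_coprime hTp h2
        (Cfsg.Agent.PBasic.coprime_orderOf_of_mem hQc ⟨_, hR, by simp [commutatorElement_def]⟩)
    rw [mul_inv_eq_one] at h3
    exact (mul_inv_eq_iff_eq_mul.1 h3).symm
  have hKC : K ≤ (C.subgroupOf N).map f := by
    have := le_ker_of_perfect (p := p) (component_commutator_eq hK)
      (QuotientGroup.mk' ((C.subgroupOf N).map f)) (by
        intro y hy
        obtain ⟨x, rfl⟩ := QuotientGroup.mk'_surjective _ y
        refine ⟨(orderOf (x : G)).factorization p, ?_⟩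
        rw [← map_pow, ← map_pow]
        refine (QuotientGroup.eq_one_iff _).2 ⟨x ^ _, ?_, rfl⟩
        show ((x ^ _ : N) : G) ∈ C
        rw [SubgroupClass.coe_pow]
        have hxP := hcent x hy P le_normalizer hP le_rfl hKP
        have hxS := hcent x hy S hSN hSp
          ((le_inf le_normalizer_of_normal (normalizer_le_normalizer_centralizer P)).trans
            inf_normalizer_le_normalizer_inf) hKS
        refine hCdef _ (pow_mem hxP _) (layerCenter_centralized hO hP (pow_mem hxP _) ?_ (pow_mem hxS _))
        have h0 := (orderOf_pos (x : G)).ne'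
        rw [orderOf_pow' _ (pow_ne_zero _ (Fact.out : p.Prime).ne_zero),
          Nat.gcd_eq_right (Nat.ordProj_dvd _ _), Nat.coprime_comm]
        exact Nat.coprime_ordCompl Fact.out h0)
    rwa [QuotientGroup.ker_mk'] at this
  -- transport to `M`
  have hkerle : pPrimeCore p ↥N ≤ (pPrimeCore p ↥M).comap (inclusion hNM) := by
    intro x hx
    have hxC := hQC hx
    have hCle : C ≤ M := centralizer_le_normalizer _
    haveI hCMn : (C.subgroupOf M).Normal :=
      (normal_subgroupOf_iff_le_normalizer hCle).2 (normalizer_le_normalizer_centralizer P')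
    haveI := Cfsg.Agent.PBasic.pPrimeCore_characteristic p ↥(C.subgroupOf M)
    have hQle : (pPrimeCore p ↥N).map (inclusion hNM) ≤ C.subgroupOf M := by
      rintro _ ⟨z, hz, rfl⟩; exact hQC hz
    have hin : ((pPrimeCore p ↥N).map (inclusion hNM)).subgroupOf (C.subgroupOf M) ≤
        pPrimeCore p ↥(C.subgroupOf M) := by
      refine Cfsg.Agent.PBasic.le_pPrimeCore ⟨?_⟩ ?_
      · rintro ⟨z, hz⟩ ⟨w, hw, hwz⟩ ⟨c, hc⟩
        have hcN : (c : G) ∈ N :=
          centralizer_le_normalizer _ (centralizer_le (le_sup_left : P ≤ P') hc)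
        refine ⟨⟨c, hcN⟩ * w * ⟨c, hcN⟩⁻¹, ?_, ?_⟩
        · haveI := Cfsg.Agent.PBasic.pPrimeCore_characteristic p ↥N
          exact (inferInstance : (pPrimeCore p ↥N).Normal).conj_mem w hw _
        · have hwz' : inclusion hNM w = z := hwz
          show inclusion hNM _ = c * z * c⁻¹
          rw [← hwz', map_mul, map_mul, map_inv]
          rfl
      · rw [Nat.card_congr (subgroupOfEquivOfLe hQle).toEquiv,
          card_map_of_injective (inclusion_injective hNM)]
        exact Cfsg.Agent.PBasic.pPrimeCore_coprime p ↥N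
    exact Cfsg.Agent.PBasic.map_pPrimeCore_le_of_normal (C.subgroupOf M)
      ⟨⟨inclusion hNM x, hxC⟩, hin ⟨x, hx, rfl⟩, rfl⟩
  haveI := Cfsg.Agent.PBasic.pPrimeCore_characteristic p ↥N
  haveI := Cfsg.Agent.PBasic.pPrimeCore_characteristic p ↥M
  let ι : (↥N ⧸ pPrimeCore p ↥N) →* (↥M ⧸ pPrimeCore p ↥M) :=
    QuotientGroup.map _ _ (inclusion hNM) hkerle
  have hι : Function.Injective ι := by
    rw [← MonoidHom.ker_eq_bot_iff, QuotientGroup.ker_map, Subgroup.map_eq_bot_iff, QuotientGroup.ker_mk']
    refine Cfsg.Agent.PBasic.le_pPrimeCore inferInstance (Nat.Coprime.coprime_dvd_left ?_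
      (Cfsg.Agent.PBasic.pPrimeCore_coprime p ↥M))
    rw [← card_map_of_injective (inclusion_injective hNM)]
    exact card_dvd_of_le (map_comap_le _ _)
  have hnorm : (((C.subgroupOf N).map f).map ι).Normal := by
    have heq : ((C.subgroupOf N).map f).map ι = (C.subgroupOf M).map (QuotientGroup.mk' (pPrimeCore p ↥M)) := by
      rw [map_map]
      ext y
      constructor
      · rintro ⟨x, hx, rfl⟩
        exact ⟨inclusion hNM x, hx, rfl⟩
      · rintro ⟨x, hx, rfl⟩
        exact ⟨⟨x, centralizer_le_normalizer _ (centralizer_le (le_sup_left : P ≤ P') hx)⟩, hx, rfl⟩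
    rw [heq]
    exact Normal.map ((normal_subgroupOf_iff_le_normalizer (centralizer_le_normalizer _)).2
      (normalizer_le_normalizer_centralizer P')) _ (QuotientGroup.mk'_surjective _)
  have hKM := component_map_of_injective ι hι hK hKC hnorm
  intro y hy
  obtain ⟨x, rfl⟩ := QuotientGroup.mk'_surjective _ y
  refine mem_map_of_mem f ?_
  have := layer_mod_core_fixes_aux hO hP' le_sup_right (K.map ι) hKM
    (show inclusion hNM x ∈ (K.map ι).comap (QuotientGroup.mk' _) from ⟨f x, hy, rfl⟩)
  exact this

end Cfsg.Agent.Components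

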