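import Cfsg.Prelude.Def_Local
import Cfsg.Agent.Lib.Components.Fitting

/-!
Quasisimple groups, components and the layer.
-/

set_option autoImplicit false
set_option linter.style.haveILetI false

namespace Cfsg.Agent.Components

open Subgroup

variable {G G' : Type*} [Group G] [Group G']

theorem commutator_le_of_le_normalizer {X Y : Subgroup G} (h : Y ≤ normalizer (X : Set G)) :
    ⁅X, Y⁆ ≤ X := by
  refine commutator_le.2 fun x hx y hy => ?_
  have hy' : y * x⁻¹ * y⁻¹ ∈ X := ((mem_normalizer_iff.1 (h hy)) x⁻¹).1 (X.inv_mem hx)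
  rw [commutatorElement_def, mul_assoc x y, mul_assoc x]
  exact X.mul_mem hx hy'

theorem commutator_le_inf_of_normalizer {X Y : Subgroup G} (h1 : Y ≤ normalizer (X : Set G))
    (h2 : X ≤ normalizer (Y : Set G)) : ⁅X, Y⁆ ≤ X ⊓ Y :=
  le_inf (commutator_le_of_le_normalizer h1)
    (by rw [commutator_comm]; exact commutator_le_of_le_normalizer h2)

theorem normalizes_of_commute {X Y : Subgroup G} (h : ⁅X, Y⁆ = ⊥) :
    X ≤ normalizer (Y : Set G) :=
  (commutator_eq_bot_iff_le_centralizer.1 h).trans (centralizer_le_normalizer _)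

/-! ### Quasisimple groups -/

theorem quasisimple_center_ne_top (h : IsQuasisimple G) : center G ≠ ⊤ := by
  intro hc
  haveI := h.2
  obtain ⟨x, hx⟩ := exists_ne (1 : G ⧸ center G)
  apply hx
  obtain ⟨g, rfl⟩ := QuotientGroup.mk'_surjective _ x
  exact (QuotientGroup.eq_one_iff g).2 (hc ▸ mem_top g)

theorem quasisimple_nontrivial (h : IsQuasisimple G) : Nontrivial G := by
  by_contra hn
  rw [not_nontrivial_iff_subsingleton] at hn
  exact quasisimple_center_ne_top h (Subsingleton.elim _ _)

theorem quasisimple_not_solvable (h : IsQuasisimple G) : ¬ Group.IsSolvable G := by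
  haveI := h.1
  haveI := quasisimple_nontrivial h
  exact Group.IsPerfect.not_isSolvable G

theorem quasisimple_not_commutative (h : IsQuasisimple G) : ¬ IsMulCommutative G := by
  haveI := h.1
  haveI := quasisimple_nontrivial h
  exact Group.IsPerfect.not_isMulCommutative G

theorem eq_top_of_sup_center_eq_top [Group.IsPerfect G] (N : Subgroup G) [N.Normal]
    (h : N ⊔ center G = ⊤) : N = ⊤ := by
  refine top_le_iff.1 ?_
  rw [← (Group.IsPerfect.commutator_eq_top : commutator G = ⊤), commutator_def]
  refine commutator_le.2 fun x hx y hy => ?_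
  rw [← h] at hx hy
  obtain ⟨a, ha, z, hz, rfl⟩ := mem_sup_of_normal_left.1 hx
  obtain ⟨b, hb, w, hw, rfl⟩ := mem_sup_of_normal_left.1 hy
  rw [← QuotientGroup.eq_one_iff]
  have ea : (a : G ⧸ N) = 1 := (QuotientGroup.eq_one_iff a).2 ha
  have eb : (b : G ⧸ N) = 1 := (QuotientGroup.eq_one_iff b).2 hb
  have ec : (z : G) * w = w * z := (mem_center_iff.1 hz w).symm
  have ec' : (z : G ⧸ N) * (w : G ⧸ N) = (w : G ⧸ N) * (z : G ⧸ N) := congrArg QuotientGroup.mk ec
  simp only [commutatorElement_def, QuotientGroup.mk_mul, QuotientGroup.mk_inv, ea, eb, one_mul]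
  rw [ec', mul_assoc (w : G ⧸ N), mul_inv_cancel, mul_one, mul_inv_cancel]

theorem quasisimple_normal (h : IsQuasisimple G) (N : Subgroup G) [N.Normal] :
    N = ⊤ ∨ N ≤ center G := by
  haveI := h.2
  haveI := h.1
  rcases (Normal.map (inferInstance : N.Normal) (QuotientGroup.mk' (center G))
    (QuotientGroup.mk'_surjective _)).eq_bot_or_eq_top with e | e
  · right
    rwa [Subgroup.map_eq_bot_iff, QuotientGroup.ker_mk'] at e
  · left
    apply eq_top_of_sup_center_eq_top
    have := congrArg (comap (QuotientGroup.mk' (center G))) e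
    rwa [comap_map_eq, QuotientGroup.ker_mk', comap_top] at this

theorem quasisimple_subnormal (h : IsQuasisimple G) {H : Subgroup G} (hH : H.IsSubnormal) :
    H = ⊤ ∨ H ≤ center G := by
  induction hH with
  | top => exact Or.inl rfl
  | step H K hle hK hN ih =>
    rcases ih with rfl | e
    · haveI : H.Normal := by
        have := (normal_subgroupOf_iff_le_normalizer hle).1 hN
        exact normalizer_eq_top_iff.1 (top_le_iff.1 this)
      exact quasisimple_normal h H
    · exact Or.inr (hle.trans e)

theorem center_map_equiv (e : G ≃* G') : (center G).map e.toMonoidHom = center G' := by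
  ext x
  constructor
  · rintro ⟨y, hy, rfl⟩
    rw [mem_center_iff]
    intro g
    obtain ⟨g', rfl⟩ := e.surjective g
    show e g' * e y = e y * e g'
    rw [← map_mul, ← map_mul, mem_center_iff.1 hy g']
  · intro hx
    refine ⟨e.symm x, ?_, by simp⟩
    rw [SetLike.mem_coe, mem_center_iff]
    intro g
    apply e.injective
    rw [map_mul, map_mul, e.apply_symm_apply]
    exact mem_center_iff.1 hx (e g)

/-- A nontrivial surjective image of a quasisimple group is quasisimple. -/
theorem quasisimple_of_surjective [Nontrivial G'] (h : IsQuasisimple G) (f : G →* G')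
    (hf : Function.Surjective f) : IsQuasisimple G' := by
  haveI := h.1
  haveI := h.2
  haveI hp : Group.IsPerfect G' := Group.IsPerfect.ofSurjective (f := f) hf
  refine ⟨hp, ?_⟩
  have hc : (center G').comap f = center G := by
    apply le_antisymm
    · rcases quasisimple_normal h ((center G').comap f) with e | e
      · exfalso
        have : center G' = ⊤ := top_le_iff.1 fun x _ => by
          obtain ⟨y, rfl⟩ := hf x
          exact (e.symm ▸ mem_top y : y ∈ (center G').comap f)
        exact Group.IsPerfect.not_isMulCommutative G' (center_eq_top_iff.1 this)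
      · exact e
    · intro x hx
      rw [mem_comap, mem_center_iff]
      intro g
      obtain ⟨g', rfl⟩ := hf g
      rw [← map_mul, ← map_mul, mem_center_iff.1 hx g']
  let q : G →* G' ⧸ center G' := (QuotientGroup.mk' (center G')).comp f
  have hq : Function.Surjective q := (QuotientGroup.mk'_surjective _).comp hf
  have hk : q.ker = center G := by
    rw [← MonoidHom.comap_ker, QuotientGroup.ker_mk', hc]
  haveI : Nontrivial (G' ⧸ center G') := by
    rw [← not_subsingleton_iff_nontrivial]
    intro hsub
    apply Group.IsPerfect.not_isMulCommutative G'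
    refine center_eq_top_iff.1 (top_le_iff.1 fun x _ => ?_)
    exact (QuotientGroup.eq_one_iff x).1 (Subsingleton.elim _ _)
  exact IsSimpleGroup.isSimpleGroup_of_surjective
    (QuotientGroup.lift (center G) q hk.ge) (QuotientGroup.lift_surjective_of_surjective _ _ hq _)

theorem quasisimple_congr (e : G ≃* G') : IsQuasisimple G ↔ IsQuasisimple G' := by
  constructor
  · intro h
    haveI := quasisimple_nontrivial h
    haveI : Nontrivial G' := e.toEquiv.nontrivial_congr.1 inferInstance
    exact quasisimple_of_surjective h e.toMonoidHom e.surjective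
  · intro h
    haveI := quasisimple_nontrivial h
    haveI : Nontrivial G := e.toEquiv.nontrivial_congr.2 inferInstance
    exact quasisimple_of_surjective h e.symm.toMonoidHom e.symm.surjective

theorem quasisimple_commutator_eq {L : Subgroup G} (h : IsQuasisimple ↥L) : ⁅L, L⁆ = L :=
  Subgroup.isPerfect_iff.1 h.1

/-! ### Components -/

theorem component_ne_bot {L : Subgroup G} (h : IsComponent L) : L ≠ ⊥ := by
  rintro rfl
  haveI := quasisimple_nontrivial h.2
  exact not_nontrivial (↥(⊥ : Subgroup G)) inferInstance

theorem component_commutator_eq {L : Subgroup G} (h : IsComponent L) : ⁅L, L⁆ = L :=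
  quasisimple_commutator_eq h.2

theorem component_map_subtype {H : Subgroup G} (hH : H.IsSubnormal) {K : Subgroup ↥H}
    (hK : IsComponent K) : IsComponent (K.map H.subtype) :=
  ⟨hK.1.trans' hH,
    (quasisimple_congr (equivMapOfInjective K H.subtype H.subtype_injective)).1 hK.2⟩

theorem component_subgroupOf {L H : Subgroup G} (hL : IsComponent L) (h : L ≤ H) :
    IsComponent (L.subgroupOf H) :=
  ⟨hL.1.subgroupOf, (quasisimple_congr (subgroupOfEquivOfLe h)).2 hL.2⟩

theorem component_iff_map_subtype {H : Subgroup G} (hH : H.IsSubnormal) (K : Subgroup ↥H) :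
    IsComponent K ↔ IsComponent (K.map H.subtype) := by
  refine ⟨component_map_subtype hH, fun h => ?_⟩
  have := component_subgroupOf h (map_subtype_le K)
  rwa [subgroupOf, comap_map_eq_self_of_injective H.subtype_injective] at this

theorem component_map_equiv (e : G ≃* G') {L : Subgroup G} (hL : IsComponent L) :
    IsComponent (L.map e.toMonoidHom) :=
  ⟨hL.1.map e.surjective,
    (quasisimple_congr (equivMapOfInjective L e.toMonoidHom e.injective)).1 hL.2⟩

private theorem le_or_commute_aux [Finite G] {L : Subgroup G} (hq : IsQuasisimple ↥L) :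
    ∀ (n : ℕ) (W H : Subgroup G), Nat.card W ≤ n → L ≤ W → H ≤ W →
      (L.subgroupOf W).IsSubnormal → (H.subgroupOf W).IsSubnormal → L ≤ H ∨ ⁅L, H⁆ = ⊥ := by
  intro n
  induction n with
  | zero => intro W H hW; exact absurd hW (not_le.2 Nat.card_pos)
  | succ n ih =>
    intro W H hW hLW hHW hLs hHs
    by_cases hLtop : L.subgroupOf W = ⊤
    · have hWL : W = L := le_antisymm (subgroupOf_eq_top.1 hLtop) hLW
      subst hWL
      rcases quasisimple_subnormal hq hHs with e | e
      · exact Or.inl (subgroupOf_eq_top.1 e)
      · right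
        rw [commutator_eq_bot_iff_le_centralizer]
        intro x hx
        rw [mem_centralizer_iff]
        intro h hh
        have := mem_center_iff.1 (e (show (⟨h, hHW hh⟩ : W) ∈ H.subgroupOf W from hh)) ⟨x, hx⟩
        exact (congrArg Subtype.val this).symm
    by_cases hHtop : H.subgroupOf W = ⊤
    · exact Or.inl (hLW.trans (subgroupOf_eq_top.1 hHtop))
    obtain ⟨X', hX'n, hLX', hX'lt⟩ := hLs.exists_normal_and_le_and_lt_top_of_ne hLtop
    obtain ⟨Y', hY'n, hHY', hY'lt⟩ := hHs.exists_normal_and_le_and_lt_top_of_ne hHtop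
    let X := X'.map W.subtype
    let Y := Y'.map W.subtype
    have hXW : X ≤ W := map_subtype_le X'
    have hYW : Y ≤ W := map_subtype_le Y'
    have hsX : X.subgroupOf W = X' := comap_map_eq_self_of_injective W.subtype_injective X'
    have hsY : Y.subgroupOf W = Y' := comap_map_eq_self_of_injective W.subtype_injective Y'
    have hWX : W ≤ normalizer (X : Set G) :=
      (normal_subgroupOf_iff_le_normalizer hXW).1 (hsX.symm ▸ hX'n)
    have hWY : W ≤ normalizer (Y : Set G) :=
      (normal_subgroupOf_iff_le_normalizer hYW).1 (hsY.symm ▸ hY'n)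
    have hcard : ∀ Z' : Subgroup ↥W, Z' < ⊤ → Nat.card ↥(Z'.map W.subtype) ≤ n := by
      intro Z' hZ'
      rw [Nat.card_congr (equivMapOfInjective Z' W.subtype W.subtype_injective).toEquiv.symm]
      have : Nat.card Z' < Nat.card W := by
        rcases lt_or_eq_of_le (Subgroup.card_le_card_group Z') with h | h
        · exact h
        · exact absurd (eq_top_of_card_eq _ h) hZ'.ne
      omega
    have hLX : L ≤ X := fun x hx => ⟨⟨x, hLW hx⟩, hLX' hx, rfl⟩
    have hHY : H ≤ Y := fun x hx => ⟨⟨x, hHW hx⟩, hHY' hx, rfl⟩
    have mono : ∀ {A Z : Subgroup G}, Z ≤ W → (A.subgroupOf W).IsSubnormal →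
        (A.subgroupOf Z).IsSubnormal := fun {A Z} hZ hA => hA.comap (inclusion hZ)
    by_cases hLY : L ≤ Y
    · exact ih Y H (hcard Y' hY'lt) hLY hHY (mono hYW hLs) (mono hYW hHs)
    have hXY : ((X ⊓ Y).subgroupOf X).IsSubnormal := by
      rw [inf_subgroupOf_left]
      exact ((mono hXW (hsY.symm ▸ hY'n.isSubnormal)))
    rcases ih X (X ⊓ Y) (hcard X' hX'lt) hLX inf_le_left (mono hXW hLs) hXY with e | e
    · exact absurd (e.trans inf_le_right) hLY
    right
    have h1 : ⁅L, H⁆ ≤ X ⊓ Y :=
      (commutator_mono hLX hHY).trans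
        (commutator_le_inf_of_normalizer (hYW.trans hWX) (hXW.trans hWY))
    have h2 : ⁅⁅L, H⁆, L⁆ = ⊥ := by
      rw [eq_bot_iff, ← e, commutator_comm ⁅L, H⁆ L]
      exact commutator_mono le_rfl h1
    have h3 : ⁅⁅H, L⁆, L⁆ = ⊥ := by rw [commutator_comm H L]; exact h2
    have := commutator_commutator_eq_bot_of_rotate (H₁ := L) (H₂ := L) (H₃ := H) h2 h3
    rwa [quasisimple_commutator_eq hq] at this

/-- A component lies in, or centralises, each subnormal subgroup (Aschbacher 31.4). -/
theorem component_le_or_commute [Finite G] {L H : Subgroup G} (hL : IsComponent L)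
    (hH : H.IsSubnormal) : L ≤ H ∨ ⁅L, H⁆ = ⊥ :=
  le_or_commute_aux hL.2 (Nat.card (⊤ : Subgroup G)) ⊤ H le_rfl le_top le_top hL.1.subgroupOf
    hH.subgroupOf

theorem component_eq_of_le {L M : Subgroup G} (hL : IsComponent L) (hM : IsComponent M)
    (h : L ≤ M) : L = M := by
  rcases quasisimple_subnormal hM.2 (hL.1.subgroupOf (K := M)) with e | e
  · exact le_antisymm h (subgroupOf_eq_top.1 e)
  · exfalso
    apply quasisimple_not_commutative hL.2
    refine le_centralizer_iff_isMulCommutative.1 fun x hx => ?_
    rw [mem_centralizer_iff]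
    intro y hy
    have := mem_center_iff.1 (e (show (⟨y, h hy⟩ : M) ∈ L.subgroupOf M from hy)) ⟨x, h hx⟩
    exact congrArg Subtype.val this.symm

theorem components_commute [Finite G] {L M : Subgroup G} (hL : IsComponent L) (hM : IsComponent M)
    (hne : L ≠ M) : ⁅L, M⁆ = ⊥ :=
  (component_le_or_commute hL hM.1).resolve_left fun h => hne (component_eq_of_le hL hM h)

/-- A component centralises every solvable subgroup that it normalises. -/
theorem component_commute_solvable [Finite G] {L H : Subgroup G} (hL : IsComponent L)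
    (hs : Group.IsSolvable ↥H) (hn : L ≤ normalizer (H : Set G)) : ⁅L, H⁆ = ⊥ := by
  have hH : (H.subgroupOf (L ⊔ H)).Normal :=
    (normal_subgroupOf_iff_le_normalizer le_sup_right).2 (sup_le hn le_normalizer)
  refine (le_or_commute_aux hL.2 (Nat.card ↥(L ⊔ H)) (L ⊔ H) H le_rfl le_sup_left le_sup_right
    hL.1.subgroupOf hH.isSubnormal).resolve_left fun h => ?_
  haveI := hs
  exact quasisimple_not_solvable hL.2 (isSolvable_mono h)

/-! ### The layer -/

theorem component_le_layer {L : Subgroup G} (hL : IsComponent L) : L ≤ layer G :=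
  le_sSup hL

theorem layer_le_iff {H : Subgroup G} : layer G ≤ H ↔ ∀ L, IsComponent L → L ≤ H :=
  ⟨fun h L hL => (component_le_layer hL).trans h, fun h => sSup_le h⟩

theorem layer_map_equiv (e : G ≃* G') : (layer G).map e.toMonoidHom = layer G' := by
  apply le_antisymm
  · rw [map_le_iff_le_comap, layer_le_iff]
    intro L hL
    exact map_le_iff_le_comap.1 (component_le_layer (component_map_equiv e hL))
  · rw [layer_le_iff]
    intro L hL x hx
    exact ⟨e.symm x, component_le_layer (component_map_equiv e.symm hL) ⟨x, hx, rfl⟩, by simp⟩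

theorem layer_characteristic : (layer G).Characteristic :=
  characteristic_iff_map_eq.2 fun e => layer_map_equiv e

theorem layer_normal : (layer G).Normal := by
  haveI := layer_characteristic (G := G)
  infer_instance

theorem component_conj {L : Subgroup G} (hL : IsComponent L) (g : G) :
    IsComponent (L.map (MulAut.conj g).toMonoidHom) :=
  component_map_equiv (MulAut.conj g) hL

theorem layer_le_normalizer_component [Finite G] {L : Subgroup G} (hL : IsComponent L) :
    layer G ≤ normalizer (L : Set G) := by
  rw [layer_le_iff]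
  intro M hM
  rcases eq_or_ne M L with rfl | hne
  · exact le_normalizer
  · exact normalizes_of_commute (components_commute hM hL hne)

theorem component_normal_layer [Finite G] {L : Subgroup G} (hL : IsComponent L) :
    (L.subgroupOf (layer G)).Normal :=
  (normal_subgroupOf_iff_le_normalizer (component_le_layer hL)).2
    (layer_le_normalizer_component hL)

theorem layer_commutator_eq : ⁅layer G, layer G⁆ = layer G := by
  refine le_antisymm (commutator_le_self _) ?_
  rw [layer_le_iff]
  intro L hL
  rw [← component_commutator_eq hL]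
  exact commutator_mono (component_le_layer hL) (component_le_layer hL)

theorem layer_isPerfect : Group.IsPerfect ↥(layer G) :=
  Subgroup.isPerfect_iff.2 layer_commutator_eq

theorem layer_commute_solvable [Finite G] {H : Subgroup G} (hs : Group.IsSolvable ↥H)
    (hn : layer G ≤ normalizer (H : Set G)) : ⁅layer G, H⁆ = ⊥ := by
  rw [commutator_eq_bot_iff_le_centralizer, layer_le_iff]
  intro L hL
  exact commutator_eq_bot_iff_le_centralizer.1
    (component_commute_solvable hL hs ((component_le_layer hL).trans hn))

end Cfsg.Agent.Components
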