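import Cfsg.Agent.Lib.Components.PNormalizer

/-! Components and `p'`-cores of centralizers of elements of order `p` when `O_{p'}(G) = 1`. -/

set_option autoImplicit false
set_option linter.style.haveILetI false

namespace Cfsg.Agent.Components

open Subgroup
open scoped Pointwise commutatorElement

variable {G : Type*} [Group G]

theorem center_comm {L : Subgroup G} {z : G} (hz : z ∈ L) :
    (⟨z, hz⟩ : L) ∈ center L ↔ z ∈ centralizer (L : Set G) := by
  rw [Subgroup.mem_center_iff, mem_centralizer_iff]
  exact ⟨fun h y hy => congrArg Subtype.val (h ⟨y, hy⟩), fun h y => Subtype.ext (h y y.2)⟩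

/-- A normal subgroup of a component is central or everything. -/
theorem component_normal_cases {L N : Subgroup G} (hL : IsComponent L) (hNL : N ≤ L)
    (hN : L ≤ normalizer (N : Set G)) : N = L ∨ N ≤ centralizer (L : Set G) := by
  haveI : (N.subgroupOf L).Normal := (normal_subgroupOf_iff_le_normalizer hNL).2 hN
  rcases quasisimple_normal hL.2 (N.subgroupOf L) with h | h
  · exact Or.inl (le_antisymm hNL (subgroupOf_eq_top.1 h))
  · exact Or.inr fun x hx => (center_comm (hNL hx)).1 (h (show (⟨x, hNL hx⟩ : L) ∈ N.subgroupOf L from hx))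

theorem normalizes_left [Finite G] (L S : Subgroup G) : L ≤ normalizer ((⁅L, S⁆ : Subgroup G) : Set G) := by
  intro l hl
  refine mem_normalizer_fintype ?_
  suffices h : ⁅L, S⁆ ≤ (⁅L, S⁆ : Subgroup G).comap (MulAut.conj l).toMonoidHom from fun m hm => h hm
  rw [commutator_le]
  intro m hm s hs
  rw [mem_comap]
  show l * ⁅m, s⁆ * l⁻¹ ∈ _
  rw [show l * ⁅m, s⁆ * l⁻¹ = ⁅l * m, s⁆ * ⁅l, s⁆⁻¹ by simp only [commutatorElement_def]; group]
  exact mul_mem (commutator_mem_commutator (mul_mem hl hm) hs)
    (inv_mem (commutator_mem_commutator hl hs))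

/-- A subgroup whose commutator with a perfect `L` is centralized by `L` centralizes `L`. -/
theorem commute_of_commutator_central {L S : Subgroup G} (hL : ⁅L, L⁆ = L)
    (h : ⁅L, S⁆ ≤ centralizer (L : Set G)) : ⁅L, S⁆ = ⊥ := by
  have h1 : ⁅⁅L, S⁆, L⁆ = ⊥ := commutator_eq_bot_iff_le_centralizer.2 h
  have h2 : ⁅⁅S, L⁆, L⁆ = ⊥ := by rw [commutator_comm S L]; exact h1
  have h3 := commutator_commutator_eq_bot_of_rotate (H₁ := L) (H₂ := L) (H₃ := S) h1 h2
  rwa [hL] at h3

theorem layerCenter_of_component [Finite G] {L : Subgroup G} (hL : IsComponent L) {z : G} (hz : z ∈ L)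
    (hc : z ∈ centralizer (L : Set G)) : z ∈ layerCenter G := by
  refine ⟨component_le_layer hL hz, ?_⟩
  show z ∈ centralizer (layer G : Set G)
  have : layer G ≤ centralizer ({z} : Set G) := layer_le_iff.2 fun M hM => by
    intro y hy
    rw [mem_centralizer_iff]
    rintro _ rfl
    by_cases h : L = M
    · exact (mem_centralizer_iff.1 hc y (h ▸ hy)).symm
    · exact mem_centralizer_iff.1 (commutator_eq_bot_iff_le_centralizer.1
        (components_commute hM hL (Ne.symm h)) hy) _ hz
  rw [mem_centralizer_iff]
  exact fun y hy => (mem_centralizer_iff.1 (this hy) z rfl).symm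

variable [Finite G] {p : ℕ} [Fact p.Prime]

/-- A component is not killed modulo a subgroup with `p'`-quotient. -/
theorem component_not_le_pPrime (hO : pPrimeCore p G = ⊥) {L : Subgroup G} (hL : IsComponent L) :
    ∃ x ∈ L, (∃ k, x ^ p ^ k = 1) ∧ x ∉ centralizer (L : Set G) := by
  by_contra hne
  simp only [not_exists, not_and, not_not] at hne
  have hle : pGen p L ≤ centralizer (L : Set G) := (closure_le _).2 fun x ⟨hx, k, hk⟩ => hne x hx ⟨k, hk⟩
  rw [component_pGen hO hL] at hle
  haveI : IsMulCommutative L :=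
    ⟨⟨fun a b => Subtype.ext (mem_centralizer_iff.1 (hle b.2) a a.2)⟩⟩
  exact quasisimple_not_commutative hL.2 inferInstance

theorem centralizerPPrimeCore_props (x : G) :
    centralizerPPrimeCore p x ≤ centralizer ((zpowers x : Subgroup G) : Set G) ∧
      centralizer ((zpowers x : Subgroup G) : Set G) ≤ normalizer (centralizerPPrimeCore p x : Set G) ∧
        (Nat.card (centralizerPPrimeCore p x)).Coprime p := by
  have heq : centralizer ((zpowers x : Subgroup G) : Set G) = centralizer ({x} : Set G) := by
    rw [zpowers_eq_closure, centralizer_closure]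
  haveI := Cfsg.Agent.PBasic.pPrimeCore_characteristic p ↥(centralizer ({x} : Set G))
  rw [heq]
  refine ⟨map_subtype_le _, AxB.le_normalizer_map_subtype inferInstance, ?_⟩
  unfold centralizerPPrimeCore
  rw [card_map_of_injective (centralizer ({x} : Set G)).subtype_injective]
  exact Cfsg.Agent.PBasic.pPrimeCore_coprime p _

/-- If `x` of order `p` does not act as `[L,x] = L`, the coprime part commutes with `L`. -/
theorem component_commute_coprime (hO : pPrimeCore p G = ⊥) {x : G} (hx : x ^ p = 1) {R : Subgroup G}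
    (hRP : R ≤ centralizer ((zpowers x : Subgroup G) : Set G))
    (hRn : centralizer ((zpowers x : Subgroup G) : Set G) ≤ normalizer (R : Set G))
    (hRc : (Nat.card R).Coprime p) {L : Subgroup G} (hL : IsComponent L)
    (hne : ⁅L, zpowers x⁆ ≠ L) : ⁅L, R⁆ = ⊥ := by
  classical
  have hPp : IsPGroup p (zpowers x) := fun y => by
    obtain ⟨i, hi⟩ := mem_zpowers_iff.1 y.2
    refine ⟨1, Subtype.ext ?_⟩
    rw [pow_one, SubgroupClass.coe_pow, ← hi, ← zpow_natCast, ← zpow_mul, mul_comm, zpow_mul,
      zpow_natCast, hx, one_zpow]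
    rfl
  have hfix := coprime_fixesComponents hO hPp hRP hRn hRc
  have hRL : R ≤ normalizer (L : Set G) := fun r hr => mem_fixesComponents.1 (hfix hr) L hL
  have hcomx : ∀ r ∈ R, x * r = r * x := fun r hr => mem_centralizer_iff.1 (hRP hr) x (mem_zpowers x)
  have hLL := component_commutator_eq hL
  -- a homomorphism from `L` to `C_G(x)` with central kernel
  obtain ⟨φ, hφC, hφk, hφr⟩ : ∃ φ : L →* G, (∀ l, x * φ l = φ l * x) ∧
      (∀ l, φ l = 1 → (l : G) ∈ centralizer (L : Set G)) ∧
      ∀ r ∈ R, ∀ (l : L) (h : r * (l : G) * r⁻¹ ∈ L), r * φ l * r⁻¹ = φ ⟨r * l * r⁻¹, h⟩ := by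
    by_cases hxL : x ∈ normalizer (L : Set G)
    · have hle : ⁅L, zpowers x⁆ ≤ L :=
        commutator_le_of_le_normalizer (zpowers_le.2 hxL)
      have hcent : ⁅L, zpowers x⁆ = ⊥ := by
        rcases component_normal_cases hL hle (normalizes_left L (zpowers x)) with h | h
        · exact absurd h hne
        · exact commute_of_commutator_central hLL h
      refine ⟨L.subtype, fun l => ?_, fun l hl => ?_, fun r _ l h => rfl⟩
      · exact (mem_centralizer_iff.1 (commutator_eq_bot_iff_le_centralizer.1 hcent l.2) x (mem_zpowers x))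
      · rw [show (l : G) = 1 from hl]; exact one_mem _
    · -- the conjugates `L^{x^i}`, `0 < i < p`, are different from `L`
      let C' := centralizer (L : Set G)
      have hne' : ∀ i, 0 < i → i < p → ∀ l ∈ L, x ^ i * l * (x ^ i)⁻¹ ∈ C' := by
        intro i hi hip
        have hneL : L ≠ L.map (MulAut.conj (x ^ i)).toMonoidHom := by
          intro h
          apply hxL
          have hmem : x ^ i ∈ normalizer (L : Set G) := mem_normalizer_iff_map_conj_eq.2 h.symm
          obtain ⟨m, hm⟩ := exists_pow_eq_self_of_coprime (x := x) (n := i) (by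
            refine Nat.Coprime.coprime_dvd_right (orderOf_dvd_of_pow_eq_one hx) ?_
            rw [Nat.coprime_comm, (Fact.out : p.Prime).coprime_iff_not_dvd]
            exact Nat.not_dvd_of_pos_of_lt hi hip)
          rw [← hm]
          exact pow_mem hmem m
        intro l hl
        have h := commutator_eq_bot_iff_le_centralizer.1
          (components_commute (component_conj hL (x ^ i)) hL (Ne.symm hneL))
        exact h ⟨l, hl, rfl⟩
      let g : ℕ → G → G := fun n => Nat.rec (fun _ => 1) (fun _ f l => l * (x * f l * x⁻¹)) n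
      have g0 : ∀ l, g 0 l = 1 := fun _ => rfl
      have gs : ∀ n l, g (n + 1) l = l * (x * g n l * x⁻¹) := fun _ _ => rfl
      have gC : ∀ n, ∀ i, 0 < i → i + n ≤ p → ∀ l ∈ L, x ^ i * g n l * (x ^ i)⁻¹ ∈ C' := by
        intro n
        induction n with
        | zero => intro i _ _ l _; simp [g0]
        | succ n ih =>
          intro i hi hin l hl
          have h1 := hne' i hi (by omega) l hl
          have h2 := ih (i + 1) (by omega) (by omega) l hl
          rw [gs]
          convert mul_mem h1 h2 using 1
          rw [pow_succ]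
          group
      have gC1 : ∀ n, n < p → ∀ l ∈ L, x * g n l * x⁻¹ ∈ C' := fun n hn l hl => by
        simpa using gC n 1 one_pos (by omega) l hl
      have gmul : ∀ n, n ≤ p → ∀ a ∈ L, ∀ b ∈ L, g n (a * b) = g n a * g n b := by
        intro n
        induction n with
        | zero => intros; simp [g0]
        | succ n ih =>
          intro hn a ha b hb
          rw [gs, gs, gs, ih (by omega) a ha b hb]
          have hc := mem_centralizer_iff.1 (gC1 n (by omega) a ha) b hb
          calc a * b * (x * (g n a * g n b) * x⁻¹)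
              = a * (b * (x * g n a * x⁻¹)) * (x * g n b * x⁻¹) := by group
            _ = _ := by rw [hc]; group
      have gR : ∀ r ∈ R, ∀ n l, r * g n l * r⁻¹ = g n (r * l * r⁻¹) := by
        intro r hr n l
        induction n with
        | zero => simp [g0]
        | succ n ih =>
          rw [gs, gs, ← ih]
          have h1 : r * x = x * r := (hcomx r hr).symm
          have h2 : x⁻¹ * r⁻¹ = r⁻¹ * x⁻¹ := by rw [← mul_inv_rev, ← mul_inv_rev, h1]
          calc r * (l * (x * g n l * x⁻¹)) * r⁻¹ = (r * l * r⁻¹) * ((r * x) * g n l * (x⁻¹ * r⁻¹)) := by group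
            _ = _ := by rw [h1, h2]; group
      obtain ⟨q, hq⟩ : ∃ q, p = q + 1 := ⟨p - 1, by have := (Fact.out : p.Prime).pos; omega⟩
      have glast : ∀ n l, g (n + 1) l = g n l * (x ^ n * l * (x ^ n)⁻¹) := by
        intro n l
        induction n with
        | zero => simp [g0, gs]
        | succ n ih =>
          rw [gs (n + 1) l]
          nth_rewrite 1 [ih]
          rw [gs n l, pow_succ']
          group
      refine ⟨MonoidHom.mk' (fun l => g p l) (fun a b => gmul p le_rfl a a.2 b b.2), fun l => ?_,
        fun l hl => ?_, fun r hr l h => gR r hr p l⟩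
      · show x * g p l = g p l * x
        have h1 : x * g p l * x⁻¹ = (l : G)⁻¹ * g p l * l := by
          have h2 : g (p + 1) l = g p l * l := by rw [glast, hx]; simp
          have h3 := gs p l
          rw [h2] at h3
          rw [mul_assoc _ _ (l : G), h3, inv_mul_cancel_left]
        have h4 : (l : G)⁻¹ * g p l * l = g p l := by
          rw [hq, gs]
          have hc := mem_centralizer_iff.1 (gC1 q (by omega) l l.2) l l.2
          calc (l : G)⁻¹ * (l * (x * g q l * x⁻¹)) * l = x * g q l * x⁻¹ * l := by group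
            _ = _ := hc.symm
        rw [h4] at h1
        exact mul_inv_eq_iff_eq_mul.1 h1
      · have h1 : g p l = 1 := hl
        rw [hq, gs] at h1
        have h2 := gC1 q (by omega) l l.2
        rw [eq_inv_of_mul_eq_one_left h1]
        exact inv_mem h2
  -- the preimage of `R`
  let D : Subgroup G := (R.comap φ).map L.subtype
  have hDn : L ≤ normalizer (D : Set G) := by
    refine AxB.le_normalizer_map_subtype ⟨fun d hd l => ?_⟩
    have hl : φ l ∈ normalizer (R : Set G) := hRn <| by
      rw [mem_centralizer_iff]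
      intro z hz
      obtain ⟨i, rfl⟩ := mem_zpowers_iff.1 hz
      exact ((show Commute x (φ l) from hφC l).zpow_left i).eq
    show φ (l * d * l⁻¹) ∈ R
    rw [map_mul, map_mul, map_inv]
    exact (mem_normalizer_iff.1 hl _).1 hd
  have hDc : D ≤ centralizer (L : Set G) := by
    rcases component_normal_cases hL (map_subtype_le _) hDn with h | h
    · exfalso
      obtain ⟨l, hl, ⟨k, hk⟩, hlc⟩ := component_not_le_pPrime hO hL
      obtain ⟨l', hl', rfl⟩ := (h.ge hl : l ∈ D)
      apply hlc
      refine hφk l' ?_
      rw [← orderOf_eq_one_iff]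
      refine Nat.eq_one_of_dvd_coprimes (hRc.pow_right k) ?_ ?_
      · rw [← orderOf_mk (H := R) (φ l') hl']; exact orderOf_dvd_natCard _
      · refine orderOf_dvd_of_pow_eq_one ?_
        rw [← map_pow, show l' ^ p ^ k = 1 from Subtype.ext (by simpa using hk), map_one]
    · exact h
  refine commute_of_commutator_central hLL ((commutator_le).2 fun l hl r hr => hDc ?_)
  have hrl : r * l * r⁻¹ ∈ L := (mem_normalizer_iff.1 (hRL hr) l).1 hl
  refine ⟨⟨l * (r * l⁻¹ * r⁻¹), mul_mem hl (by simpa [mul_assoc] using inv_mem hrl)⟩, ?_,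
    by simp [commutatorElement_def, mul_assoc]⟩
  show φ _ ∈ R
  have e1 : (⟨l * (r * l⁻¹ * r⁻¹), mul_mem hl (by simpa [mul_assoc] using inv_mem hrl)⟩ : L) =
      ⟨l, hl⟩ * (⟨r * l * r⁻¹, hrl⟩ : L)⁻¹ := Subtype.ext (by simp [mul_assoc])
  rw [e1, map_mul, map_inv, ← hφr r hr ⟨l, hl⟩ hrl,
    show φ ⟨l, hl⟩ * (r * φ ⟨l, hl⟩ * r⁻¹)⁻¹ = (φ ⟨l, hl⟩ * r * (φ ⟨l, hl⟩)⁻¹) * r⁻¹ by group]
  refine mul_mem ((mem_normalizer_iff.1 (hRn ?_) r).1 hr) (inv_mem hr)
  rw [mem_centralizer_iff]
  intro z hz
  obtain ⟨i, rfl⟩ := mem_zpowers_iff.1 hz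
  exact ((show Commute x (φ ⟨l, hl⟩) from hφC _).zpow_left i).eq

/-- A coprime subgroup centralizing `P` and the layer is trivial. -/
theorem eq_bot_of_centralizes_layer (hO : pPrimeCore p G = ⊥) {P R : Subgroup G} (hP : IsPGroup p P)
    (hRP : R ≤ centralizer (P : Set G)) (hRn : centralizer (P : Set G) ≤ normalizer (R : Set G))
    (hRc : (Nat.card R).Coprime p) (hRE : R ≤ centralizer (layer G : Set G)) : R = ⊥ := by
  classical
  haveI := fittingSubgroup_normal (G := G)
  haveI := fittingSubgroup_nilpotent (G := G)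
  have hF : IsPGroup p (fittingSubgroup G) := isPGroup_of_normal_nilpotent hO _
  have hRF : R ≤ centralizer (fittingSubgroup G : Set G) := by
    intro r hr
    rw [mem_centralizer_iff]
    intro y hy
    have hcomm := coprime_normal_commute (X := centralizer (P : Set G))
      (R := fittingSubgroup G ⊓ centralizer (P : Set G)) hRn hRP inf_le_right
      ((le_inf le_normalizer_of_normal le_normalizer).trans inf_normalizer_le_normalizer_inf) (by
        obtain ⟨n, hn⟩ := (hF.to_le
          (inf_le_left : fittingSubgroup G ⊓ centralizer (P : Set G) ≤ _)).exists_card_eq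
        rw [hn]; exact hRc.pow_right n)
    have hr1 := commutator_eq_bot_iff_le_centralizer.1 hcomm hr
    exact (AxB.thompson hF hP le_normalizer_of_normal
      (fun z hz => (inferInstance : (fittingSubgroup G).Normal).conj_mem z hz r)
      (fun a ha => mem_centralizer_iff.1 (hRP hr) a ha) (pow_orderOf_eq_one r)
      (Nat.Coprime.symm (Nat.Coprime.coprime_dvd_left
        (by rw [← orderOf_mk (H := R) r hr]; exact orderOf_dvd_natCard _) hRc))
      (fun z hz hzP => (mem_centralizer_iff.1 hr1 z ⟨hz, mem_centralizer_iff.2 hzP⟩).symm) y hy).symm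
  have hstar : R ≤ centralizer (generalizedFittingSubgroup G : Set G) := by
    rw [← commutator_eq_bot_iff_le_centralizer, commutator_comm, commutator_eq_bot_iff_le_centralizer]
    refine sup_le ?_ ?_ <;>
      rw [← commutator_eq_bot_iff_le_centralizer, commutator_comm, commutator_eq_bot_iff_le_centralizer]
    · exact hRE
    · exact hRF
  let Z := centralizer (generalizedFittingSubgroup G : Set G)
  haveI := generalizedFitting_normal (G := G)
  haveI : Z.Normal := Subgroup.normal_centralizer
  haveI : Group.IsNilpotent Z := by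
    letI : CommGroup Z :=
      { mul_comm := fun a b => Subtype.ext
          (mem_centralizer_iff.1 b.2 a (centralizer_generalizedFitting_le a.2)) }
    exact CommGroup.isNilpotent
  rw [eq_bot_iff]
  intro r hr
  exact mem_bot.2 (Cfsg.Agent.PBasic.eq_one_of_isPGroup_of_coprime (isPGroup_of_normal_nilpotent hO Z)
    (hstar hr) (Cfsg.Agent.PBasic.coprime_orderOf_of_mem hRc hr))

end Cfsg.Agent.Components
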