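import Cfsg.Agent.Lib.Components.SchreierBalance
import Cfsg.Prelude.Def_EvenTechniques

/-! Subgroups which are `p`-components of a given subgroup, handled without nested subtypes. -/

set_option autoImplicit false
set_option linter.style.haveILetI false

namespace Cfsg.Agent.BpBalance

open Subgroup Cfsg.Agent.Components
open scoped Pointwise commutatorElement

variable {G : Type*} [Group G] [Finite G] {p : ℕ} [Fact p.Prime]

theorem pPrimeCore_eq_subgroupOf {K : Subgroup G} (hs : K.IsSubnormal) :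
    pPrimeCore p ↥K = (pPrimeCore p G).subgroupOf K := by
  haveI := FittingCores.pPrimeCore_normal (G := G) p
  refine le_antisymm ?_ (FittingCores.le_pPrimeCore normal_subgroupOf ?_)
  · intro x hx
    exact subnormal_le_pPrimeCore (p := p)
      ((FittingCores.pPrimeCore_normal (G := ↥K) p).isSubnormal.trans' hs)
      ((FittingCores.pPrimeCore_coprime p).coprime_dvd_left (by rw [card_map_of_injective K.subtype_injective]))
      (mem_map_of_mem _ hx)
  · exact (FittingCores.pPrimeCore_coprime (G := G) p).coprime_dvd_left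
      ((card_map_of_injective K.subtype_injective).symm.dvd.trans
        (card_dvd_of_le (map_subtype_subgroupOf_le K (pPrimeCore p G))))
where
  map_subtype_subgroupOf_le (K O : Subgroup G) : (O.subgroupOf K).map K.subtype ≤ O := by
    rintro _ ⟨x, hx, rfl⟩
    exact hx

variable (p) in
/-- `K` is a `p`-component of `H`. -/
structure PCIn (K H : Subgroup G) : Prop where
  le : K ≤ H
  sub : (K.subgroupOf H).IsSubnormal
  gen : K ≤ pGen p K
  qs : IsQuasisimple (↥K ⧸ pPrimeCore p ↥K)

/-- Criterion for a `p`-component. -/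
theorem isPComponent_mk {K : Subgroup G} (hs : K.IsSubnormal) (hg : K ≤ pGen p K)
    (hq : IsQuasisimple (↥K ⧸ pPrimeCore p ↥K)) : IsPComponent p K := by
  haveI := FittingCores.pPrimeCore_normal (G := G) p
  haveI := FittingCores.pPrimeCore_normal (G := ↥K) p
  set O := pPrimeCore p G
  set q := QuotientGroup.mk' O with hqd
  have hsurj := q.subgroupMap_surjective K
  have hker : (q.subgroupMap K).ker = pPrimeCore p ↥K := by
    rw [pPrimeCore_eq_subgroupOf hs]
    ext x
    rw [MonoidHom.mem_ker, Subtype.ext_iff, MonoidHom.subgroupMap_apply_coe, mem_subgroupOf]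
    exact QuotientGroup.eq_one_iff (x : G)
  refine ⟨hs, ⟨hs.map (QuotientGroup.mk'_surjective _), (quasisimple_congr
    ((QuotientGroup.quotientMulEquivOfEq hker.symm).trans
      (QuotientGroup.quotientKerEquivOfSurjective (φ := q.subgroupMap K) hsurj))).1 hq⟩, fun H hH hHK he => ?_⟩
  refine le_antisymm hHK (hg.trans (pGen_le_of_subnormal (O := K ⊓ O)
    ((FittingCores.pPrimeCore_coprime (G := G) p).coprime_dvd_left (card_dvd_of_le inf_le_right))
    (le_trans (le_inf le_normalizer le_normalizer_of_normal) inf_normalizer_le_normalizer_inf)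
    inf_le_left hHK hH.subgroupOf fun k hk => ?_))
  obtain ⟨h, hh, hhk⟩ := he.ge (mem_map_of_mem q hk)
  have hm : h⁻¹ * k ∈ O := by
    rw [← QuotientGroup.eq]
    exact hhk
  have := mul_mem (mem_sup_left hh : h ∈ H ⊔ K ⊓ O)
    (mem_sup_right (show h⁻¹ * k ∈ K ⊓ O from mem_inf.2 ⟨mul_mem (inv_mem (hHK hh)) hk, hm⟩))
  simpa using this

theorem quotient_congr {G' : Type*} [Group G'] [Finite G'] {K : Subgroup G} {K' : Subgroup G'}
    (e : ↥K ≃* ↥K') (h : IsQuasisimple (↥K ⧸ pPrimeCore p ↥K)) :
    IsQuasisimple (↥K' ⧸ pPrimeCore p ↥K') := by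
  haveI := FittingCores.pPrimeCore_normal (G := ↥K) p
  haveI := FittingCores.pPrimeCore_normal (G := ↥K') p
  exact (quasisimple_congr (QuotientGroup.congr _ _ e (FittingCores.pPrimeCore_map_equiv p e))).1 h

theorem le_pGen_comap {G' : Type*} [Group G'] (ι : G' →* G) (hι : Function.Injective ι) {K : Subgroup G}
    (hr : K ≤ ι.range) (h : K ≤ pGen p K) : K.comap ι ≤ pGen p (K.comap ι) := by
  have h1 : pGen p K ≤ (pGen p (K.comap ι)).map ι := by
    refine (closure_le _).2 ?_
    rintro x ⟨hx, k, hk⟩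
    obtain ⟨y, rfl⟩ := hr hx
    exact ⟨y, mem_pGen (show y ∈ K.comap ι from hx) (k := k) (hι (by rw [map_pow, hk, map_one])), rfl⟩
  intro y hy
  obtain ⟨z, hz, he⟩ := h1 (h hy)
  exact hι he ▸ hz

namespace PCIn

variable {K H H' : Subgroup G}

theorem perfect (h : PCIn p K H) : ⁅K, K⁆ = K := by
  have hc : IsPComponent p (K.subgroupOf H) :=
    isPComponent_mk h.sub (le_pGen_comap H.subtype H.subtype_injective (by rw [range_subtype]; exact h.le) h.gen)
      (quotient_congr (subgroupOfEquivOfLe h.le).symm h.qs)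
  have := congrArg (Subgroup.map H.subtype) (pComponent_commutator_eq hc)
  rwa [map_commutator, map_subgroupOf_eq_of_le h.le] at this

theorem toComp (h : PCIn p K H) : IsPComponent p (K.subgroupOf H) :=
  isPComponent_mk h.sub (le_pGen_comap H.subtype H.subtype_injective (by rw [range_subtype]; exact h.le) h.gen)
    (quotient_congr (subgroupOfEquivOfLe h.le).symm h.qs)

theorem ne_bot (h : PCIn p K H) : K ≠ ⊥ := by
  rintro rfl
  exact component_ne_bot h.toComp.2.1 (by rw [bot_subgroupOf, Subgroup.map_bot])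

theorem not_abelian (h : PCIn p K H) : ¬ K ≤ centralizer (K : Set G) := fun hc =>
  h.ne_bot (by rw [← h.perfect, commutator_eq_bot_iff_le_centralizer]; exact hc)

theorem mono (h : PCIn p K H) (hK : K ≤ H') (hH : H' ≤ H) : PCIn p K H' :=
  ⟨hK, h.sub.comap (inclusion hH), h.gen, h.qs⟩

theorem up (h : PCIn p K H) (hle : H ≤ H') (hn : H' ≤ normalizer (H : Set G)) : PCIn p K H' := by
  refine ⟨h.le.trans hle, ?_, h.gen, h.qs⟩
  exact IsSubnormal.trans (K := H.subgroupOf H') (fun x hx => h.le hx)
    (h.sub.comap (subgroupOfEquivOfLe hle).toMonoidHom) ((normal_subgroupOf_iff_le_normalizer hle).2 hn).isSubnormal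

theorem comap_inj {G' : Type*} [Group G'] [Finite G'] (ι : G' →* G) (hι : Function.Injective ι)
    (h : PCIn p K H) (hr : K ≤ ι.range) : PCIn p (K.comap ι) (H.comap ι) := by
  let g : ↥(H.comap ι) →* ↥H := (ι.comp (H.comap ι).subtype).codRestrict H fun x => x.2
  refine ⟨comap_mono h.le, h.sub.comap g, le_pGen_comap ι hι hr h.gen, ?_⟩
  refine quotient_congr ((MulEquiv.subgroupCongr (map_comap_eq_self hr).symm).trans
    (equivMapOfInjective (K.comap ι) ι hι).symm) h.qs

theorem map {G' : Type*} [Group G'] [Finite G'] (f : G →* G') (h : PCIn p K H) (hne : K.map f ≠ ⊥) :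
    PCIn p (K.map f) (H.map f) := by
  haveI := FittingCores.pPrimeCore_normal (G := ↥K) p
  haveI := FittingCores.pPrimeCore_normal (G := ↥(K.map f)) p
  refine ⟨map_mono h.le, ?_, (map_mono h.gen).trans (map_pGen_le f K), ?_⟩
  · have e : (K.subgroupOf H).map (f.subgroupMap H) = (K.map f).subgroupOf (H.map f) := by
      ext y
      constructor
      · rintro ⟨x, hx, rfl⟩
        exact mem_map_of_mem f hx
      · intro hy
        obtain ⟨k, hk, hky⟩ := (mem_subgroupOf.1 hy)
        exact ⟨⟨k, h.le hk⟩, hk, Subtype.ext hky⟩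
    rw [← e]
    exact h.sub.map (f.subgroupMap_surjective H)
  · let r := f.subgroupMap K
    have hr : Function.Surjective r := f.subgroupMap_surjective K
    have hle : pPrimeCore p ↥K ≤ (pPrimeCore p ↥(K.map f)).comap r := map_le_iff_le_comap.1
      (FittingCores.le_pPrimeCore (Normal.map inferInstance r hr)
        ((FittingCores.pPrimeCore_coprime p).coprime_dvd_left (card_map_dvd _ _)))
    haveI : Nontrivial (↥(K.map f) ⧸ pPrimeCore p ↥(K.map f)) := by
      rw [← not_subsingleton_iff_nontrivial]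
      intro hsub
      have htop : pPrimeCore p ↥(K.map f) = ⊤ := QuotientGroup.subgroup_eq_top_of_subsingleton _ hsub
      have hc : (Nat.card ↥(K.map f)).Coprime p := by
        rw [← Subgroup.card_top, ← htop]; exact FittingCores.pPrimeCore_coprime p
      apply hne
      refine le_bot_iff.1 (((map_mono h.gen).trans (map_pGen_le f K)).trans ((closure_le _).2 ?_))
      rintro x ⟨hx, k, hk⟩
      have h1 : (orderOf x).Coprime (p ^ k) :=
        (Cfsg.Agent.PBasic.coprime_orderOf_of_mem hc hx).pow_right k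
      show x = 1
      rw [← orderOf_eq_one_iff]
      exact Nat.eq_one_of_dvd_coprimes h1 dvd_rfl (orderOf_dvd_of_pow_eq_one hk)
    refine quasisimple_of_surjective h.qs (QuotientGroup.map _ _ r hle) fun y => ?_
    obtain ⟨z, rfl⟩ := QuotientGroup.mk'_surjective _ y
    obtain ⟨x, rfl⟩ := hr z
    exact ⟨QuotientGroup.mk' _ x, rfl⟩

theorem qs_of_map {G' : Type*} [Group G'] (f : G →* G') (h : PCIn p K H)
    (hker : K ⊓ f.ker ≤ centralizer (K : Set G)) (hq : IsQuasisimple ↥(K.map f)) : IsQuasisimple ↥K := by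
  haveI : Group.IsPerfect ↥K := Subgroup.isPerfect_iff.2 h.perfect
  refine quasisimple_of_quotient_central (f.subgroupMap K).ker (fun x hx => ?_) ((quasisimple_congr
    (QuotientGroup.quotientKerEquivOfSurjective (φ := f.subgroupMap K) (f.subgroupMap_surjective K))).2 hq)
  refine le_center_of_commute (inf_le_left : K ⊓ f.ker ≤ K) hker ?_
  exact ⟨x.2, congrArg Subtype.val hx⟩

theorem qs_of_core (h : PCIn p K H)
    (hc : (pPrimeCore p ↥K).map K.subtype ≤ centralizer (K : Set G)) : IsQuasisimple ↥K := by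
  haveI : Group.IsPerfect ↥K := Subgroup.isPerfect_iff.2 h.perfect
  haveI := FittingCores.pPrimeCore_normal (G := ↥K) p
  refine quasisimple_of_quotient_central (pPrimeCore p ↥K) (fun x hx => ?_) h.qs
  exact le_center_of_commute (map_subtype_le _) hc (show x ∈ _ from ⟨x, hx, rfl⟩)

/-- The core of a `p`-component of `H` lies in the core of `H`. -/
theorem core_le (h : PCIn p K H) :
    (pPrimeCore p ↥K).map K.subtype ≤ (pPrimeCore p ↥H).map H.subtype := by
  rintro _ ⟨x, hx, rfl⟩
  refine ⟨⟨x, h.le x.2⟩, ?_, rfl⟩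
  have hO : pPrimeCore p ↥(K.subgroupOf H) = (pPrimeCore p ↥H).subgroupOf (K.subgroupOf H) :=
    pPrimeCore_eq_subgroupOf h.sub
  have hm : (subgroupOfEquivOfLe h.le).symm x ∈ pPrimeCore p ↥(K.subgroupOf H) := by
    rw [← FittingCores.pPrimeCore_map_equiv p (subgroupOfEquivOfLe h.le).symm]
    exact mem_map_of_mem _ hx
  rw [hO] at hm
  exact hm

end PCIn

theorem pcin_of_comp {N : Subgroup G} {K : Subgroup ↥N} (h : IsPComponent p K) :
    PCIn p (K.map N.subtype) N :=
  ⟨map_subtype_le _, by
      rw [subgroupOf, comap_map_eq_self_of_injective N.subtype_injective]; exact h.1,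
    by
      conv_lhs => rw [← pComponent_pGen h]
      exact map_pGen_le _ _,
    quotient_congr (equivMapOfInjective K N.subtype N.subtype_injective) (pComponent_quotient_quasisimple h)⟩

theorem pcin_top_iff {K : Subgroup G} : PCIn p K ⊤ ↔ IsPComponent p K := by
  constructor
  · intro h
    refine isPComponent_mk ?_ h.gen h.qs
    have := h.sub.trans' (IsSubnormal.top (G := G))
    rwa [map_subgroupOf_eq_of_le le_top] at this
  · exact fun h => ⟨le_top, h.1.subgroupOf, (pComponent_pGen h).ge, pComponent_quotient_quasisimple h⟩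

/-- A `p`-component lies in a normal subgroup or commutes with it modulo the core. -/
theorem le_or_comm {K : Subgroup G} (hK : IsPComponent p K) {D : Subgroup G} (hD : D.Normal) :
    K ≤ D ∨ ⁅K, D⁆ ≤ pPrimeCore p G := by
  haveI := hD
  haveI := FittingCores.pPrimeCore_normal (G := G) p
  set q := QuotientGroup.mk' (pPrimeCore p G)
  rcases component_le_or_commute hK.2.1 (Normal.map hD q (QuotientGroup.mk'_surjective _)).isSubnormal with h | h
  · refine Or.inl ((pComponent_pGen hK).ge.trans ((pGen_mono (K := D ⊔ pPrimeCore p G) ?_).trans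
      (pGen_le_of_normal le_sup_left inferInstance ?_)))
    · rw [map_le_iff_le_comap, comap_map_eq, QuotientGroup.ker_mk'] at h
      exact h
    · rw [sup_comm, relIndex_sup_right]
      exact (FittingCores.pPrimeCore_coprime (G := G) p).coprime_dvd_left (relIndex_dvd_card _ _)
  · rw [← map_commutator, Subgroup.map_eq_bot_iff, QuotientGroup.ker_mk'] at h
    exact Or.inr h

theorem mem_sup_of_commute {A B : Subgroup G} (h : ⁅A, B⁆ = ⊥) {x : G} (hx : x ∈ A ⊔ B) :
    ∃ a ∈ A, ∃ b ∈ B, a * b = x := by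
  have hA : A ≤ normalizer (B : Set G) := normalizes_of_commute h
  haveI : (B.subgroupOf (A ⊔ B)).Normal :=
    (normal_subgroupOf_iff_le_normalizer le_sup_right).2 (sup_le hA le_normalizer)
  have := mem_sup_of_normal_right (s := A.subgroupOf (A ⊔ B)) (t := B.subgroupOf (A ⊔ B)) (x := ⟨x, hx⟩)
  rw [← subgroupOf_sup le_sup_left le_sup_right, subgroupOf_self] at this
  obtain ⟨a, ha, b, hb, he⟩ := this.1 (mem_top _)
  exact ⟨a, ha, b, hb, congrArg Subtype.val he⟩

/-- A `p`-component of the centralizer of `R` inside a commuting product of `R`-invariant subgroups lies in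
one of them. -/
theorem split {A B R K : Subgroup G} (hAB : ⁅A, B⁆ = ⊥)
    (hRA : R ≤ normalizer (A : Set G)) (hRB : R ≤ normalizer (B : Set G))
    (hK : PCIn p K (centralizer (R : Set G) ⊓ (normalizer (A : Set G) ⊓ normalizer (B : Set G))))
    (hle : K ≤ A ⊔ B) : K ≤ A ∨ K ≤ B := by
  classical
  set C := centralizer (R : Set G) ⊓ (normalizer (A : Set G) ⊓ normalizer (B : Set G)) with hC
  have hcomm : ∀ a ∈ A, ∀ b ∈ B, a * b = b * a := fun a ha b hb =>
    ((mem_centralizer_iff.1 (commutator_eq_bot_iff_le_centralizer.1 hAB ha)) b hb).symm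
  -- the commutator of two elements of `K` is that of their parts in `A` times that of their parts in `B`
  have hKD : K ≤ (A ⊓ C) ⊔ B := by
    conv_lhs => rw [← hK.perfect]
    rw [commutator_le]
    intro k hk l hl
    obtain ⟨a, ha, b, hb, rfl⟩ := mem_sup_of_commute hAB (hle hk)
    obtain ⟨c, hc, d, hd, rfl⟩ := mem_sup_of_commute hAB (hle hl)
    have hsplit : ⁅a * b, c * d⁆ = ⁅a, c⁆ * ⁅b, d⁆ := by
      have hcomA : ∀ a ∈ A, ∀ b ∈ B, Commute a b := hcomm
      rw [commutatorElement_def, commutatorElement_def, commutatorElement_def, mul_inv_rev, mul_inv_rev]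
      have e1 : b * c = c * b := (hcomA c hc b hb).eq.symm
      have e2 : d * (b⁻¹ * a⁻¹) = a⁻¹ * (d * b⁻¹) := by
        rw [← mul_assoc, ← (hcomA a⁻¹ (inv_mem ha) (d * b⁻¹) (mul_mem hd (inv_mem hb))).eq]
      have e3 : (b * (d * b⁻¹)) * (d⁻¹ * c⁻¹) = c⁻¹ * (b * d * b⁻¹ * d⁻¹) := by
        rw [(hcomA c⁻¹ (inv_mem hc) _
          (mul_mem (mul_mem (mul_mem hb hd) (inv_mem hb)) (inv_mem hd))).eq]
        group
      calc a * b * (c * d) * (b⁻¹ * a⁻¹) * (d⁻¹ * c⁻¹)
          = a * (b * c) * (d * (b⁻¹ * a⁻¹)) * (d⁻¹ * c⁻¹) := by group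
        _ = a * c * (b * a⁻¹) * (d * b⁻¹) * (d⁻¹ * c⁻¹) := by rw [e1, e2]; group
        _ = a * c * a⁻¹ * ((b * (d * b⁻¹)) * (d⁻¹ * c⁻¹)) := by
            rw [← (hcomA a⁻¹ (inv_mem ha) b hb).eq]; group
        _ = _ := by rw [e3]; group
    rw [hsplit]
    refine mul_mem (mem_sup_left (mem_inf.2 ⟨?_, mem_inf.2 ⟨?_, mem_inf.2 ⟨?_, ?_⟩⟩⟩)) (mem_sup_right ?_)
    · exact mul_mem (mul_mem (mul_mem ha hc) (inv_mem ha)) (inv_mem hc)
    · rw [mem_centralizer_iff]
      intro r hr
      have key : ∀ a ∈ A, ∀ b ∈ B, a * b ∈ K →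
          ∃ z, z ∈ A ∧ z ∈ B ∧ r * a * r⁻¹ = a * z := by
        intro a ha b hb hab
        have h1 : r * (a * b) * r⁻¹ = a * b := by
          rw [mem_centralizer_iff.1 (hK.le hab).1 r hr]; group
        have e : a⁻¹ * (r * a * r⁻¹) = b * (r * b * r⁻¹)⁻¹ := by
          calc a⁻¹ * (r * a * r⁻¹) = a⁻¹ * (r * (a * b) * r⁻¹) * (r * b * r⁻¹)⁻¹ := by group
            _ = _ := by rw [h1]; group
        refine ⟨_, mul_mem (inv_mem ha) ((mem_normalizer_iff.1 (hRA hr) a).1 ha), ?_,
          (mul_inv_cancel_left _ _).symm⟩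
        rw [e]
        exact mul_mem hb (inv_mem ((mem_normalizer_iff.1 (hRB hr) b).1 hb))
      obtain ⟨z, hzA, hzB, hz⟩ := key a ha b hb hk
      obtain ⟨w, hwA, hwB, hw⟩ := key c hc d hd hl
      have hfix : r * ⁅a, c⁆ * r⁻¹ = ⁅a, c⁆ := by
        have : r * ⁅a, c⁆ * r⁻¹ = ⁅r * a * r⁻¹, r * c * r⁻¹⁆ := by
          simp only [commutatorElement_def]; group
        rw [this, hz, hw]
        simp only [commutatorElement_def, mul_inv_rev]
        calc a * z * (c * w) * (z⁻¹ * a⁻¹) * (w⁻¹ * c⁻¹)
            = a * (z * (c * w)) * (z⁻¹ * a⁻¹) * (w⁻¹ * c⁻¹) := by group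
          _ = a * c * w * a⁻¹ * (w⁻¹ * c⁻¹) := by
              rw [← hcomm (c * w) (mul_mem hc hwA) z hzB]; group
          _ = a * c * (a⁻¹ * w) * (w⁻¹ * c⁻¹) := by
              rw [hcomm a⁻¹ (inv_mem ha) w hwB]; group
          _ = _ := by group
      rw [← mul_inv_eq_iff_eq_mul]
      exact hfix
    · exact le_normalizer (mul_mem (mul_mem (mul_mem ha hc) (inv_mem ha)) (inv_mem hc))
    · exact normalizes_of_commute hAB (mul_mem (mul_mem (mul_mem ha hc) (inv_mem ha)) (inv_mem hc))
    · exact mul_mem (mul_mem (mul_mem hb hd) (inv_mem hb)) (inv_mem hd)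
  have hn : ((A ⊓ C).subgroupOf C).Normal := (normal_subgroupOf_iff_le_normalizer inf_le_right).2
    (le_trans (le_inf (inf_le_right.trans inf_le_left) le_normalizer) inf_normalizer_le_normalizer_inf)
  rcases le_or_comm hK.toComp hn with h | h
  · exact Or.inl fun k hk => (h (show (⟨k, hK.le hk⟩ : C) ∈ K.subgroupOf C from hk)).1
  · right
    have h' : ⁅K, A ⊓ C⁆ ≤ (pPrimeCore p ↥C).map C.subtype := by
      have := map_mono (f := C.subtype) h
      rwa [map_commutator, map_subgroupOf_eq_of_le hK.le, map_subgroupOf_eq_of_le inf_le_right] at this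
    -- everything takes place in the normalizer of `B`
    set N := normalizer (B : Set G)
    haveI : (B.subgroupOf N).Normal := normal_in_normalizer
    let f := QuotientGroup.mk' (B.subgroupOf N)
    have hKN : K ≤ N := hK.le.trans (inf_le_right.trans inf_le_right)
    have hDN : A ⊓ C ≤ N := inf_le_right.trans (inf_le_right.trans inf_le_right)
    have hCN : C ≤ N := inf_le_right.trans inf_le_right
    have hKim : (K.subgroupOf N).map f ≤ ((A ⊓ C).subgroupOf N).map f := by
      rw [map_le_iff_le_comap, comap_map_eq, QuotientGroup.ker_mk', ← subgroupOf_sup hDN le_normalizer]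
      exact fun x hx => hKD hx
    have hOim : ⁅(K.subgroupOf N).map f, (K.subgroupOf N).map f⁆ ≤
        (((pPrimeCore p ↥C).map C.subtype).subgroupOf N).map f := by
      refine (commutator_mono le_rfl hKim).trans ?_
      rw [← map_commutator]
      refine map_mono ?_
      rw [← map_le_map_iff_of_injective N.subtype_injective, map_commutator, map_subgroupOf_eq_of_le hKN,
        map_subgroupOf_eq_of_le hDN, map_subgroupOf_eq_of_le ((map_subtype_le _).trans hCN)]
      exact h'
    have hKK : ⁅K.subgroupOf N, K.subgroupOf N⁆ = K.subgroupOf N := by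
      apply map_injective N.subtype_injective
      rw [map_commutator, map_subgroupOf_eq_of_le hKN, hK.perfect]
    rw [← map_commutator, hKK] at hOim
    have hcop : (Nat.card ((((pPrimeCore p ↥C).map C.subtype).subgroupOf N).map f)).Coprime p := by
      refine (FittingCores.pPrimeCore_coprime (G := ↥C) p).coprime_dvd_left ((card_map_dvd _ _).trans ?_)
      rw [Nat.card_congr (subgroupOfEquivOfLe ((map_subtype_le _).trans hCN)).toEquiv,
        card_map_of_injective C.subtype_injective]
    refine hK.gen.trans ((closure_le _).2 ?_)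
    rintro x ⟨hx, k, hk⟩
    have h1 : f ⟨x, hKN hx⟩ ^ p ^ k = 1 := by
      rw [← map_pow, show (⟨x, hKN hx⟩ : N) ^ p ^ k = 1 from Subtype.ext hk, map_one]
    have h2 : f ⟨x, hKN hx⟩ = 1 := by
      rw [← orderOf_eq_one_iff]
      exact Nat.eq_one_of_dvd_coprimes
        ((Cfsg.Agent.PBasic.coprime_orderOf_of_mem hcop
          (hOim (mem_map_of_mem f (show (⟨x, hKN hx⟩ : N) ∈ K.subgroupOf N from hx)))).pow_right k)
        dvd_rfl (orderOf_dvd_of_pow_eq_one h1)
    exact (QuotientGroup.eq_one_iff (⟨x, hKN hx⟩ : N)).1 h2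

end Cfsg.Agent.BpBalance
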