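import Cfsg.Agent.Lib.Components.FStar
import Cfsg.Agent.Lib.Techniques.CharP
import Cfsg.Agent.Lib.Solvable.Fitting

/-! Bender's maximal subgroup theorem: two maximal subgroups each containing the generalized Fitting
subgroup of the other. -/

set_option autoImplicit false
set_option linter.style.haveILetI false

namespace Cfsg.Agent.BenderMax

open Subgroup
open scoped Pointwise commutatorElement

theorem commute_elems {G : Type*} [Group G] {H K : Subgroup G} (h : ⁅H, K⁆ = ⊥) {x y : G} (hx : x ∈ H)
    (hy : y ∈ K) : Commute x y :=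
  ((mem_centralizer_iff.1 (commutator_eq_bot_iff_le_centralizer.1 h hx)) y hy).symm

/-- If the `q`-group `H` and the `r`-group `J` act trivially on the coprime parts of `F(X)`, and the
centraliser of `H` normalises `J`, then `J ≤ O_r(X)`. -/
theorem core {X : Type*} [Group X] [Finite X]
    (hC : centralizer (fittingSubgroup X : Set X) ≤ fittingSubgroup X)
    {q r : ℕ} [hq : Fact q.Prime] [hr : Fact r.Prime] (hqr : r ≠ q) {H J : Subgroup X}
    (hH : IsPGroup q H) (hJ : IsPGroup r J)
    (hHc : ∀ s : Nat.Primes, (s : ℕ) ≠ q → ⁅H, pCore (s : ℕ) X⁆ = ⊥)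
    (hJc : ⁅J, pCore q X⁆ = ⊥) (hN : centralizer (H : Set X) ≤ normalizer (J : Set X)) :
    J ≤ pCore r X := by
  classical
  set Hn := pCore q X with hHn
  haveI : Hn.Normal := FittingCores.pCore_normal q
  let Jn : Subgroup X := ⨆ s : {s : Nat.Primes // (s : ℕ) ≠ q}, pCore (s.1 : ℕ) X
  haveI : ∀ s : ℕ, (pCore s X).Normal := fun s => FittingCores.pCore_normal s
  haveI : Jn.Normal := Subgroup.normalizer_eq_top_iff.1 (top_le_iff.1
    ((le_iInf fun s => le_normalizer_of_normal).trans (iInf_normalizer_le_normalizer_iSup _)))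
  haveI : (centralizer (Hn : Set X)).Normal := inferInstance
  have hJnq : (Nat.card Jn).Coprime q := by
    have hle : Jn ≤ pPrimeCore q X := iSup_le fun s =>
      FittingCores.pCore_le_pPrimeCore hq.out s.1.2 s.2
    exact (FittingCores.pPrimeCore_coprime q).coprime_dvd_left (card_dvd_of_le hle)
  have hdisj : Disjoint Hn Jn := by
    rw [disjoint_iff]
    obtain ⟨n, hn⟩ := (FittingCores.pCore_isPGroup q : IsPGroup q Hn).exists_card_eq
    exact inf_eq_bot_of_coprime (by rw [hn]; exact hJnq.symm.pow_left n)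
  have hF : fittingSubgroup X ≤ Hn ⊔ Jn := by
    rw [FittingCores.fitting_eq_iSup_pCore]
    refine iSup_le fun s => ?_
    by_cases hs : (s : ℕ) = q
    · rw [hs]; exact le_sup_left
    · exact le_sup_of_le_right (le_iSup (fun t : {t : Nat.Primes // (t : ℕ) ≠ q} => pCore (t.1 : ℕ) X) ⟨s, hs⟩)
  have hHJn : ⁅H, Jn⁆ = ⊥ := by
    rw [commutator_comm, commutator_eq_bot_iff_le_centralizer]
    exact iSup_le fun s => commutator_eq_bot_iff_le_centralizer.1 (by rw [commutator_comm]; exact hHc s.1 s.2)
  let S : Set X := {v | v ∈ centralizer (Hn : Set X) ∧ ¬ q ∣ orderOf v}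
  have hcomm : ∀ v ∈ S, ∀ h ∈ H, v * h * v⁻¹ = h := by
    rintro v ⟨hv, hvq⟩ h hh
    set c := h⁻¹ * (v * h * v⁻¹) with hc
    have hcV : c ∈ centralizer (Hn : Set X) := by
      rw [hc, show h⁻¹ * (v * h * v⁻¹) = (h⁻¹ * v * h) * v⁻¹ by group]
      refine mul_mem ?_ (Subgroup.inv_mem _ hv)
      have := Normal.conj_mem (inferInstance : (centralizer (Hn : Set X)).Normal) v hv h⁻¹
      simpa using this
    have hcs : ∀ s : Nat.Primes, ∀ f ∈ pCore (s : ℕ) X, Commute c f := by
      intro s f hf
      by_cases hs : (s : ℕ) = q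
      · exact (mem_centralizer_iff.1 hcV f (hs ▸ hf :)).symm
      · have h1 : Commute h f := commute_elems (hHc s hs) hh hf
        have h2 : Commute (v * h * v⁻¹) f := by
          have h3 : Commute h (v⁻¹ * f * v⁻¹⁻¹) :=
            commute_elems (hHc s hs) hh (Normal.conj_mem inferInstance f hf v⁻¹)
          have h4 : Commute (v * h * v⁻¹) (v * (v⁻¹ * f * v⁻¹⁻¹) * v⁻¹) := h3.map (MulAut.conj v).toMonoidHom
          have e : v * (v⁻¹ * f * v⁻¹⁻¹) * v⁻¹ = f := by group
          rwa [e] at h4
        exact h1.inv_left.mul_left h2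
    have hcF : c ∈ fittingSubgroup X := by
      refine hC ?_
      have hle : fittingSubgroup X ≤ centralizer ({c} : Set X) := by
        rw [FittingCores.fitting_eq_iSup_pCore]
        exact iSup_le fun s f hf => mem_centralizer_singleton_iff.2 (hcs s f hf).eq.symm
      exact mem_centralizer_iff.2 fun f hf => mem_centralizer_singleton_iff.1 (hle hf)
    have hcm : c ∈ ((Hn ⊔ Jn : Subgroup X) : Set X) := hF hcF
    rw [Subgroup.normal_mul] at hcm
    obtain ⟨a, ha, b, hb, hab⟩ := hcm
    simp only at hab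
    have hba : Commute a b := commute_of_normal_of_disjoint Hn Jn inferInstance inferInstance hdisj a b ha hb
    have hbh : Commute h b := commute_elems hHJn hh hb
    have hP : IsPGroup q ↥(H ⊔ Hn) := hH.to_sup_of_normal_right (FittingCores.pCore_isPGroup q)
    obtain ⟨k₁, hk₁⟩ := hP ⟨h * a, mul_mem (mem_sup_left hh) (mem_sup_right ha)⟩
    obtain ⟨k₂, hk₂⟩ := hH ⟨h, hh⟩
    have e1 : (h * a) ^ q ^ k₁ = 1 := congrArg Subtype.val hk₁
    have e2 : h ^ q ^ k₂ = 1 := congrArg Subtype.val hk₂
    have e3 : (h * a * b) ^ q ^ k₂ = 1 := by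
      rw [mul_assoc, hab, hc, mul_inv_cancel_left, conj_pow, e2, mul_one, mul_inv_cancel]
    have hb1 : b = 1 := by
      have hcb : Commute (h * a) b := hbh.mul_left hba
      have e4 : b ^ q ^ (k₁ + k₂) = 1 := by
        have e5 : (h * a * b) ^ q ^ (k₁ + k₂) = 1 := by
          rw [pow_add, mul_comm, pow_mul, e3, one_pow]
        rwa [hcb.mul_pow, pow_add, pow_mul (h * a), e1, one_pow, one_mul, ← pow_add] at e5
      rw [← orderOf_eq_one_iff]
      exact Nat.eq_one_of_dvd_coprimes (hJnq.symm.pow_left _) (orderOf_dvd_of_pow_eq_one e4)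
        (Subgroup.orderOf_dvd_natCard Jn hb)
    rw [hb1, mul_one] at hab
    subst hab
    have hfix : v * c * v⁻¹ = c := by
      rw [← mem_centralizer_iff.1 hv c ha, mul_inv_cancel_right]
    have hn := CharP.conj_pow_eq_mul_pow (x := v) (y := h) (c := c) (by rw [hc]; group) hfix (orderOf v)
    rw [pow_orderOf_eq_one, one_mul, inv_one, mul_one, left_eq_mul] at hn
    have hc1 : c = 1 := by
      obtain ⟨k, hk⟩ := (FittingCores.pCore_isPGroup q : IsPGroup q Hn).exists_card_eq
      rw [← orderOf_eq_one_iff]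
      exact Nat.eq_one_of_dvd_coprimes ((hq.out.coprime_iff_not_dvd.2 hvq).pow_left k)
        (hk ▸ Subgroup.orderOf_dvd_natCard Hn ha) (orderOf_dvd_of_pow_eq_one hn)
    rw [hc, inv_mul_eq_one] at hc1
    exact hc1.symm
  set Y := closure S with hY
  have hYH : Y ≤ centralizer (H : Set X) := by
    refine (closure_le _).2 fun v hv => mem_centralizer_iff.2 fun h hh => ?_
    rw [← mul_inv_eq_iff_eq_mul.1 (hcomm v hv h hh)]
  haveI hYn : Y.Normal := by
    refine Subgroup.normalizer_eq_top_iff.1 ?_
    rw [eq_top_iff]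
    intro g _
    refine mem_normalizer_iff_map_conj_eq.2 ?_
    rw [hY, MonoidHom.map_closure]
    congr 1
    ext v
    constructor
    · rintro ⟨w, ⟨hw, hwq⟩, rfl⟩
      refine ⟨Normal.conj_mem inferInstance w hw g, ?_⟩
      show ¬ q ∣ orderOf (MulAut.conj g w)
      rwa [MulEquiv.orderOf_eq]
    · rintro ⟨hw, hwq⟩
      refine ⟨g⁻¹ * v * g⁻¹⁻¹, ⟨Normal.conj_mem inferInstance v hw g⁻¹, ?_⟩, by simp [mul_assoc]⟩
      rwa [show g⁻¹ * v * g⁻¹⁻¹ = MulAut.conj g⁻¹ v from rfl, MulEquiv.orderOf_eq]
  have hJY : J ≤ Y := by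
    intro j hj
    refine subset_closure ⟨commutator_eq_bot_iff_le_centralizer.1 hJc hj, ?_⟩
    obtain ⟨k, hk⟩ := hJ.exists_card_eq
    intro hd
    have h1 := (hd.trans (Subgroup.orderOf_dvd_natCard J hj))
    rw [hk] at h1
    exact hqr ((Nat.prime_dvd_prime_iff_eq hq.out hr.out).1 (hq.out.dvd_of_dvd_pow h1)).symm
  exact FittingCores.le_pCore_of_isSubnormal (IsSubnormal.step _ _ hJY hYn.isSubnormal
    ((normal_subgroupOf_iff_le_normalizer hJY).2 (hYH.trans hN))) hJ

variable {G : Type*} [Group G] [Finite G]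

omit [Finite G] in
theorem map_component {M D : Subgroup G} {K : Subgroup M} (hK : IsComponent K) (hKD : K.map M.subtype ≤ D)
    (hDM : D ≤ M) : IsComponent ((K.map M.subtype).subgroupOf D) := by
  let e : ↥(D.subgroupOf M) ≃* ↥D := subgroupOfEquivOfLe hDM
  have hle : K ≤ D.subgroupOf M := fun x hx => hKD ⟨x, hx, rfl⟩
  have h := Components.component_map_equiv e (Components.component_subgroupOf hK hle)
  have heq : (K.subgroupOf (D.subgroupOf M)).map e.toMonoidHom = (K.map M.subtype).subgroupOf D := by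
    ext x
    constructor
    · rintro ⟨y, hy, rfl⟩
      exact ⟨(y : M), hy, rfl⟩
    · rintro ⟨y, hy, hyx⟩
      exact ⟨⟨y, hle hy⟩, hy, Subtype.ext hyx⟩
  rwa [heq] at h

/-- Every component of `N` is a component of `M`. -/
theorem component_eq {M N : Subgroup G}
    (h1 : (generalizedFittingSubgroup ↥M).map M.subtype ≤ N)
    (h2 : (generalizedFittingSubgroup ↥N).map N.subtype ≤ M) {L : Subgroup N} (hL : IsComponent L) :
    ∃ K : Subgroup M, IsComponent K ∧ K.map M.subtype = L.map N.subtype := by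
  by_contra hno
  set D := M ⊓ N with hD
  have hL' : L.map N.subtype ≤ D := le_inf
    ((map_mono ((Components.component_le_layer hL).trans le_sup_left)).trans h2) (map_subtype_le _)
  have hLD := map_component hL hL' inf_le_right
  set L₁ := (L.map N.subtype).subgroupOf D
  have hcomm : ∀ T : Subgroup G, T ≤ D → ⁅L₁, T.subgroupOf D⁆ = ⊥ → L.map N.subtype ≤ centralizer (T : Set G) := by
    intro T hT h x hx
    refine mem_centralizer_iff.2 fun y hy => ?_
    have := commute_elems h (x := (⟨x, hL' hx⟩ : D)) (y := ⟨y, hT hy⟩) hx hy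
    exact (congrArg Subtype.val this.eq).symm
  have hlay : L.map N.subtype ≤ centralizer (((layer M).map M.subtype : Subgroup G) : Set G) := by
    rw [le_centralizer_iff, map_le_iff_le_comap]
    refine Components.layer_le_iff.2 fun K hK => ?_
    rw [← map_le_iff_le_comap, ← le_centralizer_iff]
    have hK' : K.map M.subtype ≤ D := le_inf (map_subtype_le _)
      ((map_mono ((Components.component_le_layer hK).trans le_sup_left)).trans h1)
    refine hcomm _ hK' (Components.components_commute hLD (map_component hK hK' inf_le_left) fun h => hno ⟨K, hK, ?_⟩)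
    have := congrArg (Subgroup.map D.subtype) h
    rw [subgroupOf_map_subtype, subgroupOf_map_subtype, inf_eq_left.2 hL', inf_eq_left.2 hK'] at this
    exact this.symm
  have hfit : L.map N.subtype ≤ centralizer (((fittingSubgroup M).map M.subtype : Subgroup G) : Set G) := by
    have hFD : (fittingSubgroup M).map M.subtype ≤ D := le_inf (map_subtype_le _)
      ((map_mono le_sup_right).trans h1)
    refine hcomm _ hFD (Components.component_commute_solvable hLD ?_ ?_)
    · haveI : Group.IsSolvable ↥(fittingSubgroup M) := Components.fitting_solvable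
      have hs : Group.IsSolvable ↥((fittingSubgroup M).map M.subtype) :=
        Group.isSolvable_of_surjective (f := (M.subtype.subgroupMap (fittingSubgroup M)))
          (MonoidHom.subgroupMap_surjective _ _)
      exact Group.isSolvable_of_isSolvable_injective (f := (subgroupOfEquivOfLe hFD).toMonoidHom)
        (subgroupOfEquivOfLe hFD).injective
    · haveI : (fittingSubgroup ↥M).Normal := FittingCores.fitting_normal
      intro x _
      refine mem_normalizer_fintype fun y hy => ?_
      obtain ⟨y', hy', hyy⟩ := (hy : (y : G) ∈ (fittingSubgroup M).map M.subtype)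
      refine ⟨⟨(x : G), x.2.1⟩ * y' * ⟨(x : G), x.2.1⟩⁻¹, Normal.conj_mem inferInstance y' hy' _, ?_⟩
      show (x : G) * (y' : G) * (x : G)⁻¹ = _
      rw [show (y' : G) = (y : G) from hyy]
      rfl
  have hLM : L.map N.subtype ≤ M := hL'.trans inf_le_left
  have hLF : (L.map N.subtype).subgroupOf M ≤ centralizer (generalizedFittingSubgroup ↥M : Set ↥M) := by
    rw [le_centralizer_iff]
    refine sup_le (fun y hy => ?_) (fun y hy => ?_) <;> refine mem_centralizer_iff.2 fun x hx => Subtype.ext ?_
    · exact (mem_centralizer_iff.1 (hlay hx) y ⟨y, hy, rfl⟩).symm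
    · exact (mem_centralizer_iff.1 (hfit hx) y ⟨y, hy, rfl⟩).symm
  have hcom : IsMulCommutative ↥L := by
    refine ⟨⟨fun a b => Subtype.ext (Subtype.ext ?_)⟩⟩
    have ha : (⟨((a : N) : G), hLM ⟨a, a.2, rfl⟩⟩ : M) ∈ (L.map N.subtype).subgroupOf M := ⟨a, a.2, rfl⟩
    have hb : (⟨((b : N) : G), hLM ⟨b, b.2, rfl⟩⟩ : M) ∈ (L.map N.subtype).subgroupOf M := ⟨b, b.2, rfl⟩
    exact (congrArg Subtype.val (mem_centralizer_iff.1 (hLF hb) _
      (Components.centralizer_generalizedFitting_le (hLF ha))) :)
  exact Components.quasisimple_not_commutative hL.2 hcom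

theorem normalizer_eq [IsSimpleGroup G] {M X : Subgroup G} (hM : IsCoatom M) (hX : X ≤ M) (hne : X ≠ ⊥)
    (hn : M ≤ normalizer (X : Set G)) : normalizer (X : Set G) = M := by
  rcases hM.le_iff.1 hn with h | h
  · exfalso
    rcases (Subgroup.normalizer_eq_top_iff.1 h).eq_bot_or_eq_top with h' | h'
    · exact hne h'
    · exact hM.1 (top_le_iff.1 (h' ▸ hX))
  · exact h

theorem le_normalizer_map {M : Subgroup G} (T : Subgroup M) [T.Normal] :
    M ≤ normalizer ((T.map M.subtype : Subgroup G) : Set G) := by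
  intro x hx
  refine mem_normalizer_fintype ?_
  rintro _ ⟨y, hy, rfl⟩
  exact ⟨⟨x, hx⟩ * y * ⟨x, hx⟩⁻¹, Normal.conj_mem inferInstance y hy _, rfl⟩

/-- With two primes in `F(M)`, each `O_r(M)` lies in `O_r(N)`. -/
theorem pCore_le [IsSimpleGroup G] {M N : Subgroup G} (hM : IsCoatom M)
    (hNC : centralizer (fittingSubgroup ↥N : Set ↥N) ≤ fittingSubgroup ↥N)
    (h1 : (fittingSubgroup ↥M).map M.subtype ≤ N) (h2 : (fittingSubgroup ↥N).map N.subtype ≤ M)
    {q r : ℕ} [hq : Fact q.Prime] [hr : Fact r.Prime] (hqr : r ≠ q) (hne : pCore q ↥M ≠ ⊥) :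
    (pCore r ↥M).map M.subtype ≤ (pCore r ↥N).map N.subtype := by
  haveI : ∀ s, (pCore s ↥M).Normal := fun s => FittingCores.pCore_normal s
  haveI : ∀ s, (pCore s ↥N).Normal := fun s => FittingCores.pCore_normal s
  set H := (pCore q ↥M).map M.subtype with hHdef
  set J := (pCore r ↥M).map M.subtype with hJdef
  have hHN : H ≤ N := (map_mono (FittingCores.pCore_le_fitting hq.out)).trans h1
  have hJN : J ≤ N := (map_mono (FittingCores.pCore_le_fitting hr.out)).trans h1
  have hHp : IsPGroup q H := (FittingCores.pCore_isPGroup q).map _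
  have hJp : IsPGroup r J := (FittingCores.pCore_isPGroup r).map _
  have hcomm : ∀ {u : ℕ} [Fact u.Prime] {T : Subgroup G}, IsPGroup u T → M ≤ normalizer (T : Set G) → T ≤ N →
      ∀ s : ℕ, s.Prime → s ≠ u → ⁅T.subgroupOf N, pCore s ↥N⁆ = ⊥ := by
    intro u _ T hT hMT hTN s hs hsu
    haveI := Fact.mk hs
    have h3 : pCore s ↥N ≤ normalizer (T.subgroupOf N : Set ↥N) := by
      intro x hx
      refine mem_normalizer_fintype fun y hy => ?_
      exact (mem_normalizer_iff.1 (hMT (h2 ⟨x, FittingCores.pCore_le_fitting hs hx, rfl⟩)) (y : G)).1 hy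
    rw [eq_bot_iff]
    refine (Components.commutator_le_inf_of_normalizer h3 le_normalizer_of_normal).trans (le_of_eq ?_)
    exact disjoint_iff.1 (IsPGroup.disjoint_of_ne u s (Ne.symm hsu) _ _
      (hT.comap_of_injective _ N.subtype_injective) (FittingCores.pCore_isPGroup s))
  have hnorm : normalizer (H : Set G) = M := normalizer_eq hM (map_subtype_le _)
    (fun h => hne ((map_eq_bot_iff_of_injective _ M.subtype_injective).1 h)) (le_normalizer_map _)
  have hJMn : M ≤ normalizer (J : Set G) := le_normalizer_map _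
  have hres := core hNC hqr (H := H.subgroupOf N) (J := J.subgroupOf N)
    (hHp.comap_of_injective _ N.subtype_injective) (hJp.comap_of_injective _ N.subtype_injective)
    (fun s hs => hcomm hHp (le_normalizer_map _) hHN s s.2 hs)
    (hcomm hJp (le_normalizer_map _) hJN q hq.out (Ne.symm hqr))
    (fun x hx => by
      have hxM : (x : G) ∈ M := by
        rw [← hnorm]
        refine centralizer_le_normalizer _ (mem_centralizer_iff.2 fun y hy => ?_)
        exact congrArg Subtype.val (mem_centralizer_iff.1 hx ⟨y, hHN hy⟩ hy)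
      exact mem_normalizer_fintype fun y hy => (mem_normalizer_iff.1 (hJMn hxM) (y : G)).1 hy)
  intro x hx
  exact ⟨⟨x, hJN hx⟩, hres hx, rfl⟩

end Cfsg.Agent.BenderMax
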