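import Cfsg.Agent.Lib.Components.BenderMaximal
import Cfsg.Agent.Lib.Components.Local
import Cfsg.Agent.Lib.Components.Balance
import Cfsg.Prelude.Def_EvenTechniques

/-! Bender's uniqueness theorem for two maximal subgroups one of which leads to the other. -/

set_option autoImplicit false
set_option linter.style.haveILetI false
set_option linter.unusedSectionVars false

namespace Cfsg.Agent.BenderUnique

open Subgroup Cfsg.Agent.Components
open scoped Pointwise commutatorElement

variable {G : Type*} [Group G] [Finite G]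

/-- `O_q(M)` as a subgroup of `G`. -/
abbrev coreIn (q : ℕ) (M : Subgroup G) : Subgroup G := (pCore q ↥M).map M.subtype
/-- `F(M)` as a subgroup of `G`. -/
abbrev fitIn (M : Subgroup G) : Subgroup G := (fittingSubgroup ↥M).map M.subtype
/-- `E(M)` as a subgroup of `G`. -/
abbrev layIn (M : Subgroup G) : Subgroup G := (layer ↥M).map M.subtype

theorem coreIn_le_fit {q : ℕ} (hq : q.Prime) (M : Subgroup G) : coreIn q M ≤ fitIn M :=
  map_mono (FittingCores.pCore_le_fitting hq)

theorem coreIn_pGroup (q : ℕ) [Fact q.Prime] (M : Subgroup G) : IsPGroup q ↥(coreIn q M) :=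
  (FittingCores.pCore_isPGroup q).map _

theorem normalizes_coreIn (q : ℕ) (M : Subgroup G) : M ≤ normalizer (coreIn q M : Set G) := by
  haveI := FittingCores.pCore_normal (G := ↥M) q
  exact BenderMax.le_normalizer_map _

theorem coreIn_commute {q s : ℕ} [Fact q.Prime] [Fact s.Prime] (h : q ≠ s) (M : Subgroup G) :
    ⁅coreIn q M, coreIn s M⁆ = ⊥ := by
  rw [eq_bot_iff]
  refine (commutator_le_inf_of_normalizer ((map_subtype_le _).trans (normalizes_coreIn q M))
    ((map_subtype_le _).trans (normalizes_coreIn s M))).trans (le_of_eq ?_)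
  exact disjoint_iff.1 (IsPGroup.disjoint_of_ne q s h _ _ (coreIn_pGroup q M) (coreIn_pGroup s M))

theorem pSub_le_coreIn {q : ℕ} [Fact q.Prime] {M H : Subgroup G} (hH : IsPGroup q H) (h : H ≤ fitIn M) :
    H ≤ coreIn q M := by
  haveI := FittingCores.fitting_nilpotent (G := ↥M)
  have h1 : H.subgroupOf M ≤ fittingSubgroup ↥M := fun x hx => by
    obtain ⟨y, hy, he⟩ := h hx
    rwa [Subtype.ext he] at hy
  have h2 : IsPGroup q ((H.subgroupOf M).subgroupOf (fittingSubgroup ↥M)) :=
    (hH.comap_of_injective _ M.subtype_injective).comap_of_injective _ (fittingSubgroup ↥M).subtype_injective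
  obtain ⟨P, hP⟩ := h2.exists_le_sylow
  intro x hx
  have hxM : x ∈ M := map_subtype_le _ (h hx)
  refine ⟨⟨x, hxM⟩, FittingCores.sylow_le_pCore_of_nilpotent FittingCores.fitting_normal q P
    ⟨⟨⟨x, hxM⟩, h1 (show (⟨x, hxM⟩ : M) ∈ H.subgroupOf M from hx)⟩, hP hx, rfl⟩, rfl⟩

theorem coreIn_ne_bot_iff {q : ℕ} [Fact q.Prime] (M : Subgroup G) :
    coreIn q M ≠ ⊥ ↔ q ∣ Nat.card ↥(fittingSubgroup ↥M) := by
  constructor
  · intro h
    obtain ⟨k, hk⟩ := (coreIn_pGroup q M).exists_card_eq
    have hk0 : k ≠ 0 := by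
      rintro rfl
      exact h (card_eq_one.1 (by rw [hk, pow_zero]))
    refine (dvd_pow_self q hk0).trans ((hk.symm.dvd.trans (card_dvd_of_le (coreIn_le_fit Fact.out M))).trans ?_)
    rw [card_map_of_injective M.subtype_injective]
  · intro h he
    rw [← card_map_of_injective (K := fittingSubgroup ↥M) M.subtype_injective] at h
    obtain ⟨x, hx⟩ := exists_prime_orderOf_dvd_card' (G := fitIn M) q h
    have hxo : orderOf (x : G) = q := by rw [orderOf_coe, hx]
    have := pSub_le_coreIn (M := M) (IsPGroup.of_card (n := 1) (by rw [Nat.card_zpowers, hxo, pow_one]))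
      (zpowers_le.2 x.2) (mem_zpowers (x : G))
    rw [he, mem_bot] at this
    rw [this, orderOf_one] at hxo
    exact (Fact.out : q.Prime).one_lt.ne hxo

theorem fitIn_le_iff {M X : Subgroup G} : fitIn M ≤ X ↔ ∀ s : ℕ, s.Prime → coreIn s M ≤ X := by
  refine ⟨fun h s hs => (coreIn_le_fit hs M).trans h, fun h => ?_⟩
  rw [fitIn, FittingCores.fitting_eq_iSup_pCore, Subgroup.map_iSup]
  exact iSup_le fun s => h s s.2

/-- The centre of `O_q(M)`. -/
abbrev zCore (q : ℕ) (M : Subgroup G) : Subgroup G := coreIn q M ⊓ centralizer (coreIn q M : Set G)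

theorem zCore_centralizes {q : ℕ} [Fact q.Prime] (M : Subgroup G) :
    zCore q M ≤ centralizer (fitIn M : Set G) := by
  rw [le_centralizer_iff, fitIn_le_iff]
  intro s hs
  rw [← le_centralizer_iff]
  haveI := Fact.mk hs
  rcases eq_or_ne q s with rfl | hne
  · exact inf_le_right
  · exact inf_le_left.trans (commutator_eq_bot_iff_le_centralizer.1 (coreIn_commute hne M))

theorem zCore_normalized (q : ℕ) (M : Subgroup G) : M ≤ normalizer (zCore q M : Set G) :=
  (le_inf (normalizes_coreIn q M) ((normalizes_coreIn q M).trans (normalizer_le_normalizer_centralizer _))).trans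
    inf_normalizer_le_normalizer_inf

theorem zCore_ne_bot {q : ℕ} [Fact q.Prime] {M : Subgroup G} (h : coreIn q M ≠ ⊥) : zCore q M ≠ ⊥ := by
  haveI : Nontrivial ↥(coreIn q M) := (nontrivial_iff_ne_bot _).2 h
  haveI := (coreIn_pGroup q M).center_nontrivial
  obtain ⟨z, hz⟩ := exists_ne (1 : center ↥(coreIn q M))
  intro hb
  have : ((z : ↥(coreIn q M)) : G) ∈ zCore q M :=
    mem_inf.2 ⟨(z : ↥(coreIn q M)).2, mem_centralizer_iff.2 fun y hy =>
      congrArg Subtype.val (mem_center_iff.1 z.2 ⟨y, hy⟩)⟩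
  rw [hb, mem_bot] at this
  exact hz (Subtype.ext (Subtype.ext this))

section
variable {M N Q : Subgroup G} (hQF : Q ≤ fitIn M)
  (hQN : (generalizedFittingSubgroup ↥M).map M.subtype ⊓ normalizer (Q : Set G) ≤ N)

include hQF hQN

theorem layIn_le : layIn M ≤ N := by
  refine (le_inf (map_mono layer_le_generalizedFitting) ?_).trans hQN
  refine le_trans ?_ (centralizer_le_normalizer (Q : Set G))
  refine le_trans ?_ (centralizer_le hQF)
  rw [commutator_eq_bot_iff_le_centralizer.symm, ← map_commutator, layer_fitting_commute, Subgroup.map_bot]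

theorem zCore_le {q : ℕ} [Fact q.Prime] : zCore q M ≤ N :=
  (le_inf ((inf_le_left : zCore q M ≤ _).trans ((coreIn_le_fit Fact.out M).trans
    (map_mono fitting_le_generalizedFitting)))
    ((zCore_centralizes M).trans ((centralizer_le hQF).trans (centralizer_le_normalizer _)))).trans hQN

theorem Q_le : Q ≤ N :=
  (le_inf (hQF.trans (map_mono fitting_le_generalizedFitting)) le_normalizer).trans hQN

/-- An element of `O_q(M)` centralizing `O_q(M) ∩ N` lies in `N`. -/
theorem mem_of_centralizes {s : ℕ} [Fact s.Prime] {y : G} (hy : y ∈ coreIn s M)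
    (h : y ∈ centralizer ((coreIn s M ⊓ N : Subgroup G) : Set G)) : y ∈ N := by
  refine hQN (mem_inf.2 ⟨map_mono fitting_le_generalizedFitting (coreIn_le_fit Fact.out M hy), ?_⟩)
  have htop : (centralizer ({y} : Set G)).subgroupOf Q = ⊤ :=
    FittingCores.eq_top_of_forall_sylow_le fun t ht => by
      haveI := Fact.mk ht
      refine ⟨default, fun z hz => ?_⟩
      have hzc : (z : G) ∈ coreIn t M := pSub_le_coreIn ((default : Sylow t Q).isPGroup'.map Q.subtype)
        ((map_subtype_le _).trans hQF) ⟨z, hz, rfl⟩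
      show (z : G) ∈ centralizer ({y} : Set G)
      rw [mem_centralizer_singleton_iff]
      rcases eq_or_ne t s with rfl | hne
      · exact mem_centralizer_iff.1 h _ (mem_inf.2 ⟨hzc, Q_le hQF hQN z.2⟩)
      · exact (BenderMax.commute_elems (coreIn_commute hne M) hzc hy).eq
  refine centralizer_le_normalizer _ (mem_centralizer_iff.2 fun z hz => ?_)
  exact mem_centralizer_singleton_iff.1 (htop.ge (mem_top (⟨z, hz⟩ : Q)))

end

variable [IsSimpleGroup G]

theorem centralizer_zCore_le {q : ℕ} [Fact q.Prime] {M : Subgroup G} (hM : IsCoatom M) (h : coreIn q M ≠ ⊥) :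
    centralizer (zCore q M : Set G) ≤ M :=
  (centralizer_le_normalizer _).trans
    (BenderMax.normalizer_eq hM ((inf_le_left : zCore q M ≤ _).trans (map_subtype_le _)) (zCore_ne_bot h)
      (zCore_normalized q M)).le

variable {M N Q : Subgroup G} (hM : IsCoatom M) (hN : IsCoatom N) (hQF : Q ≤ fitIn M)
  (hQN : (generalizedFittingSubgroup ↥M).map M.subtype ⊓ normalizer (Q : Set G) ≤ N)

include hM hQF hQN

theorem part_i {p q : ℕ} [Fact p.Prime] [Fact q.Prime] (hpq : p ≠ q) (hp : coreIn p M ≠ ⊥)
    (hq : coreIn q M ≠ ⊥) : coreIn q N ≤ M := by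
  intro y hy
  refine centralizer_zCore_le hM hp (mem_centralizer_iff.2 fun x hx => ?_)
  have hxN : x ∈ N := zCore_le hQF hQN hx
  refine AxB.thompson (P := coreIn q N) (A := zCore q M) (n := Nat.card ↥(zCore p M))
    (coreIn_pGroup q N) ((coreIn_pGroup q M).to_le inf_le_left)
    ((zCore_le hQF hQN).trans (normalizes_coreIn q N))
    (fun z hz => (mem_normalizer_iff.1 (normalizes_coreIn q N hxN) z).1 hz)
    (fun a ha => (BenderMax.commute_elems (coreIn_commute (Ne.symm hpq) M) (mem_inf.1 ha).1 (mem_inf.1 hx).1).eq)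
    (congrArg Subtype.val (pow_card_eq_one' (x := (⟨x, hx⟩ : zCore p M))))
    ?_ (fun z hz hzA => ?_) y hy
  · obtain ⟨k, hk⟩ := ((coreIn_pGroup p M).to_le (inf_le_left : zCore p M ≤ _)).exists_card_eq
    rw [hk]
    exact ((Nat.coprime_primes Fact.out Fact.out).2 (Ne.symm hpq)).pow_right k
  · have hzM : z ∈ M := centralizer_zCore_le hM hq (mem_centralizer_iff.2 hzA)
    have h1 : x * z * x⁻¹ * z⁻¹ ∈ coreIn q N :=
      mul_mem ((mem_normalizer_iff.1 (normalizes_coreIn q N hxN) z).1 hz) (inv_mem hz)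
    have h2 : x * z * x⁻¹ * z⁻¹ ∈ coreIn p M := by
      rw [mul_assoc, mul_assoc, ← mul_assoc z]
      exact mul_mem (mem_inf.1 hx).1
        ((mem_normalizer_iff.1 (normalizes_coreIn p M hzM) _).1 (inv_mem (mem_inf.1 hx).1))
    have h3 := disjoint_iff.1 (IsPGroup.disjoint_of_ne q p (Ne.symm hpq) _ _ (coreIn_pGroup q N) (coreIn_pGroup p M))
    have h4 : x * z * x⁻¹ * z⁻¹ = 1 := by rw [← mem_bot, ← h3]; exact mem_inf.2 ⟨h1, h2⟩
    rwa [mul_inv_eq_one, mul_inv_eq_iff_eq_mul] at h4

theorem part_ii {q : ℕ} [Fact q.Prime] (hq : coreIn q M = ⊥) : coreIn q N ⊓ M = ⊥ := by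
  set R := coreIn q N ⊓ M with hR
  set E := layIn M with hE
  have hRq : IsPGroup q R := (coreIn_pGroup q N).to_le inf_le_left
  have hRn : M ⊓ N ≤ normalizer (R : Set G) :=
    (le_inf (inf_le_right.trans (normalizes_coreIn q N)) (inf_le_left.trans le_normalizer)).trans
      inf_normalizer_le_normalizer_inf
  have hEM : E ≤ M := map_subtype_le _
  have hEN : E ≤ N := layIn_le hQF hQN
  have hEn : M ≤ normalizer (E : Set G) := by
    haveI := layer_normal (G := ↥M)
    exact BenderMax.le_normalizer_map _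
  -- `R` centralizes the layer
  have hRE : ⁅E, R⁆ = ⊥ := by
    refine commute_of_commutator_central (by rw [hE, layIn, ← map_commutator, layer_commutator_eq]) ?_
    refine (commutator_le_inf_of_normalizer ((inf_le_right : R ≤ M).trans hEn)
      ((le_inf hEM hEN).trans hRn)).trans ?_
    haveI : Group.IsNilpotent ↥((E ⊓ R).subgroupOf M) :=
      ((hRq.to_le (inf_le_right : E ⊓ R ≤ R)).comap_of_injective _ M.subtype_injective).isNilpotent
    have h1 := layer_commute_solvable (G := ↥M) (H := (E ⊓ R).subgroupOf M) inferInstance (fun e he => by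
      have : (e : G) ∈ normalizer ((E ⊓ R : Subgroup G) : Set G) :=
        ((le_inf le_normalizer ((le_inf hEM hEN).trans hRn)).trans inf_normalizer_le_normalizer_inf)
          (mem_map_of_mem M.subtype he)
      exact mem_normalizer_fintype fun z hz => (mem_normalizer_iff.1 this z).1 hz)
    have h2 := congrArg (Subgroup.map M.subtype) h1
    rw [map_commutator, map_subgroupOf_eq_of_le (inf_le_left.trans hEM), Subgroup.map_bot] at h2
    exact commutator_eq_bot_iff_le_centralizer.1 (by rw [commutator_comm]; exact h2)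
  -- and each primary part of the Fitting subgroup
  have hRP : ∀ s : ℕ, s.Prime → R ≤ centralizer (coreIn s M : Set G) := by
    intro s hs r hr
    haveI := Fact.mk hs
    rcases eq_or_ne s q with rfl | hsq
    · rw [hq]
      exact mem_centralizer_iff.2 fun z hz => by rw [mem_bot.1 hz, one_mul, mul_one]
    have hrM : r ∈ M := (mem_inf.1 hr).2
    have hA : ∀ a ∈ coreIn s M ⊓ N, a * r = r * a := by
      intro a ha
      obtain ⟨haP, haN⟩ := mem_inf.1 ha
      have h1 : a * r * a⁻¹ * r⁻¹ ∈ R :=
        mul_mem ((mem_normalizer_iff.1 (hRn (mem_inf.2 ⟨map_subtype_le _ haP, haN⟩)) r).1 hr) (inv_mem hr)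
      have h2 : a * r * a⁻¹ * r⁻¹ ∈ coreIn s M := by
        rw [mul_assoc, mul_assoc, ← mul_assoc r]
        exact mul_mem haP ((mem_normalizer_iff.1 (normalizes_coreIn s M hrM) _).1 (inv_mem haP))
      have h3 := disjoint_iff.1 (IsPGroup.disjoint_of_ne q s (Ne.symm hsq) _ _ hRq (coreIn_pGroup s M))
      have h4 : a * r * a⁻¹ * r⁻¹ = 1 := by rw [← mem_bot, ← h3]; exact mem_inf.2 ⟨h1, h2⟩
      rwa [mul_inv_eq_one, mul_inv_eq_iff_eq_mul] at h4
    refine mem_centralizer_iff.2 fun z hz => (AxB.thompson (P := coreIn s M) (A := coreIn s M ⊓ N)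
      (n := Nat.card R) (coreIn_pGroup s M) ((coreIn_pGroup s M).to_le inf_le_left)
      (inf_le_left.trans ((map_subtype_le _).trans (normalizes_coreIn s M)))
      (fun y hy => (mem_normalizer_iff.1 (normalizes_coreIn s M hrM) y).1 hy) hA
      (congrArg Subtype.val (pow_card_eq_one' (x := (⟨r, hr⟩ : R)))) ?_ (fun y hy hyA => ?_) z hz).symm
    · obtain ⟨k, hk⟩ := hRq.exists_card_eq
      rw [hk]
      exact ((Nat.coprime_primes hs Fact.out).2 hsq).pow_right k
    · exact (hA y (mem_inf.2 ⟨hy, mem_of_centralizes hQF hQN hy (mem_centralizer_iff.2 hyA)⟩)).symm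
  -- so it is trivial
  rw [eq_bot_iff]
  intro r hr
  have hrM : r ∈ M := (mem_inf.1 hr).2
  have hrC : (⟨r, hrM⟩ : M) ∈ centralizer (generalizedFittingSubgroup ↥M : Set ↥M) := by
    have hle : generalizedFittingSubgroup ↥M ≤ (centralizer ({r} : Set G)).comap M.subtype := by
      rw [← map_le_iff_le_comap, generalizedFittingSubgroup, Subgroup.map_sup]
      refine sup_le (fun e he => mem_centralizer_singleton_iff.2
        (BenderMax.commute_elems hRE he hr).eq) (fitIn_le_iff.2 fun s hs e he =>
          mem_centralizer_singleton_iff.2 (mem_centralizer_iff.1 (hRP s hs hr) e he))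
    exact mem_centralizer_iff.2 fun e he => Subtype.ext (mem_centralizer_singleton_iff.1 (hle he))
  rw [centralizer_generalizedFitting_eq] at hrC
  have hZF : (center ↥(generalizedFittingSubgroup ↥M)).map (generalizedFittingSubgroup ↥M).subtype ≤
      fittingSubgroup ↥M := by
    haveI := generalizedFitting_normal (G := ↥M)
    refine le_fittingSubgroup (FittingCores.normal_map_of_characteristic inferInstance inferInstance) ?_
    haveI : Group.IsNilpotent ↥(center ↥(generalizedFittingSubgroup ↥M)) := by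
      letI : CommGroup ↥(center ↥(generalizedFittingSubgroup ↥M)) :=
        { mul_comm := fun a b => Subtype.ext (mem_center_iff.1 b.2 a) }
      infer_instance
    exact isNilpotent_map _ _
  have h1 : zpowers r ≤ fitIn M := zpowers_le.2 ⟨⟨r, hrM⟩, hZF hrC, rfl⟩
  have h2 := pSub_le_coreIn (hRq.to_le (zpowers_le.2 hr)) h1 (mem_zpowers r)
  rwa [hq] at h2

omit hM hQF hQN

/-- If the layers of two maximal subgroups lie in each other, and each Fitting subgroup part in `M ∩ N`
is self-centralizing in the relevant core, a component of `N` is one of `M`. -/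
theorem component_eq' (hEM : layIn M ≤ N) (hEN : layIn N ≤ M) (hQF : Q ≤ fitIn M)
    (hQN : (generalizedFittingSubgroup ↥M).map M.subtype ⊓ normalizer (Q : Set G) ≤ N)
    {L : Subgroup N} (hL : IsComponent L) : ∃ K : Subgroup M, IsComponent K ∧ K.map M.subtype = L.map N.subtype := by
  by_contra hno
  set D := M ⊓ N with hD
  have hL' : L.map N.subtype ≤ D := le_inf ((map_mono (component_le_layer hL)).trans hEN) (map_subtype_le _)
  have hLM : L.map N.subtype ≤ M := hL'.trans inf_le_left
  have hLD := BenderMax.map_component hL hL' inf_le_right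
  set L₁ := (L.map N.subtype).subgroupOf D
  have hcomm : ∀ T : Subgroup G, T ≤ D → ⁅L₁, T.subgroupOf D⁆ = ⊥ → L.map N.subtype ≤ centralizer (T : Set G) := by
    intro T hT h x hx
    refine mem_centralizer_iff.2 fun y hy => ?_
    have := BenderMax.commute_elems h (x := (⟨x, hL' hx⟩ : D)) (y := ⟨y, hT hy⟩) hx hy
    exact (congrArg Subtype.val this.eq).symm
  have hlay : L.map N.subtype ≤ centralizer (layIn M : Set G) := by
    rw [le_centralizer_iff, map_le_iff_le_comap]
    refine layer_le_iff.2 fun K hK => ?_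
    rw [← map_le_iff_le_comap, ← le_centralizer_iff]
    have hK' : K.map M.subtype ≤ D :=
      le_inf (map_subtype_le _) ((map_mono (component_le_layer hK)).trans hEM)
    refine hcomm _ hK' (components_commute hLD (BenderMax.map_component hK hK' inf_le_left) fun h => hno ⟨K, hK, ?_⟩)
    have := congrArg (Subgroup.map D.subtype) h
    rw [map_subgroupOf_eq_of_le hL', map_subgroupOf_eq_of_le hK'] at this
    exact this.symm
  have hP : ∀ s : ℕ, s.Prime → L.map N.subtype ≤ centralizer (coreIn s M : Set G) := by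
    intro s hs
    haveI := Fact.mk hs
    set P := coreIn s M
    have hA : L.map N.subtype ≤ centralizer ((P ⊓ N : Subgroup G) : Set G) := by
      have hPD : P ⊓ N ≤ D := inf_le_inf_right N (map_subtype_le _)
      refine hcomm _ hPD (component_commute_solvable hLD ?_ ?_)
      · haveI : Group.IsNilpotent ↥((P ⊓ N).subgroupOf D) :=
          (((coreIn_pGroup s M).to_le inf_le_left).comap_of_injective _ D.subtype_injective).isNilpotent
        infer_instance
      · intro x _
        have : (x : G) ∈ normalizer ((P ⊓ N : Subgroup G) : Set G) :=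
          ((inf_le_inf (normalizes_coreIn s M) le_normalizer).trans inf_normalizer_le_normalizer_inf) x.2
        exact mem_normalizer_fintype fun z hz => (mem_normalizer_iff.1 this z).1 hz
    haveI : Group.IsPerfect ↥L := hL.2.1
    have hres := pResidual_eq_top_of_perfect (G := ↥L) (p := s)
    let φ : ↥L →* G := N.subtype.comp L.subtype
    have hmap : L.map N.subtype = (⊤ : Subgroup L).map φ := by
      rw [← MonoidHom.range_eq_map, MonoidHom.range_comp, range_subtype]
    rw [hmap, ← hres, pResidual, MonoidHom.map_closure, closure_le]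
    rintro _ ⟨l, hl, rfl⟩
    have hx : φ l ∈ L.map N.subtype := ⟨(l : N), l.2, rfl⟩
    refine mem_centralizer_iff.2 fun z hz => (AxB.thompson (P := P) (A := P ⊓ N) (n := orderOf l)
      (coreIn_pGroup s M) ((coreIn_pGroup s M).to_le inf_le_left)
      (inf_le_left.trans ((map_subtype_le _).trans (normalizes_coreIn s M)))
      (fun y hy => (mem_normalizer_iff.1 (normalizes_coreIn s M (hLM hx)) y).1 hy)
      (fun a ha => mem_centralizer_iff.1 (hA hx) a ha)
      (by rw [← map_pow, pow_orderOf_eq_one, map_one]) (Nat.Coprime.symm hl)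
      (fun y hy hyA => ?_) z hz).symm
    exact (mem_centralizer_iff.1 (hA hx) y
      (mem_inf.2 ⟨hy, mem_of_centralizes hQF hQN hy (mem_centralizer_iff.2 hyA)⟩)).symm
  have hfit : L.map N.subtype ≤ centralizer (fitIn M : Set G) := by
    rw [le_centralizer_iff, fitIn_le_iff]
    exact fun s hs => le_centralizer_iff.1 (hP s hs)
  have hLF : (L.map N.subtype).subgroupOf M ≤ centralizer (generalizedFittingSubgroup ↥M : Set ↥M) := by
    rw [le_centralizer_iff]
    refine sup_le (fun y hy => ?_) (fun y hy => ?_) <;> refine mem_centralizer_iff.2 fun x hx => Subtype.ext ?_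
    · exact (mem_centralizer_iff.1 (hlay hx) y ⟨y, hy, rfl⟩).symm
    · exact (mem_centralizer_iff.1 (hfit hx) y ⟨y, hy, rfl⟩).symm
  have hcom : IsMulCommutative ↥L := by
    refine ⟨⟨fun a b => Subtype.ext (Subtype.ext ?_)⟩⟩
    have ha : (⟨((a : N) : G), hLM ⟨a, a.2, rfl⟩⟩ : M) ∈ (L.map N.subtype).subgroupOf M := ⟨a, a.2, rfl⟩
    have hb : (⟨((b : N) : G), hLM ⟨b, b.2, rfl⟩⟩ : M) ∈ (L.map N.subtype).subgroupOf M := ⟨b, b.2, rfl⟩
    exact (congrArg Subtype.val (mem_centralizer_iff.1 (hLF hb) _
      (centralizer_generalizedFitting_le (hLF ha))) :)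
  exact quasisimple_not_commutative hL.2 hcom

theorem symmetric {R : Subgroup G} (hM : IsCoatom M) (hN : IsCoatom N) (hQne : Q ≠ ⊥) (hQF : Q ≤ fitIn M)
    (hQN : (generalizedFittingSubgroup ↥M).map M.subtype ⊓ normalizer (Q : Set G) ≤ N)
    (hRne : R ≠ ⊥) (hRF : R ≤ fitIn N)
    (hRM : (generalizedFittingSubgroup ↥N).map N.subtype ⊓ normalizer (R : Set G) ≤ M) :
    M = N ∨ ((generalizedFittingSubgroup ↥M).map M.subtype ≤ N ∧
        (generalizedFittingSubgroup ↥N).map N.subtype ≤ M) ∨
      ∃ p : ℕ, p.Prime ∧ IsPGroup p ↥(generalizedFittingSubgroup ↥M) ∧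
        IsPGroup p ↥(generalizedFittingSubgroup ↥N) := by
  classical
  have hπ : ∀ s : ℕ, s.Prime → (coreIn s M = ⊥ ↔ coreIn s N = ⊥) := by
    intro s hs
    haveI := Fact.mk hs
    constructor <;> intro h <;> by_contra hne
    · refine zCore_ne_bot hne (le_bot_iff.1 ?_)
      rw [← part_ii hM hQF hQN h]
      exact le_inf inf_le_left (zCore_le hRF hRM)
    · refine zCore_ne_bot hne (le_bot_iff.1 ?_)
      rw [← part_ii hN hRF hRM h]
      exact le_inf inf_le_left (zCore_le hQF hQN)
  have hEM : layIn M ≤ N := layIn_le hQF hQN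
  have hEN : layIn N ≤ M := layIn_le hRF hRM
  by_cases htwo : ∃ p q : ℕ, p.Prime ∧ q.Prime ∧ p ≠ q ∧ coreIn p M ≠ ⊥ ∧ coreIn q M ≠ ⊥
  · obtain ⟨p, q, hp, hq, hpq, hp', hq'⟩ := htwo
    have hother : ∀ s : ℕ, ∃ t : ℕ, t.Prime ∧ t ≠ s ∧ coreIn t M ≠ ⊥ := fun s => by
      rcases eq_or_ne p s with rfl | h
      · exact ⟨q, hq, hpq.symm, hq'⟩
      · exact ⟨p, hp, h, hp'⟩
    have h1 : fitIn N ≤ M := fitIn_le_iff.2 fun s hs => by
      by_cases h : coreIn s N = ⊥
      · rw [h]; exact bot_le
      · obtain ⟨t, ht, hts, ht'⟩ := hother s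
        haveI := Fact.mk hs
        haveI := Fact.mk ht
        exact part_i hM hQF hQN hts ht' fun e => h ((hπ s hs).1 e)
    have h2 : fitIn M ≤ N := fitIn_le_iff.2 fun s hs => by
      by_cases h : coreIn s M = ⊥
      · rw [h]; exact bot_le
      · obtain ⟨t, ht, hts, ht'⟩ := hother s
        haveI := Fact.mk hs
        haveI := Fact.mk ht
        exact part_i hN hRF hRM hts (fun e => ht' ((hπ t ht).2 e)) fun e => h ((hπ s hs).2 e)
    refine Or.inr (Or.inl ⟨?_, ?_⟩) <;> rw [generalizedFittingSubgroup, Subgroup.map_sup]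
    · exact sup_le hEM h2
    · exact sup_le hEN h1
  have hlay : layIn M = layIn N := by
    refine le_antisymm ?_ ?_
    · rw [layIn, map_le_iff_le_comap, layer_le_iff]
      intro K hK
      obtain ⟨L, hL, hLK⟩ := component_eq' hEN hEM hRF hRM hK
      rw [← map_le_iff_le_comap, ← hLK]
      exact map_mono (component_le_layer hL)
    · rw [layIn, map_le_iff_le_comap, layer_le_iff]
      intro K hK
      obtain ⟨L, hL, hLK⟩ := component_eq' hEM hEN hQF hQN hK
      rw [← map_le_iff_le_comap, ← hLK]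
      exact map_mono (component_le_layer hL)
  by_cases hne : layIn M = ⊥
  · have hMl : layer ↥M = ⊥ := (map_eq_bot_iff_of_injective _ M.subtype_injective).1 hne
    have hNl : layer ↥N = ⊥ := (map_eq_bot_iff_of_injective _ N.subtype_injective).1 (hlay.symm.trans hne)
    obtain ⟨p, hp, hp'⟩ : ∃ p : ℕ, p.Prime ∧ coreIn p M ≠ ⊥ := by
      by_contra h
      refine hQne (le_bot_iff.1 (hQF.trans (fitIn_le_iff.2 fun s hs => ?_)))
      exact le_of_eq (by_contra fun he => h ⟨s, hs, he⟩)
    haveI := Fact.mk hp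
    have hpg : ∀ {P : Subgroup G}, layer ↥P = ⊥ → (∀ s : ℕ, s.Prime → s ≠ p → coreIn s P = ⊥) →
        IsPGroup p ↥(generalizedFittingSubgroup ↥P) := by
      intro P hl hs
      rw [generalizedFittingSubgroup, hl, bot_sup_eq]
      refine (FittingCores.pCore_isPGroup p).to_le ?_
      rw [FittingCores.fitting_eq_iSup_pCore]
      refine iSup_le fun s => ?_
      by_cases h : (s : ℕ) = p
      · rw [h]
      · rw [(map_eq_bot_iff_of_injective _ P.subtype_injective).1 (hs s s.2 h)]
        exact bot_le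
    have hM' : ∀ s : ℕ, s.Prime → s ≠ p → coreIn s M = ⊥ := fun s hs hsp =>
      by_contra fun h => htwo ⟨s, p, hs, hp, hsp, h, hp'⟩
    exact Or.inr (Or.inr ⟨p, hp, hpg hMl hM', hpg hNl fun s hs hsp => (hπ s hs).1 (hM' s hs hsp)⟩)
  · haveI := layer_normal (G := ↥M)
    haveI := layer_normal (G := ↥N)
    left
    refine (BenderMax.normalizer_eq hM (map_subtype_le _) hne (BenderMax.le_normalizer_map _)).symm.trans ?_
    show normalizer (layIn M : Set G) = N
    rw [hlay]
    exact BenderMax.normalizer_eq hN (map_subtype_le _) (fun h => hne (hlay.trans h)) (BenderMax.le_normalizer_map _)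

end Cfsg.Agent.BenderUnique
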