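/-
Bender's lemma on overgroups `B` of a self-centralizing subnormal subgroup of `F*(A)`, `A` maximal in a
simple group: `O_q(B) ∩ A = 1` for `q ∤ |F(A)|`, and `[O_p(B), O^p(F*(A))] = 1` for `p ∣ |F(A)|`.
-/
import Cfsg.Agent.Lib.Components.BenderUnique
import Cfsg.Prelude.Def_Transfer

set_option autoImplicit false
set_option linter.style.haveILetI false
set_option linter.unusedSectionVars false

namespace Cfsg.Agent.BenderSubnormal

open Subgroup Cfsg.Agent.Components Cfsg.Agent.BenderUnique
open scoped Pointwise commutatorElement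

variable {G : Type*} [Group G] [Finite G]

/-- `F*(A)` as a subgroup of `G`. -/
abbrev fstarIn (A : Subgroup G) : Subgroup G := (generalizedFittingSubgroup ↥A).map A.subtype

variable {A S B : Subgroup G} (hSF : S ≤ fstarIn A)
  (hSsn : (S.subgroupOf (fstarIn A)).IsSubnormal)
  (hSC : fstarIn A ⊓ centralizer (S : Set G) ≤ S)

include hSF hSsn hSC

theorem layIn_le : layIn A ≤ S := by
  haveI := generalizedFitting_normal (G := ↥A)
  set F := generalizedFittingSubgroup ↥A with hF
  have hSA : S ≤ A := hSF.trans (map_subtype_le _)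
  have hle : S.subgroupOf A ≤ F := by
    intro x hx
    obtain ⟨y, hy, he⟩ := hSF hx
    rwa [Subtype.ext he] at hy
  have h1 : ((S.subgroupOf A).subgroupOf F).IsSubnormal := by
    let e : ↥F ≃* ↥(fstarIn A) := F.equivMapOfInjective A.subtype A.subtype_injective
    have : (S.subgroupOf A).subgroupOf F = (S.subgroupOf (fstarIn A)).comap e.toMonoidHom := rfl
    rw [this]
    exact hSsn.comap _
  have hsn : (S.subgroupOf A).IsSubnormal :=
    IsSubnormal.trans hle h1 (Normal.isSubnormal (H := F) inferInstance)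
  rw [layIn, map_le_iff_le_comap]
  refine layer_le_iff.2 fun K hK => ?_
  rcases component_le_or_commute hK hsn with h | h
  · exact h
  · intro x hx
    refine hSC (mem_inf.2 ⟨⟨x, layer_le_generalizedFitting (component_le_layer hK hx), rfl⟩,
      mem_centralizer_iff.2 fun s hs => ?_⟩)
    exact (congrArg Subtype.val
      (BenderMax.commute_elems h hx (y := (⟨s, hSA hs⟩ : A)) hs).eq).symm

theorem zCore_le {s : ℕ} [Fact s.Prime] : zCore s A ≤ S := by
  intro z hz
  have hzF : z ∈ fstarIn A := map_mono fitting_le_generalizedFitting (coreIn_le_fit Fact.out A hz.1)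
  refine hSC (mem_inf.2 ⟨hzF, mem_centralizer_iff.2 fun x hx => ?_⟩)
  have hle : fstarIn A ≤ centralizer ({z} : Set G) := by
    rw [fstarIn, generalizedFittingSubgroup, Subgroup.map_sup]
    refine sup_le (fun e he => mem_centralizer_singleton_iff.2 ?_)
      (fun f hf => mem_centralizer_singleton_iff.2 (mem_centralizer_iff.1 (zCore_centralizes A hz) f hf))
    have h0 : ⁅layIn A, fitIn A⁆ = ⊥ := by
      rw [layIn, fitIn, ← map_commutator, layer_fitting_commute, Subgroup.map_bot]
    exact (BenderMax.commute_elems h0 he (coreIn_le_fit Fact.out A hz.1)).eq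
  exact mem_centralizer_singleton_iff.1 (hle (hSF hx))

/-- An element of `O_s(A)` centralizing `O_s(A) ∩ S` lies in `S`. -/
theorem mem_of_centralizes {s : ℕ} [Fact s.Prime] {y : G} (hy : y ∈ coreIn s A)
    (h : y ∈ centralizer ((coreIn s A ⊓ S : Subgroup G) : Set G)) : y ∈ S := by
  refine hSC (mem_inf.2 ⟨map_mono fitting_le_generalizedFitting (coreIn_le_fit Fact.out A hy), ?_⟩)
  set Q := S ⊓ fitIn A with hQ
  have htop : (centralizer ({y} : Set G)).subgroupOf Q = ⊤ :=
    FittingCores.eq_top_of_forall_sylow_le fun t ht => by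
      haveI := Fact.mk ht
      refine ⟨default, fun z hz => ?_⟩
      have hzc : (z : G) ∈ coreIn t A := pSub_le_coreIn ((default : Sylow t Q).isPGroup'.map Q.subtype)
        ((map_subtype_le _).trans inf_le_right) ⟨z, hz, rfl⟩
      show (z : G) ∈ centralizer ({y} : Set G)
      rw [mem_centralizer_singleton_iff]
      rcases eq_or_ne t s with rfl | hne
      · exact mem_centralizer_iff.1 h _ (mem_inf.2 ⟨hzc, (z.2 : (z : G) ∈ S ⊓ fitIn A).1⟩)
      · exact (BenderMax.commute_elems (coreIn_commute hne A) hzc hy).eq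
  have hE := layIn_le hSF hSsn hSC
  refine mem_centralizer_iff.2 fun x hx => ?_
  have hx' : x ∈ ((layIn A ⊔ fitIn A : Subgroup G) : Set G) := by
    rw [layIn, fitIn, ← Subgroup.map_sup]
    exact hSF hx
  haveI := layer_normal (G := ↥A)
  rw [Subgroup.coe_mul_of_right_le_normalizer_left (layIn A) (fitIn A)
    ((map_subtype_le _).trans (BenderMax.le_normalizer_map _))] at hx'
  obtain ⟨e, he, f, hf, rfl⟩ := Set.mem_mul.1 hx'
  have hfS : f ∈ S := by
    have := mul_mem (inv_mem (hE he)) hx
    rwa [inv_mul_cancel_left] at this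
  have h0 : ⁅layIn A, fitIn A⁆ = ⊥ := by
    rw [layIn, fitIn, ← map_commutator, layer_fitting_commute, Subgroup.map_bot]
  have c1 : Commute e y := BenderMax.commute_elems h0 he (coreIn_le_fit Fact.out A hy)
  have c2 : Commute f y := mem_centralizer_singleton_iff.1 (htop.ge (mem_top (⟨f, hfS, hf⟩ : Q)))
  exact (c1.mul_left c2).eq

variable (hSB : S ≤ B)
include hSB

theorem layer_commutes {q : ℕ} [Fact q.Prime] : ⁅layIn A, coreIn q B ⊓ A⁆ = ⊥ := by
  set R := coreIn q B ⊓ A with hR
  set E := layIn A with hE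
  have hRq : IsPGroup q R := (coreIn_pGroup q B).to_le inf_le_left
  have hEB : E ≤ B := (layIn_le hSF hSsn hSC).trans hSB
  have hRn : A ⊓ B ≤ normalizer (R : Set G) :=
    (le_inf (inf_le_right.trans (normalizes_coreIn q B)) (inf_le_left.trans le_normalizer)).trans
      inf_normalizer_le_normalizer_inf
  have hEA : E ≤ A := map_subtype_le _
  have hEn : A ≤ normalizer (E : Set G) := by
    haveI := layer_normal (G := ↥A)
    exact BenderMax.le_normalizer_map _
  refine commute_of_commutator_central (by rw [hE, layIn, ← map_commutator, layer_commutator_eq]) ?_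
  refine (commutator_le_inf_of_normalizer ((inf_le_right : R ≤ A).trans hEn)
    ((le_inf hEA hEB).trans hRn)).trans ?_
  haveI : Group.IsNilpotent ↥((E ⊓ R).subgroupOf A) :=
    ((hRq.to_le (inf_le_right : E ⊓ R ≤ R)).comap_of_injective _ A.subtype_injective).isNilpotent
  have h1 := layer_commute_solvable (G := ↥A) (H := (E ⊓ R).subgroupOf A) inferInstance (fun e he => by
    have : (e : G) ∈ normalizer ((E ⊓ R : Subgroup G) : Set G) :=
      ((le_inf le_normalizer ((le_inf hEA hEB).trans hRn)).trans inf_normalizer_le_normalizer_inf)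
        (mem_map_of_mem A.subtype he)
    exact mem_normalizer_fintype fun z hz => (mem_normalizer_iff.1 this z).1 hz)
  have h2 := congrArg (Subgroup.map A.subtype) h1
  rw [map_commutator, map_subgroupOf_eq_of_le (inf_le_left.trans hEA), Subgroup.map_bot] at h2
  exact commutator_eq_bot_iff_le_centralizer.1 (by rw [commutator_comm]; exact h2)

/-- `O_q(B) ∩ A` centralizes `O_s(A)` for `s ≠ q`. -/
theorem core_commutes {q s : ℕ} [Fact q.Prime] [Fact s.Prime] (hsq : s ≠ q) :
    coreIn q B ⊓ A ≤ centralizer (coreIn s A : Set G) := by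
  set R := coreIn q B ⊓ A with hR
  have hRq : IsPGroup q R := (coreIn_pGroup q B).to_le inf_le_left
  have hRn : A ⊓ B ≤ normalizer (R : Set G) :=
    (le_inf (inf_le_right.trans (normalizes_coreIn q B)) (inf_le_left.trans le_normalizer)).trans
      inf_normalizer_le_normalizer_inf
  intro r hr
  have hrA : r ∈ A := (mem_inf.1 hr).2
  have hA : ∀ a ∈ coreIn s A ⊓ B, a * r = r * a := by
    intro a ha
    obtain ⟨haP, haN⟩ := mem_inf.1 ha
    have h1 : a * r * a⁻¹ * r⁻¹ ∈ R :=
      mul_mem ((mem_normalizer_iff.1 (hRn (mem_inf.2 ⟨map_subtype_le _ haP, haN⟩)) r).1 hr) (inv_mem hr)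
    have h2 : a * r * a⁻¹ * r⁻¹ ∈ coreIn s A := by
      rw [mul_assoc, mul_assoc, ← mul_assoc r]
      exact mul_mem haP ((mem_normalizer_iff.1 (normalizes_coreIn s A hrA) _).1 (inv_mem haP))
    have h3 := disjoint_iff.1 (IsPGroup.disjoint_of_ne q s (Ne.symm hsq) _ _ hRq (coreIn_pGroup s A))
    have h4 : a * r * a⁻¹ * r⁻¹ = 1 := by rw [← mem_bot, ← h3]; exact mem_inf.2 ⟨h1, h2⟩
    rwa [mul_inv_eq_one, mul_inv_eq_iff_eq_mul] at h4
  refine mem_centralizer_iff.2 fun z hz => (AxB.thompson (P := coreIn s A) (A := coreIn s A ⊓ B)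
    (n := Nat.card R) (coreIn_pGroup s A) ((coreIn_pGroup s A).to_le inf_le_left)
    (inf_le_left.trans ((map_subtype_le _).trans (normalizes_coreIn s A)))
    (fun y hy => (mem_normalizer_iff.1 (normalizes_coreIn s A hrA) y).1 hy) hA
    (congrArg Subtype.val (pow_card_eq_one' (x := (⟨r, hr⟩ : R)))) ?_ (fun y hy hyA => ?_) z hz).symm
  · obtain ⟨k, hk⟩ := hRq.exists_card_eq
    rw [hk]
    exact ((Nat.coprime_primes Fact.out Fact.out).2 hsq).pow_right k
  · have hyS : y ∈ S := mem_of_centralizes hSF hSsn hSC hy (mem_centralizer_iff.2 fun a ha =>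
      hyA a (inf_le_inf_left _ hSB ha))
    exact (hA y (mem_inf.2 ⟨hy, hSB hyS⟩)).symm

theorem part_a {q : ℕ} [Fact q.Prime] (hq : coreIn q A = ⊥) : coreIn q B ⊓ A = ⊥ := by
  set R := coreIn q B ⊓ A with hR
  have hRq : IsPGroup q R := (coreIn_pGroup q B).to_le inf_le_left
  rw [eq_bot_iff]
  intro r hr
  have hrA : r ∈ A := (mem_inf.1 hr).2
  have hrC : (⟨r, hrA⟩ : A) ∈ centralizer (generalizedFittingSubgroup ↥A : Set ↥A) := by
    have hle : generalizedFittingSubgroup ↥A ≤ (centralizer ({r} : Set G)).comap A.subtype := by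
      rw [← map_le_iff_le_comap, generalizedFittingSubgroup, Subgroup.map_sup]
      refine sup_le (fun e he => mem_centralizer_singleton_iff.2
        (BenderMax.commute_elems (layer_commutes hSF hSsn hSC hSB) he hr).eq)
        (fitIn_le_iff.2 fun s hs e he => mem_centralizer_singleton_iff.2 ?_)
      haveI := Fact.mk hs
      rcases eq_or_ne s q with rfl | hsq
      · rw [hq, mem_bot] at he
        rw [he, one_mul, mul_one]
      · exact mem_centralizer_iff.1 (core_commutes hSF hSsn hSC hSB hsq hr) e he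
    exact mem_centralizer_iff.2 fun e he => Subtype.ext (mem_centralizer_singleton_iff.1 (hle he))
  rw [centralizer_generalizedFitting_eq] at hrC
  have hZF : (center ↥(generalizedFittingSubgroup ↥A)).map (generalizedFittingSubgroup ↥A).subtype ≤
      fittingSubgroup ↥A := by
    haveI := generalizedFitting_normal (G := ↥A)
    refine le_fittingSubgroup (FittingCores.normal_map_of_characteristic inferInstance inferInstance) ?_
    haveI : Group.IsNilpotent ↥(center ↥(generalizedFittingSubgroup ↥A)) := by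
      letI : CommGroup ↥(center ↥(generalizedFittingSubgroup ↥A)) :=
        { mul_comm := fun a b => Subtype.ext (mem_center_iff.1 b.2 a) }
      infer_instance
    exact isNilpotent_map _ _
  have h1 : zpowers r ≤ fitIn A := zpowers_le.2 ⟨⟨r, hrA⟩, hZF hrC, rfl⟩
  have h2 := pSub_le_coreIn (hRq.to_le (zpowers_le.2 hr)) h1 (mem_zpowers r)
  rwa [hq] at h2

variable [IsSimpleGroup G]

/-- A `p'`-element of `S` centralizing `O_p(B) ∩ A` and `Z(O_p(A))` centralizes `O_p(B)`. -/
theorem commutes_core {p : ℕ} [Fact p.Prime] (hA : IsCoatom A) (hp : coreIn p A ≠ ⊥) {x : G} (hx : x ∈ B)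
    (hxp : p.Coprime (orderOf x)) (hxU : ∀ u ∈ zCore p A, u * x = x * u)
    (hxR : ∀ r ∈ coreIn p B ⊓ A, x * r = r * x) : ∀ r ∈ coreIn p B, x * r = r * x := by
  refine AxB.thompson (P := coreIn p B) (A := zCore p A) (n := orderOf x)
    (coreIn_pGroup p B) ((coreIn_pGroup p A).to_le inf_le_left)
    (((zCore_le hSF hSsn hSC).trans hSB).trans (normalizes_coreIn p B))
    (fun z hz => (mem_normalizer_iff.1 (normalizes_coreIn p B hx) z).1 hz)
    hxU (pow_orderOf_eq_one x) hxp (fun z hz hzA => ?_)
  exact hxR z (mem_inf.2 ⟨hz, centralizer_zCore_le hA hp (mem_centralizer_iff.2 hzA)⟩)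

theorem part_b {p : ℕ} [Fact p.Prime] (hA : IsCoatom A) (hp : coreIn p A ≠ ⊥) {y : A}
    (hy : y ∈ (pResidual p ↥(generalizedFittingSubgroup ↥A)).map (generalizedFittingSubgroup ↥A).subtype)
    {x : G} (hx : x ∈ coreIn p B) : x * (y : G) = (y : G) * x := by
  -- the layer centralizes `O_p(B)`
  have hE : ∀ e ∈ layIn A, e * x = x * e := by
    have hclosure : layIn A ≤ closure {e | e ∈ layIn A ∧ p.Coprime (orderOf e)} := by
      set K := closure {e | e ∈ layIn A ∧ p.Coprime (orderOf e)} with hK
      have hKle : K ≤ layIn A := (closure_le _).2 fun e he => he.1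
      have hn : layIn A ≤ normalizer (K : Set G) := by
        refine le_normalizer_closure_iff.2 fun g hg e he => subset_closure ⟨?_, ?_⟩
        · exact mul_mem (mul_mem hg he.1) (inv_mem hg)
        · show p.Coprime (orderOf (MulAut.conj g e))
          rw [MulEquiv.orderOf_eq]
          exact he.2
      haveI : (K.subgroupOf (layIn A)).Normal := (normal_subgroupOf_iff_le_normalizer hKle).2 hn
      haveI hperf : Group.IsPerfect ↥(layIn A) := by
        haveI : Group.IsPerfect ↥(layer ↥A) := layer_isPerfect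
        exact Group.IsPerfect.ofSurjective
          (f := ((layer ↥A).equivMapOfInjective A.subtype A.subtype_injective).toMonoidHom)
          ((layer ↥A).equivMapOfInjective A.subtype A.subtype_injective).surjective
      have hpg : IsPGroup p (↥(layIn A) ⧸ K.subgroupOf (layIn A)) := by
        intro a
        obtain ⟨v, rfl⟩ := QuotientGroup.mk_surjective a
        have ho : orderOf v ≠ 0 := (orderOf_pos v).ne'
        refine ⟨(orderOf v).factorization p, ?_⟩
        rw [← QuotientGroup.mk_pow, QuotientGroup.eq_one_iff]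
        refine subset_closure ⟨(v ^ p ^ (orderOf v).factorization p).2, ?_⟩
        show p.Coprime (orderOf ((v ^ p ^ (orderOf v).factorization p : layIn A) : G))
        rw [orderOf_coe, orderOf_pow, Nat.gcd_eq_right (Nat.ordProj_dvd _ _)]
        exact Nat.coprime_ordCompl Fact.out ho
      haveI := hpg.isNilpotent
      by_contra hne
      have hqperf : Group.IsPerfect (↥(layIn A) ⧸ K.subgroupOf (layIn A)) :=
        Group.IsPerfect.ofSurjective (f := QuotientGroup.mk' (K.subgroupOf (layIn A))) (QuotientGroup.mk'_surjective _)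
      haveI := hqperf
      haveI : Subsingleton (↥(layIn A) ⧸ K.subgroupOf (layIn A)) := by
        by_contra hns
        rw [not_subsingleton_iff_nontrivial] at hns
        exact Group.IsPerfect.not_isSolvable (G := ↥(layIn A) ⧸ K.subgroupOf (layIn A)) inferInstance
      exact hne fun e he => mem_subgroupOf.1
        ((QuotientGroup.eq_one_iff (N := K.subgroupOf (layIn A)) (⟨e, he⟩ : layIn A)).1 (Subsingleton.elim _ _))
    intro e he
    have hle : layIn A ≤ centralizer (coreIn p B : Set G) := by
      refine hclosure.trans ((closure_le _).2 fun v hv => mem_centralizer_iff.2 fun r hr => ?_)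
      refine (commutes_core hSF hSsn hSC hSB hA hp ((layIn_le hSF hSsn hSC).trans hSB hv.1) hv.2 ?_ ?_ r hr).symm
      · intro u hu
        have h0 : ⁅layIn A, fitIn A⁆ = ⊥ := by
          rw [layIn, fitIn, ← map_commutator, layer_fitting_commute, Subgroup.map_bot]
        exact (BenderMax.commute_elems h0 hv.1 (coreIn_le_fit Fact.out A hu.1)).eq.symm
      · exact fun r hr => (BenderMax.commute_elems (layer_commutes hSF hSsn hSC hSB) hv.1 hr).eq
    exact (mem_centralizer_iff.1 (hle he) x hx).symm
  have hcore : ∀ t : ℕ, t.Prime → t ≠ p → ∀ f ∈ coreIn t A, f * x = x * f := by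
    intro t ht htp f hf
    haveI := Fact.mk ht
    by_cases htb : coreIn t A = ⊥
    · rw [htb, mem_bot] at hf
      rw [hf, one_mul, mul_one]
    have hxA : x ∈ A := by
      refine centralizer_zCore_le hA htb (mem_centralizer_iff.2 fun z hz => ?_)
      refine commutes_core hSF hSsn hSC hSB hA hp (hSB (zCore_le hSF hSsn hSC hz)) ?_ ?_ ?_ x hx
      · obtain ⟨k, hk⟩ := IsPGroup.iff_orderOf.1 (coreIn_pGroup t A) ⟨z, hz.1⟩
        rw [orderOf_mk] at hk
        rw [hk]
        exact ((Nat.coprime_primes Fact.out ht).2 (Ne.symm htp)).pow_right k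
      · exact fun u hu => (BenderMax.commute_elems (coreIn_commute (Ne.symm htp) A) hu.1 hz.1).eq
      · exact fun r hr => mem_centralizer_iff.1 (core_commutes hSF hSsn hSC hSB htp hr) z hz.1
    exact mem_centralizer_iff.1 (core_commutes hSF hSsn hSC hSB htp (mem_inf.2 ⟨hx, hxA⟩)) f hf
  -- assemble
  let C : Subgroup A := (centralizer ({x} : Set G)).comap A.subtype
  let D : Subgroup A := layer ↥A ⊔ ⨆ t : {t : Nat.Primes // (t : ℕ) ≠ p}, pCore (t.1 : ℕ) ↥A
  have hDC : D ≤ C := sup_le (fun e he => mem_centralizer_singleton_iff.2 (hE e ⟨e, he, rfl⟩))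
    (iSup_le fun t f hf => mem_centralizer_singleton_iff.2 (hcore _ t.1.2 t.2 f ⟨f, hf, rfl⟩))
  haveI := layer_normal (G := ↥A)
  haveI : ∀ s : ℕ, (pCore s ↥A).Normal := fun s => FittingCores.pCore_normal s
  haveI : D.Normal := by
    haveI : (⨆ t : {t : Nat.Primes // (t : ℕ) ≠ p}, pCore (t.1 : ℕ) ↥A).Normal :=
      Subgroup.normalizer_eq_top_iff.1 (top_le_iff.1
        ((le_iInf fun s => le_normalizer_of_normal).trans (iInf_normalizer_le_normalizer_iSup _)))
    exact Subgroup.sup_normal _ _
  have hF : generalizedFittingSubgroup ↥A ≤ D ⊔ pCore p ↥A := by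
    refine sup_le (le_sup_of_le_left le_sup_left) ?_
    rw [FittingCores.fitting_eq_iSup_pCore]
    refine iSup_le fun s => ?_
    by_cases hs : (s : ℕ) = p
    · rw [hs]; exact le_sup_right
    · exact le_sup_of_le_left (le_sup_of_le_right
        (le_iSup (fun t : {t : Nat.Primes // (t : ℕ) ≠ p} => pCore (t.1 : ℕ) ↥A) ⟨s, hs⟩))
  obtain ⟨f, hf, rfl⟩ := hy
  have key : (pResidual p ↥(generalizedFittingSubgroup ↥A)).map (generalizedFittingSubgroup ↥A).subtype ≤ D := by
    rw [map_le_iff_le_comap, pResidual, closure_le]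
    intro v (hv : (orderOf v).Coprime p)
    show (v : ↥A) ∈ D
    have h1 : (QuotientGroup.mk' D (v : ↥A)) ∈ (pCore p ↥A).map (QuotientGroup.mk' D) := by
      have h0 := mem_map_of_mem (QuotientGroup.mk' D) (hF v.2)
      rw [Subgroup.map_sup, QuotientGroup.map_mk'_self, bot_sup_eq] at h0
      exact h0
    obtain ⟨k, hk⟩ := IsPGroup.iff_orderOf.1 ((FittingCores.pCore_isPGroup p).map (QuotientGroup.mk' D)) ⟨_, h1⟩
    rw [orderOf_mk] at hk
    have h2 : orderOf (QuotientGroup.mk' D (v : ↥A)) ∣ orderOf v := by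
      rw [← orderOf_coe]; exact orderOf_map_dvd _ _
    have h3 : orderOf (QuotientGroup.mk' D (v : ↥A)) = 1 :=
      Nat.eq_one_of_dvd_coprimes (hv.pow_right k) h2 (dvd_of_eq hk)
    rwa [orderOf_eq_one_iff, QuotientGroup.mk'_apply, QuotientGroup.eq_one_iff] at h3
  exact (mem_centralizer_singleton_iff.1 (hDC (key ⟨f, hf, rfl⟩))).symm

end Cfsg.Agent.BenderSubnormal
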