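import Cfsg.Agent.Lib.Components.Basic

/-!
Central extensions of non-abelian simple groups.
-/

set_option autoImplicit false
set_option linter.style.haveILetI false

namespace Cfsg.Agent.Components

open Subgroup
open scoped commutatorElement

variable {G : Type*} [Group G]

theorem commutator_sup_center_eq_top (hs : IsSimpleGroup (G ⧸ center G))
    (hna : ¬ IsMulCommutative (G ⧸ center G)) : commutator G ⊔ center G = ⊤ := by
  haveI := hs
  rcases (Normal.map (inferInstance : (commutator G).Normal) (QuotientGroup.mk' (center G))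
    (QuotientGroup.mk'_surjective _)).eq_bot_or_eq_top with e | e
  · exfalso
    apply hna
    rwa [commutator_def, Subgroup.map_commutator,
      map_top_of_surjective _ (QuotientGroup.mk'_surjective _), ← commutator_def,
      commutator_eq_bot_iff] at e
  · have := congrArg (comap (QuotientGroup.mk' (center G))) e
    rwa [comap_map_eq, QuotientGroup.ker_mk', comap_top] at this

theorem commutator_quasisimple (hs : IsSimpleGroup (G ⧸ center G))
    (hna : ¬ IsMulCommutative (G ⧸ center G)) : IsQuasisimple ↥(commutator G) := by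
  have htop := commutator_sup_center_eq_top hs hna
  haveI := hs
  have hperf : ⁅commutator G, commutator G⁆ = commutator G := by
    refine le_antisymm (commutator_le_self _) ?_
    calc commutator G = ⁅(⊤ : Subgroup G), ⊤⁆ := commutator_def G
      _ ≤ ⁅commutator G, commutator G⁆ := by
        refine commutator_le.2 fun x hx y hy => ?_
        rw [← htop] at hx hy
        obtain ⟨a, ha, z, hz, rfl⟩ := mem_sup_of_normal_left.1 hx
        obtain ⟨b, hb, w, hw, rfl⟩ := mem_sup_of_normal_left.1 hy
        have : ⁅a * z, b * w⁆ = ⁅a, b⁆ := by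
          have hzw : ∀ g : G, g * z = z * g := mem_center_iff.1 hz
          have hww : ∀ g : G, g * w = w * g := mem_center_iff.1 hw
          have h1 : ⁅a * z, b * w⁆ = a * (z * (b * w) * z⁻¹) * a⁻¹ * (b * w)⁻¹ := by
            rw [commutatorElement_def]; group
          rw [h1, ← hzw, mul_assoc (b * w), mul_inv_cancel, mul_one, commutatorElement_def,
            mul_inv_rev]
          calc a * (b * w) * a⁻¹ * (w⁻¹ * b⁻¹) = a * b * (w * a⁻¹) * w⁻¹ * b⁻¹ := by group
            _ = a * b * a⁻¹ * b⁻¹ := by rw [← hww a⁻¹]; group
        rw [this]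
        exact commutator_mem_commutator ha hb
  refine ⟨Subgroup.isPerfect_iff.2 hperf, ?_⟩
  let q : ↥(commutator G) →* G ⧸ center G :=
    (QuotientGroup.mk' (center G)).comp (commutator G).subtype
  have hq : Function.Surjective q := by
    intro x
    obtain ⟨g, rfl⟩ := QuotientGroup.mk'_surjective _ x
    obtain ⟨a, ha, z, hz, rfl⟩ := mem_sup_of_normal_left.1 (htop ▸ mem_top g : g ∈ commutator G ⊔ center G)
    refine ⟨⟨a, ha⟩, ?_⟩
    refine QuotientGroup.eq.2 ?_
    show a⁻¹ * (a * z) ∈ center G
    rwa [inv_mul_cancel_left]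
  have hk : q.ker = center ↥(commutator G) := by
    ext x
    rw [MonoidHom.mem_ker]
    refine ⟨fun h => ?_, fun h => ?_⟩
    · have hx : (x : G) ∈ center G := (QuotientGroup.eq_one_iff _).1 h
      exact mem_center_iff.2 fun g => Subtype.ext (mem_center_iff.1 hx g)
    · refine (QuotientGroup.eq_one_iff _).2 ?_
      show (x : G) ∈ center G
      rw [mem_center_iff]
      intro g
      obtain ⟨a, ha, z, hz, rfl⟩ :=
        mem_sup_of_normal_left.1 (htop ▸ mem_top g : g ∈ commutator G ⊔ center G)
      have e1 : a * (x : G) = x * a := congrArg Subtype.val (mem_center_iff.1 h ⟨a, ha⟩)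
      have e2 : (x : G) * z = z * x := mem_center_iff.1 hz x
      rw [mul_assoc, ← e2, ← mul_assoc, e1, mul_assoc]
  let e : ↥(commutator G) ⧸ center ↥(commutator G) ≃* G ⧸ center G :=
    (QuotientGroup.quotientMulEquivOfEq hk.symm).trans
      (QuotientGroup.quotientKerEquivOfSurjective q hq)
  haveI : Nontrivial (↥(commutator G) ⧸ center ↥(commutator G)) :=
    e.toEquiv.nontrivial_congr.2 inferInstance
  exact IsSimpleGroup.isSimpleGroup_of_surjective e.symm.toMonoidHom e.symm.surjective

end Cfsg.Agent.Components
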