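import Cfsg.Agent.Lib.Components.BpPCIn
import Cfsg.Agent.Lib.Techniques.PConstrained
import Cfsg.Prelude.Def_ClassificationStages

/-! Images of subgroups of `H` in `H / O_{p'}(H)`, with no nested subtypes. -/

set_option autoImplicit false
set_option linter.style.haveILetI false
set_option linter.unusedSectionVars false

namespace Cfsg.Agent.PTerm

open Subgroup Cfsg.Agent.Components
open Cfsg.Agent.BpBalance (PCIn)
open scoped Pointwise commutatorElement

universe u

variable {X : Type u} [Group X] [Finite X] {p : ℕ} [Fact p.Prime]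

/-- `H / O_{p'}(H)`. -/
abbrev Qu (p : ℕ) (H : Subgroup X) : Type u := ↥H ⧸ pPrimeCore p ↥H

/-- The core of `H` as a subgroup of the ambient group. -/
def cor (p : ℕ) (H : Subgroup X) : Subgroup X := (pPrimeCore p ↥H).map H.subtype

/-- The image of `A ⊓ H` modulo the core of `H`. -/
def img (p : ℕ) (H A : Subgroup X) : Subgroup (Qu p H) :=
  (A.subgroupOf H).map (QuotientGroup.mk' (pPrimeCore p ↥H))

/-- The image of an element. -/
def cl (p : ℕ) (H : Subgroup X) (h : X) (hh : h ∈ H) : Qu p H := QuotientGroup.mk' _ (⟨h, hh⟩ : H)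

/-- The order of the quotient of `K` by its core. -/
noncomputable def sz (p : ℕ) (K : Subgroup X) : ℕ := Nat.card (↥K ⧸ pPrimeCore p ↥K)

theorem isPComponentOf_iff {K H : Subgroup X} : IsPComponentOf p K H ↔ PCIn p K H := by
  refine ⟨fun h => ?_, fun h => ⟨h.le, h.toComp⟩⟩
  have := BpBalance.pcin_of_comp h.2
  rwa [map_subgroupOf_eq_of_le h.1] at this

variable {H : Subgroup X}

theorem cor_le : cor p H ≤ H := map_subtype_le _

theorem cor_coprime : (Nat.card (cor p H)).Coprime p := by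
  rw [cor, card_map_of_injective H.subtype_injective]
  exact FittingCores.pPrimeCore_coprime p

theorem cor_normal : H ≤ normalizer (cor p H : Set X) :=
  (normal_subgroupOf_iff_le_normalizer cor_le).1
    (by rw [cor, subgroupOf, comap_map_eq_self_of_injective H.subtype_injective]; infer_instance)

theorem le_cor {N : Subgroup X} (hN : N ≤ H) (hn : H ≤ normalizer (N : Set X))
    (hc : (Nat.card N).Coprime p) : N ≤ cor p H := by
  rw [← map_subgroupOf_eq_of_le hN]
  refine map_mono (FittingCores.le_pPrimeCore ((normal_subgroupOf_iff_le_normalizer hN).2 hn) ?_)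
  rwa [Nat.card_congr (subgroupOfEquivOfLe hN).toEquiv]

theorem cl_one : cl p H 1 (one_mem H) = 1 := map_one _

theorem cl_mul {a b : X} (ha : a ∈ H) (hb : b ∈ H) :
    cl p H (a * b) (mul_mem ha hb) = cl p H a ha * cl p H b hb :=
  map_mul (QuotientGroup.mk' _) (⟨a, ha⟩ : H) ⟨b, hb⟩

theorem cl_inv {a : X} (ha : a ∈ H) : cl p H a⁻¹ (inv_mem ha) = (cl p H a ha)⁻¹ :=
  map_inv (QuotientGroup.mk' _) (⟨a, ha⟩ : H)

theorem cl_pow {a : X} (ha : a ∈ H) (i : ℕ) : cl p H (a ^ i) (pow_mem ha i) = cl p H a ha ^ i :=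
  map_pow (QuotientGroup.mk' _) (⟨a, ha⟩ : H) i

theorem cl_eq_one {a : X} (ha : a ∈ H) : cl p H a ha = 1 ↔ a ∈ cor p H := by
  refine (QuotientGroup.eq_one_iff _).trans ⟨fun h => ⟨_, h, rfl⟩, ?_⟩
  rintro ⟨b, hb, hba⟩
  have e : b = (⟨a, ha⟩ : H) := Subtype.ext hba
  exact e ▸ hb

theorem cl_surj (q : Qu p H) : ∃ (a : X) (ha : a ∈ H), cl p H a ha = q := by
  obtain ⟨⟨a, ha⟩, rfl⟩ := QuotientGroup.mk'_surjective _ q
  exact ⟨a, ha, rfl⟩

theorem mem_img {A : Subgroup X} {q : Qu p H} :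
    q ∈ img p H A ↔ ∃ a ∈ A, ∃ ha : a ∈ H, cl p H a ha = q := by
  constructor
  · rintro ⟨⟨a, ha⟩, haA, rfl⟩
    exact ⟨a, haA, ha, rfl⟩
  · rintro ⟨a, haA, ha, rfl⟩
    exact ⟨⟨a, ha⟩, haA, rfl⟩

theorem cl_mem_img {A : Subgroup X} {a : X} (ha : a ∈ H) (haA : a ∈ A) : cl p H a ha ∈ img p H A :=
  mem_img.2 ⟨a, haA, ha, rfl⟩

theorem cl_mem_img_iff {A : Subgroup X} (hA : A ≤ H) {a : X} (ha : a ∈ H) :
    cl p H a ha ∈ img p H A ↔ a ∈ A ⊔ cor p H := by
  constructor
  · intro h
    obtain ⟨b, hb, hbH, e⟩ := mem_img.1 h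
    have h1 : cl p H (b⁻¹ * a) (mul_mem (inv_mem hbH) ha) = 1 := by
      rw [cl_mul (inv_mem hbH) ha, cl_inv hbH, e, inv_mul_cancel]
    have := mul_mem (mem_sup_left hb : b ∈ A ⊔ cor p H) (mem_sup_right ((cl_eq_one _).1 h1))
    rwa [mul_inv_cancel_left] at this
  · intro h
    obtain ⟨b, hb, o, ho, rfl⟩ := (mem_sup_of_le_normalizer_right (hA.trans cor_normal)).1 h
    rw [cl_mul (hA hb) (cor_le ho), (cl_eq_one (cor_le ho)).2 ho, mul_one]
    exact cl_mem_img _ hb
where
  mem_sup_of_le_normalizer_right {A B : Subgroup X} {x : X} (h : A ≤ normalizer (B : Set X)) :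
      x ∈ A ⊔ B ↔ ∃ a ∈ A, ∃ b ∈ B, a * b = x := by
    rw [← SetLike.mem_coe, Subgroup.coe_mul_of_left_le_normalizer_right _ _ h]
    rfl

theorem img_mono {A B : Subgroup X} (h : A ≤ B) : img p H A ≤ img p H B :=
  map_mono (comap_mono h)

theorem le_sup_of_img_le {A B : Subgroup X} (hA : A ≤ H) (hB : B ≤ H) (h : img p H A ≤ img p H B) :
    A ≤ B ⊔ cor p H := fun a ha =>
  (cl_mem_img_iff hB (hA ha)).1 (h (cl_mem_img _ ha))

theorem img_comm_iff {A B : Subgroup X} (hA : A ≤ H) (hB : B ≤ H) :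
    ⁅img p H A, img p H B⁆ = ⊥ ↔ ⁅A, B⁆ ≤ cor p H := by
  rw [img, img, ← map_commutator, Subgroup.map_eq_bot_iff, QuotientGroup.ker_mk', cor,
    ← map_le_map_iff_of_injective H.subtype_injective, map_commutator, map_subgroupOf_eq_of_le hA,
    map_subgroupOf_eq_of_le hB]

theorem img_conj {A : Subgroup X} {h : X} (hh : h ∈ H) :
    img p H (A.map (MulAut.conj h).toMonoidHom) =
      (img p H A).map (MulAut.conj (cl p H h hh)).toMonoidHom := by
  ext q
  rw [mem_map_conj, mem_img, mem_img]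
  constructor
  · rintro ⟨b, hb, hbH, rfl⟩
    refine ⟨h⁻¹ * b * h, mem_map_conj.1 hb, mul_mem (mul_mem (inv_mem hh) hbH) hh, ?_⟩
    rw [cl_mul (mul_mem (inv_mem hh) hbH) hh, cl_mul (inv_mem hh) hbH, cl_inv hh]
  · rintro ⟨a, ha, haH, e⟩
    refine ⟨h * a * h⁻¹, ⟨a, ha, rfl⟩, mul_mem (mul_mem hh haH) (inv_mem hh), ?_⟩
    rw [cl_mul (mul_mem hh haH) (inv_mem hh), cl_mul hh haH, cl_inv hh, e]
    group

theorem img_zpowers {h : X} (hh : h ∈ H) : img p H (zpowers h) = zpowers (cl p H h hh) := by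
  have e : (zpowers h).subgroupOf H = zpowers (⟨h, hh⟩ : H) := by
    apply map_injective H.subtype_injective
    rw [map_subgroupOf_eq_of_le (zpowers_le.2 hh), MonoidHom.map_zpowers]
    rfl
  rw [img, e, MonoidHom.map_zpowers]
  rfl

/-- A `p`-element centralizing something modulo the core centralizes it modulo an element of the core. -/
theorem img_cent {y : X} (hy : y ∈ H) (hyp : IsPGroup p (zpowers y)) :
    img p H (centralizer ({y} : Set X)) = centralizer ({cl p H y hy} : Set (Qu p H)) := by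
  have e : (centralizer ({y} : Set X)).subgroupOf H =
      centralizer (((zpowers y).subgroupOf H : Subgroup H) : Set H) := by
    ext c
    rw [mem_subgroupOf, mem_centralizer_singleton_iff, mem_centralizer_iff]
    constructor
    · intro h g hg
      obtain ⟨k, hk⟩ := mem_zpowers_iff.1 (mem_subgroupOf.1 hg)
      apply Subtype.ext
      push_cast
      rw [← hk]
      exact ((show Commute (c : X) y from h).zpow_right k).eq.symm
    · intro h
      exact (congrArg Subtype.val (h ⟨y, hy⟩ (mem_zpowers y))).symm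
  rw [img, e, PConstr.map_centralizer_eq (p := p) _ (QuotientGroup.mk'_surjective _)
    (by rw [QuotientGroup.ker_mk']; exact FittingCores.pPrimeCore_coprime p)
    (U := (zpowers y).subgroupOf H) (hyp.comap_of_injective H.subtype H.subtype_injective),
    show ((zpowers y).subgroupOf H).map (QuotientGroup.mk' (pPrimeCore p ↥H)) = img p H (zpowers y) from rfl,
    img_zpowers hy,
    zpowers_eq_closure, centralizer_closure]

theorem isPGroup_zpowers {y : X} (hy : y ^ p = 1) : IsPGroup p (zpowers y) := fun g => by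
  refine ⟨1, Subtype.ext ?_⟩
  obtain ⟨k, hk⟩ := mem_zpowers_iff.1 g.2
  rw [pow_one, SubmonoidClass.coe_pow, ← hk, ← zpow_natCast, ← zpow_mul, mul_comm, zpow_mul,
    zpow_natCast, hy, one_zpow, coe_one]

/-! ### `p`-components and their images -/

theorem core_qu : pPrimeCore p (Qu p H) = ⊥ := pPrimeCore_quotient ↥H

theorem img_comp {J : Subgroup X} (h : PCIn p J H) : IsComponent (img p H J) := h.toComp.2.1

theorem comp_core_bot {Jb : Subgroup (Qu p H)} (h : Jb.IsSubnormal) : pPrimeCore p ↥Jb = ⊥ := by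
  rw [BpBalance.pPrimeCore_eq_subgroupOf h, core_qu, bot_subgroupOf]

theorem pcin_eq_of_img {J J' : Subgroup X} (h : PCIn p J H) (h' : PCIn p J' H)
    (e : img p H J = img p H J') : J = J' := by
  rw [← map_subgroupOf_eq_of_le h.le, ← map_subgroupOf_eq_of_le h'.le,
    pComponent_unique h.toComp h'.toComp e]

theorem exists_pcin {Jb : Subgroup (Qu p H)} (h : IsComponent Jb) :
    ∃ J, PCIn p J H ∧ img p H J = Jb := by
  obtain ⟨h1, h2⟩ := exists_pComponent Jb h
  refine ⟨_, BpBalance.pcin_of_comp h1, ?_⟩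
  rw [img, subgroupOf, comap_map_eq_self_of_injective H.subtype_injective, h2]

theorem pGen_map {G' : Type*} [Group G'] (f : G' →* X) (hf : Function.Injective f) (A : Subgroup G') :
    (pGen p A).map f = pGen p (A.map f) := by
  refine le_antisymm (map_pGen_le f A) ((closure_le _).2 ?_)
  rintro _ ⟨⟨a, ha, rfl⟩, k, hk⟩
  exact ⟨a, mem_pGen ha (k := k) (hf (by rw [map_pow, hk, map_one])), rfl⟩

theorem pGen_preimage {J : Subgroup X} (h : PCIn p J H) : pGen p (J ⊔ cor p H) = J := by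
  have h1 := congrArg (Subgroup.map H.subtype) (pComponent_eq_pGen h.toComp)
  rwa [comap_map_eq, QuotientGroup.ker_mk', pGen_map H.subtype H.subtype_injective, Subgroup.map_sup,
    map_subgroupOf_eq_of_le h.le, ← cor] at h1

theorem mem_normalizer_of_img {J : Subgroup X} (hJ : PCIn p J H) {h : X} (hh : h ∈ H)
    (hn : cl p H h hh ∈ normalizer (img p H J : Set (Qu p H))) : h ∈ normalizer (J : Set X) := by
  have key : ∀ a, ∀ ha : a ∈ H, cl p H a ha ∈ normalizer (img p H J : Set (Qu p H)) →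
      ∀ j ∈ J, a * j * a⁻¹ ∈ J := by
    intro a ha hn j hj
    have hle : (J ⊔ cor p H).map (MulAut.conj a).toMonoidHom ≤ J ⊔ cor p H := by
      rintro _ ⟨i, hi, rfl⟩
      have hiH : i ∈ H := sup_le hJ.le cor_le hi
      show a * i * a⁻¹ ∈ _
      refine (cl_mem_img_iff hJ.le (mul_mem (mul_mem ha hiH) (inv_mem ha))).1 ?_
      rw [cl_mul (mul_mem ha hiH) (inv_mem ha), cl_mul ha hiH, cl_inv ha]
      exact (mem_normalizer_iff.1 hn _).1 ((cl_mem_img_iff hJ.le hiH).2 hi)
    have h2 := (map_pGen_le (p := p) (MulAut.conj a).toMonoidHom (J ⊔ cor p H)).trans (pGen_mono hle)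
    rw [pGen_preimage hJ] at h2
    exact h2 ⟨j, hj, rfl⟩
  rw [mem_normalizer_iff]
  intro j
  refine ⟨key h hh hn j, fun hj => ?_⟩
  have := key h⁻¹ (inv_mem hh) (by rw [cl_inv hh]; exact inv_mem hn) _ hj
  simpa [mul_assoc] using this

theorem img_normalizer {J : Subgroup X} {h : X} (hh : h ∈ H) (hn : h ∈ normalizer (J : Set X)) :
    cl p H h hh ∈ normalizer (img p H J : Set (Qu p H)) := by
  rw [mem_normalizer_iff_map_conj_eq]
  exact (img_conj hh).symm.trans (congrArg (img p H) (mem_normalizer_iff_map_conj_eq.1 hn))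

/-- The natural homomorphism onto the image. -/
def toImg (H : Subgroup X) {M : Subgroup X} (hM : M ≤ H) : ↥M →* ↥(img p H M) :=
  ((QuotientGroup.mk' _).comp (inclusion hM)).codRestrict _ fun m => ⟨inclusion hM m, m.2, rfl⟩

theorem toImg_surj {M : Subgroup X} (hM : M ≤ H) : Function.Surjective (toImg (p := p) H hM) := by
  rintro ⟨_, ⟨m, hmH⟩, hm, rfl⟩
  exact ⟨⟨m, hm⟩, rfl⟩

theorem toImg_ker_le {M : Subgroup X} (hM : M ≤ H) : (toImg (p := p) H hM).ker ≤ pPrimeCore p ↥M := by
  refine FittingCores.le_pPrimeCore inferInstance ?_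
  refine (cor_coprime (p := p) (H := H)).coprime_dvd_left ?_
  rw [← card_map_of_injective M.subtype_injective]
  refine card_dvd_of_le ?_
  rintro _ ⟨m, hm, rfl⟩
  exact (cl_eq_one (hM m.2)).1 (congrArg Subtype.val hm)

theorem sz_le_img {M : Subgroup X} (hM : M ≤ H) : sz p M ≤ Nat.card ↥(img p H M) := by
  refine Nat.le_of_dvd Nat.card_pos ?_
  rw [show sz p M = (pPrimeCore p ↥M).index from rfl]
  refine (index_dvd_of_le (toImg_ker_le (p := p) (H := H) hM)).trans ?_
  rw [index_ker, MonoidHom.range_eq_top.2 (toImg_surj hM), card_top]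

theorem toImg_ker {M : Subgroup X} (hM : M ≤ H) (h : pPrimeCore p ↥(img p H M) = ⊥) :
    (toImg (p := p) H hM).ker = pPrimeCore p ↥M := by
  refine le_antisymm (toImg_ker_le hM) ?_
  · rw [← MonoidHom.comap_bot, ← map_le_iff_le_comap, ← h]
    exact FittingCores.le_pPrimeCore (Normal.map inferInstance _ (toImg_surj hM))
      ((FittingCores.pPrimeCore_coprime p).coprime_dvd_left (card_map_dvd _ _))

theorem imgEquiv {M : Subgroup X} (hM : M ≤ H) (h : pPrimeCore p ↥(img p H M) = ⊥) :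
    Nonempty ((↥M ⧸ pPrimeCore p ↥M) ≃* ↥(img p H M)) :=
  ⟨(QuotientGroup.quotientMulEquivOfEq (toImg_ker hM h).symm).trans
    (QuotientGroup.quotientKerEquivOfSurjective _ (toImg_surj hM))⟩

theorem pcin_imgEquiv {J : Subgroup X} (h : PCIn p J H) :
    Nonempty ((↥J ⧸ pPrimeCore p ↥J) ≃* ↥(img p H J)) :=
  imgEquiv h.le (comp_core_bot (img_comp h).1)

theorem sz_eq {J : Subgroup X} (h : PCIn p J H) : Nat.card ↥(img p H J) = sz p J := by
  obtain ⟨e⟩ := pcin_imgEquiv h
  exact (Nat.card_congr e.toEquiv).symm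

theorem pcin_img_nontrivial {J : Subgroup X} (h : PCIn p J H) : img p H J ≠ ⊥ :=
  component_ne_bot (img_comp h)

/-- The subgroup above a quasisimple subnormal subgroup of the image of `W`. -/
theorem lift {W : Subgroup X} (hWH : W ≤ H) {Mb : Subgroup (Qu p H)} (hle : Mb ≤ img p H W)
    (hs : (Mb.subgroupOf (img p H W)).IsSubnormal) (hq : IsQuasisimple ↥Mb)
    (hc : pPrimeCore p ↥Mb = ⊥) :
    let M := pGen p (W ⊓ (Mb.comap (QuotientGroup.mk' (pPrimeCore p ↥H))).map H.subtype)
    PCIn p M W ∧ img p H M = Mb ∧ Nonempty ((↥M ⧸ pPrimeCore p ↥M) ≃* ↥Mb) := by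
  intro M
  set M0 := W ⊓ (Mb.comap (QuotientGroup.mk' (pPrimeCore p ↥H))).map H.subtype with hM0
  have hM0W : M0 ≤ W := inf_le_left
  have hMW : M ≤ W := (pGen_le _).trans hM0W
  have hM0i : img p H M0 = Mb := by
    refine le_antisymm ?_ fun q hq => ?_
    · intro q hq
      obtain ⟨a, ha, haH, rfl⟩ := mem_img.1 hq
      obtain ⟨⟨b, hbH⟩, hb, e⟩ := (mem_inf.1 ha).2
      have e' : (⟨b, hbH⟩ : H) = ⟨a, haH⟩ := Subtype.ext e
      show QuotientGroup.mk' _ (⟨a, haH⟩ : H) ∈ Mb
      rw [← e']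
      exact hb
    · obtain ⟨a, ha, haH, rfl⟩ := mem_img.1 (hle hq)
      exact cl_mem_img haH (mem_inf.2 ⟨ha, ⟨⟨a, haH⟩, hq, rfl⟩⟩)
  obtain ⟨P⟩ := (inferInstance : Nonempty (Sylow p ↥M0))
  have hPM : (P : Subgroup ↥M0).map M0.subtype ≤ M :=
    isPGroup_le_pGen (P.isPGroup'.map _) (map_subtype_le _)
  -- the image of `M` is a normal subgroup of index prime to `p`
  have hMi : img p H M = Mb := by
    refine le_antisymm (hM0i ▸ img_mono (pGen_le _)) ?_
    set f := toImg (p := p) H (hM0W.trans hWH)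
    set N := (M.subgroupOf M0).map f with hN
    have hNn : N.Normal := Normal.map ((normal_subgroupOf_iff_le_normalizer (pGen_le M0)).2
      (le_normalizer.trans (normalizer_le_pGen M0))) f (toImg_surj _)
    have hNi : ¬ p ∣ N.index := fun h => P.not_dvd_index (h.trans ((index_map_dvd _ (toImg_surj _)).trans
      (index_dvd_of_le fun a ha => hPM (mem_map_of_mem _ ha))))
    have hq' : IsQuasisimple ↥(img p H M0) := by rw [hM0i]; exact hq
    haveI := hNn
    haveI : Group.IsPerfect ↥(img p H M0) := hq'.1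
    rcases quasisimple_normal hq' N with h | h
    · rw [← hM0i]
      intro q hq
      obtain ⟨⟨a, ha⟩, haM, e⟩ := h.ge (mem_top (⟨q, hq⟩ : ↥(img p H M0)))
      rw [← show (f ⟨a, ha⟩ : Qu p H) = q from congrArg Subtype.val e]
      exact cl_mem_img (hWH (hM0W ha)) haM
    · exfalso
      -- otherwise a central subgroup contains a Sylow subgroup
      obtain ⟨S⟩ := (inferInstance : Nonempty (Sylow p ↥(img p H M0)))
      have hcop : (Nat.card (pPrimeCore p ↥(img p H M0))).Coprime p := FittingCores.pPrimeCore_coprime p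
      haveI : N.Normal := hNn
      have hidx : ¬ p ∣ (center ↥(img p H M0)).index := fun h' => hNi (h'.trans (index_dvd_of_le h))
      have hSc : (S : Subgroup ↥(img p H M0)) ≤ center ↥(img p H M0) := by
        intro s hs
        obtain ⟨k, hk⟩ := S.isPGroup' ⟨s, hs⟩
        have h1 : orderOf (QuotientGroup.mk' (center ↥(img p H M0)) s) ∣ p ^ k :=
          (orderOf_map_dvd _ _).trans (orderOf_dvd_of_pow_eq_one (congrArg Subtype.val hk))
        exact (QuotientGroup.eq_one_iff s).1 (orderOf_eq_one_iff.1 (Nat.eq_one_of_dvd_coprimes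
          (((Fact.out : p.Prime).coprime_iff_not_dvd.2 hidx).pow_left k) h1 (orderOf_dvd_natCard _)))
      haveI : (S : Subgroup ↥(img p H M0)).Normal := ⟨fun x hx g => by
        rwa [mem_center_iff.1 (hSc hx) g, mul_inv_cancel_right]⟩
      obtain ⟨C, hC⟩ := Subgroup.exists_right_complement'_of_coprime
        (N := (S : Subgroup ↥(img p H M0))) S.card_coprime_index
      haveI : C.Normal := by
        rw [← normalizer_eq_top_iff, ← top_le_iff, ← hC.sup_eq_top]
        exact sup_le (hSc.trans ((center_le_centralizer _).trans (centralizer_le_normalizer _))) le_normalizer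
      rcases quasisimple_normal hq' C with hC1 | hC1
      · have hS1 : (S : Subgroup ↥(img p H M0)) = ⊥ := by
          have := hC.disjoint.eq_bot
          rwa [hC1, inf_top_eq] at this
        have htop : pPrimeCore p ↥(img p H M0) = ⊤ := top_le_iff.1 (FittingCores.le_pPrimeCore inferInstance (by
          rw [card_top, ← index_bot, ← hS1]
          exact ((Fact.out : p.Prime).coprime_iff_not_dvd.2 S.not_dvd_index).symm))
        rw [show pPrimeCore p ↥(img p H M0) = ⊥ by rw [hM0i]; exact hc] at htop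
        haveI := quasisimple_nontrivial hq'
        exact bot_ne_top htop
      · apply quasisimple_not_commutative hq'
        rw [← center_eq_top_iff, ← top_le_iff, ← hC.sup_eq_top]
        exact sup_le hSc hC1
  obtain ⟨e⟩ := imgEquiv (M := M) (hMW.trans hWH) (by rw [hMi]; exact hc)
  refine ⟨⟨hMW, ?_, (pGen_pGen M0).ge, ?_⟩, hMi, ⟨e.trans (MulEquiv.subgroupCongr hMi)⟩⟩
  · refine IsSubnormal.trans (K := M0.subgroupOf W) (comap_mono (pGen_le M0)) ?_ ?_
    · exact ((normal_subgroupOf_iff_le_normalizer (comap_mono (pGen_le M0))).2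
        ((comap_mono (le_normalizer.trans (normalizer_le_pGen M0))).trans (le_normalizer_comap _))).isSubnormal
    · let r : ↥W →* ↥(img p H W) := toImg H hWH
      have : M0.subgroupOf W = (Mb.subgroupOf (img p H W)).comap r := by
        ext w
        constructor
        · intro hw
          exact (hM0i.le (cl_mem_img (hWH w.2) hw) :)
        · intro hw
          exact mem_inf.2 ⟨w.2, ⟨⟨w, hWH w.2⟩, hw, rfl⟩⟩
      rw [this]
      exact hs.comap r
  · exact (quasisimple_congr (e.trans (MulEquiv.subgroupCongr hMi))).2 hq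

/-- The centralizer of the image of `K`. -/
def Dc (p : ℕ) (H K : Subgroup X) : Subgroup X :=
  ((centralizer ((img p H K : Subgroup (Qu p H)) : Set (Qu p H))).comap
    (QuotientGroup.mk' (pPrimeCore p ↥H))).map H.subtype

theorem centralizerOfPComponent_eq (x : X) (K : Subgroup X) :
    centralizerOfPComponent p x K = Dc p (centralizer ({x} : Set X)) K := rfl

theorem mem_Dc {K : Subgroup X} {c : X} :
    c ∈ Dc p H K ↔ ∃ hc : c ∈ H, cl p H c hc ∈ centralizer (img p H K : Set (Qu p H)) := by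
  constructor
  · rintro ⟨⟨b, hb⟩, h, rfl⟩
    exact ⟨hb, h⟩
  · rintro ⟨hc, h⟩
    exact ⟨⟨c, hc⟩, h, rfl⟩

theorem mem_Dc_iff_comm {K : Subgroup X} (hK : K ≤ H) {c : X} :
    c ∈ Dc p H K ↔ c ∈ H ∧ ∀ k ∈ K, c * k * c⁻¹ * k⁻¹ ∈ cor p H := by
  rw [mem_Dc]
  constructor
  · rintro ⟨hc, h⟩
    refine ⟨hc, fun k hk => (cl_eq_one (mul_mem (mul_mem (mul_mem hc (hK hk)) (inv_mem hc))
      (inv_mem (hK hk)))).1 ?_⟩
    rw [cl_mul (mul_mem (mul_mem hc (hK hk)) (inv_mem hc)) (inv_mem (hK hk)),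
      cl_mul (mul_mem hc (hK hk)) (inv_mem hc), cl_mul hc (hK hk), cl_inv hc, cl_inv (hK hk),
      ← mem_centralizer_iff.1 h _ (cl_mem_img (hK hk) hk)]
    group
  · rintro ⟨hc, h⟩
    refine ⟨hc, mem_centralizer_iff.2 fun q hq => ?_⟩
    obtain ⟨k, hk, hkH, rfl⟩ := mem_img.1 hq
    have := (cl_eq_one (mul_mem (mul_mem (mul_mem hc hkH) (inv_mem hc)) (inv_mem hkH))).2 (h k hk)
    rw [cl_mul (mul_mem (mul_mem hc hkH) (inv_mem hc)) (inv_mem hkH),
      cl_mul (mul_mem hc hkH) (inv_mem hc), cl_mul hc hkH, cl_inv hc, cl_inv hkH,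
      mul_inv_eq_one, mul_inv_eq_iff_eq_mul] at this
    exact this.symm

theorem Dc_le {K : Subgroup X} : Dc p H K ≤ H := map_subtype_le _

theorem Dc_le_normalizer {K : Subgroup X} (h : PCIn p K H) : Dc p H K ≤ normalizer (K : Set X) :=
  fun c hc => by
    obtain ⟨hcH, hcc⟩ := mem_Dc.1 hc
    exact mem_normalizer_of_img h hcH (centralizer_le_normalizer _ hcc)

/-- The `p`-component of `C_K(y)`, for `y` centralizing `K` modulo the core. -/
theorem piece {K : Subgroup X} (hK : PCIn p K H) {y : X} (hy : y ∈ Dc p H K) (hyp : y ^ p = 1) :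
    PCIn p (pGen p (K ⊓ centralizer ({y} : Set X))) (H ⊓ centralizer ({y} : Set X)) ∧
    img p H (pGen p (K ⊓ centralizer ({y} : Set X))) = img p H K ∧
    Nonempty ((↥(pGen p (K ⊓ centralizer ({y} : Set X))) ⧸
      pPrimeCore p ↥(pGen p (K ⊓ centralizer ({y} : Set X)))) ≃* (↥K ⧸ pPrimeCore p ↥K)) := by
  set W := H ⊓ centralizer ({y} : Set X) with hW
  obtain ⟨hyH, hyc⟩ := mem_Dc.1 hy
  have hle : img p H K ≤ img p H W := by
    have : img p H W = img p H (centralizer ({y} : Set X)) := by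
      rw [img, img, hW, subgroupOf, comap_inf, comap_subtype, comap_subtype, subgroupOf_self, top_inf_eq]
    rw [this, img_cent hyH (isPGroup_zpowers hyp)]
    intro q hq
    rw [mem_centralizer_singleton_iff]
    exact mem_centralizer_iff.1 hyc q hq
  obtain ⟨h1, h2, ⟨e⟩⟩ := lift (p := p) (H := H) inf_le_left hle (img_comp hK).1.subgroupOf
    (img_comp hK).2 (comp_core_bot (img_comp hK).1)
  set M0 := W ⊓ ((img p H K).comap (QuotientGroup.mk' (pPrimeCore p ↥H))).map H.subtype with hM0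
  have hM0le : M0 ≤ K ⊔ cor p H := by
    rintro a ⟨-, ⟨b, hbH⟩, hb, rfl⟩
    exact (cl_mem_img_iff hK.le hbH).1 hb
  have heq : pGen p (K ⊓ centralizer ({y} : Set X)) = pGen p M0 := by
    refine le_antisymm (pGen_mono ?_) ((closure_le _).2 ?_)
    · intro k hk
      exact mem_inf.2 ⟨mem_inf.2 ⟨hK.le hk.1, hk.2⟩, ⟨⟨k, hK.le hk.1⟩, cl_mem_img _ hk.1, rfl⟩⟩
    · rintro a ⟨ha, k, hk⟩
      refine mem_pGen (mem_inf.2 ⟨?_, (mem_inf.1 (mem_inf.1 ha).1).2⟩) hk
      exact pGen_preimage hK ▸ mem_pGen (hM0le ha) hk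
  rw [heq]
  exact ⟨h1, h2, ⟨e.trans (pcin_imgEquiv hK).some.symm⟩⟩

/-- The `p`-layer of `C_K(y)`. -/
theorem pLayerOf_piece {K : Subgroup X} (hK : PCIn p K H) {y : X} (hy : y ∈ Dc p H K) (hyp : y ^ p = 1) :
    pLayerOf p (K ⊓ centralizer ({y} : Set X)) = pGen p (K ⊓ centralizer ({y} : Set X)) := by
  set A := K ⊓ centralizer ({y} : Set X)
  refine le_antisymm ?_ ?_
  · rw [pLayerOf, map_le_iff_le_comap, pLayer]
    refine sSup_le fun M hM => map_le_iff_le_comap.1 ?_
    rw [← pComponent_pGen hM, pGen_map A.subtype A.subtype_injective]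
    exact pGen_mono (map_subtype_le _)
  · have h := (piece hK hy hyp).1.mono (pGen_le A) (inf_le_inf hK.le le_rfl)
    conv_lhs => rw [← map_subgroupOf_eq_of_le h.le]
    exact map_mono (le_sSup h.toComp)

end Cfsg.Agent.PTerm
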