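import Cfsg.Agent.Lib.Components.PTerminalBasic
import Mathlib.GroupTheory.Transfer

/-! Sylow subgroups of quasisimple groups without `p'`-core, and of subnormal subgroups. -/

set_option autoImplicit false
set_option linter.style.haveILetI false
set_option linter.unusedSectionVars false

namespace Cfsg.Agent.PTerm

open Subgroup Cfsg.Agent.Components
open Cfsg.Agent.BpBalance (PCIn)
open scoped Pointwise commutatorElement IsMulCommutative

universe u

variable {G : Type u} [Group G] [Finite G] {p : ℕ} [Fact p.Prime]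

/-- In a perfect group an element of an abelian Sylow subgroup with no other conjugate in it is trivial. -/
theorem eq_one_of_transfer [Group.IsPerfect G] {P : Subgroup G} [IsMulCommutative ↥P]
    (hP : IsPGroup p P) (hi : ¬ p ∣ P.index) {g : G} (hg : g ∈ P)
    (hfix : ∀ (k : ℕ) (g₀ : G), g₀⁻¹ * g ^ k * g₀ ∈ P → g₀⁻¹ * g ^ k * g₀ = g ^ k) : g = 1 := by
  haveI : P.FiniteIndex := inferInstance
  have h1 := MonoidHom.transfer_eq_pow (MonoidHom.id ↥P) g hfix
  have h0 : (MonoidHom.id ↥P).transfer g = 1 :=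
    Abelianization.commutator_subset_ker (G := G) _ (by rw [Group.IsPerfect.commutator_eq_top]; exact mem_top g)
  rw [h0] at h1
  have h2 : g ^ P.index = 1 := (congrArg Subtype.val h1).symm
  obtain ⟨k, hk⟩ := hP ⟨g, hg⟩
  rw [← orderOf_eq_one_iff]
  exact Nat.eq_one_of_dvd_coprimes (((Fact.out : p.Prime).coprime_iff_not_dvd.2 hi).pow_left k)
    (orderOf_dvd_of_pow_eq_one (congrArg Subtype.val hk)) (orderOf_dvd_of_pow_eq_one h2)

/-- An abelian Sylow subgroup of a perfect group meets the centre trivially. -/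
theorem inf_center_eq_bot [Group.IsPerfect G] {P : Subgroup G} (hab : P ≤ centralizer (P : Set G))
    (hP : IsPGroup p P) (hi : ¬ p ∣ P.index) : P ⊓ center G = ⊥ := by
  haveI : IsMulCommutative ↥P := le_centralizer_iff_isMulCommutative.1 hab
  refine (Subgroup.eq_bot_iff_forall _).2 fun g hg => eq_one_of_transfer hP hi hg.1 fun k g₀ _ => ?_
  rw [mul_assoc, ← mem_center_iff.1 ((center G).pow_mem hg.2 k) g₀, inv_mul_cancel_left]

/-- A Sylow subgroup of a quasisimple group without `p'`-core is not central. -/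
theorem sylow_not_central (hq : IsQuasisimple G) (hc : pPrimeCore p G = ⊥) {P : Subgroup G}
    (hP : IsPGroup p P) (hi : ¬ p ∣ P.index) : ¬ P ≤ center G := by
  intro hle
  haveI : Group.IsPerfect G := hq.1
  have h1 := inf_center_eq_bot (hle.trans (center_le_centralizer _)) hP hi
  rw [inf_eq_left.2 hle] at h1
  rw [h1, index_bot] at hi
  have htop : pPrimeCore p G = ⊤ := top_le_iff.1 (FittingCores.le_pPrimeCore inferInstance (by
    rw [card_top]; exact ((Fact.out : p.Prime).coprime_iff_not_dvd.2 hi).symm))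
  haveI := quasisimple_nontrivial hq
  exact bot_ne_top (hc.symm.trans htop)

/-- A Sylow `2`-subgroup of a quasisimple group has at least four elements modulo the centre. -/
theorem four_le_sylow_two (hq : IsQuasisimple G) (hc : pPrimeCore p G = ⊥) (hp : p = 2) {P : Subgroup G}
    (hP : IsPGroup p P) (hi : ¬ p ∣ P.index) : 4 ≤ (center G).relIndex P := by
  haveI : Group.IsPerfect G := hq.1
  have hne : (center G).relIndex P ≠ 1 := fun h => sylow_not_central hq hc hP hi (relIndex_eq_one.1 h)
  obtain ⟨k, hk⟩ := hP.exists_card_eq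
  have hdvd : (center G).relIndex P ∣ p ^ k := hk ▸ relIndex_dvd_card _ _
  obtain ⟨j, -, hj⟩ := (Nat.dvd_prime_pow (Fact.out : p.Prime)).1 hdvd
  subst hp
  by_contra hlt
  have hj1 : j = 1 := by
    rcases j with - | _ | j
    · exact absurd hj hne
    · rfl
    · exact absurd (hj ▸ (show 4 ≤ 2 ^ (j + 2) by
        rw [pow_add]; nlinarith [Nat.one_le_two_pow (n := j)])) hlt
  rw [hj1, pow_one] at hj
  have hab : P ≤ centralizer (P : Set G) := by
    set N := (center G).subgroupOf P
    haveI : N.Normal := by infer_instance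
    haveI : IsCyclic (↥P ⧸ N) := isCyclic_of_prime_card (p := 2) (by
      rw [← index_eq_card]; exact hj)
    intro a ha
    rw [mem_centralizer_iff]
    intro b hb
    exact congrArg Subtype.val (commutative_of_cyclic_center_quotient (QuotientGroup.mk' N) (fun z hz => by
      rw [QuotientGroup.ker_mk'] at hz
      exact mem_center_iff.2 fun y => Subtype.ext (mem_center_iff.1 (show (z : G) ∈ center G from hz) y))
      (⟨b, hb⟩ : P) ⟨a, ha⟩)
  have hcard : Nat.card P = 2 := by
    have h1 := inf_center_eq_bot hab hP hi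
    rw [← inf_relIndex_left, h1, relIndex_bot_left] at hj
    exact hj
  haveI : IsMulCommutative ↥P := le_centralizer_iff_isMulCommutative.1 hab
  obtain ⟨g, hg, hg1⟩ : ∃ g ∈ P, g ≠ (1 : G) := by
    by_contra hcon
    push Not at hcon
    rw [(Subgroup.eq_bot_iff_forall P).2 hcon, card_bot] at hcard
    omega
  refine hg1 (eq_one_of_transfer hP hi hg fun k g₀ hmem => ?_)
  by_contra hne'
  have hk1 : g ^ k ≠ 1 := fun h => hne' (by rw [h]; group)
  have hk2 : g₀⁻¹ * g ^ k * g₀ ≠ 1 := fun h => hk1 (by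
    calc g ^ k = g₀ * (g₀⁻¹ * g ^ k * g₀) * g₀⁻¹ := by group
      _ = 1 := by rw [h]; group)
  obtain ⟨e⟩ : Nonempty (↥P ≃ Fin 2) := ⟨Finite.equivFinOfCardEq hcard⟩
  have key : ∀ a b : ↥P, a ≠ 1 → b ≠ 1 → a = b := fun a b ha hb => by
    apply e.injective
    have h3 := e.injective.ne ha
    have h4 := e.injective.ne hb
    revert h3 h4
    generalize e a = u
    generalize e b = v
    generalize e 1 = w
    revert u v w
    decide
  exact hne' (congrArg Subtype.val (key ⟨_, hmem⟩ ⟨_, pow_mem hg k⟩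
    (fun h => hk2 (congrArg Subtype.val h)) fun h => hk1 (congrArg Subtype.val h)))

theorem relIndex_prime_dvd {P A : Subgroup G} (hP : IsPGroup p P) (h : ¬ P ≤ A) : p ≤ A.relIndex P := by
  obtain ⟨k, hk⟩ := hP.exists_card_eq
  obtain ⟨j, -, hj⟩ := (Nat.dvd_prime_pow (Fact.out : p.Prime)).1 (hk ▸ relIndex_dvd_card A P)
  rcases j with - | j
  · exact absurd (relIndex_eq_one.1 hj) h
  · rw [hj]
    exact Nat.le_self_pow (Nat.succ_ne_zero j) p

/-! ### Sylow subgroups of subnormal subgroups -/

variable {X : Type u} [Group X] [Finite X]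

/-- `S` is a Sylow `p`-subgroup of `H`. -/
structure IsSyl (p : ℕ) (S H : Subgroup X) : Prop where
  pgroup : IsPGroup p S
  le : S ≤ H
  index : ¬ p ∣ S.relIndex H

theorem exists_syl {R H : Subgroup X} (hR : IsPGroup p R) (hle : R ≤ H) : ∃ S, IsSyl p S H ∧ R ≤ S := by
  obtain ⟨T, hT⟩ := (hR.comap_of_injective H.subtype H.subtype_injective :
    IsPGroup p (R.subgroupOf H)).exists_le_sylow
  refine ⟨(T : Subgroup ↥H).map H.subtype, ⟨T.isPGroup'.map _, map_subtype_le _, ?_⟩, ?_⟩
  · rw [relIndex, subgroupOf, comap_map_eq_self_of_injective H.subtype_injective]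
    exact T.not_dvd_index
  · rw [← map_subgroupOf_eq_of_le hle]
    exact map_mono hT

theorem sylow_inf_subnormal {S : Subgroup G} (hi : ¬ p ∣ S.index) {M : Subgroup G} (hM : M.IsSubnormal) :
    ¬ p ∣ S.relIndex M := by
  induction hM with
  | top => rwa [relIndex_top_right]
  | step A B hAB _ hn ih =>
    intro hd
    haveI := hn
    refine ih (hd.trans ?_)
    rw [← relIndex_subgroupOf (H := S) hAB, PBasic.relIndex_eq_relIndex_sup]
    exact relIndex_dvd_index_of_le le_sup_right

theorem IsSyl.inf_subnormal {S H M : Subgroup X} (hS : IsSyl p S H) (hle : M ≤ H)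
    (hM : (M.subgroupOf H).IsSubnormal) : IsSyl p (S ⊓ M) M := by
  refine ⟨hS.pgroup.to_le inf_le_left, inf_le_right, ?_⟩
  rw [inf_relIndex_right, ← relIndex_subgroupOf (H := S) hle]
  exact sylow_inf_subnormal hS.index hM

theorem IsSyl.card_le {S H T : Subgroup X} (hS : IsSyl p S H) (hT : IsPGroup p T) (hle : T ≤ H) :
    Nat.card T ≤ Nat.card S := by
  obtain ⟨S', hS', hTS'⟩ := exists_syl hT hle
  refine (card_le_of_le hTS').trans (le_of_eq ?_)
  obtain ⟨a, ha⟩ := hS'.pgroup.exists_card_eq
  obtain ⟨b, hb⟩ := hS.pgroup.exists_card_eq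
  have h1 := PBasic.card_mul_relIndex hS'.le
  have h2 := PBasic.card_mul_relIndex hS.le
  rw [ha, hb]
  have key : ∀ (a i : ℕ), ¬ p ∣ i → p ^ a * i = Nat.card H → (Nat.card H).factorization p = a := by
    intro a i hi e
    rw [← e, Nat.factorization_mul (pow_ne_zero _ (Fact.out : p.Prime).ne_zero)
      (fun h0 => hi (by rw [h0]; exact dvd_zero p)), Finsupp.add_apply, (Fact.out : p.Prime).factorization_pow,
      Finsupp.single_eq_same, Nat.factorization_eq_zero_of_not_dvd hi, add_zero]
  rw [← key a _ hS'.index (ha ▸ h1), key b _ hS.index (hb ▸ h2)]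
where
  card_le_of_le {A B : Subgroup X} (h : A ≤ B) : Nat.card A ≤ Nat.card B :=
    Nat.le_of_dvd Nat.card_pos (card_dvd_of_le h)

/-- A `p`-group meets the core trivially. -/
theorem pgroup_inf_cor {H P : Subgroup X} (hP : IsPGroup p P) {a : X} (ha : a ∈ P) (hc : a ∈ cor p H) :
    a = 1 :=
  Cfsg.Agent.PBasic.eq_one_of_isPGroup_of_coprime hP ha
    (Cfsg.Agent.PBasic.coprime_orderOf_of_mem cor_coprime hc)

theorem IsSyl.img {S J H : Subgroup X} (hS : IsSyl p S J) (hJH : J ≤ H) :
    IsPGroup p ↥(img p H S) ∧ ¬ p ∣ (img p H S).relIndex (img p H J) := by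
  have hp : IsPGroup p ↥(S.subgroupOf H) := hS.pgroup.comap_of_injective H.subtype H.subtype_injective
  refine ⟨hp.map _, fun h => hS.index (h.trans ?_)⟩
  refine (index_dvd_of_le ?_).trans (index_map_dvd (f := toImg (p := p) H hJH) (S.subgroupOf J) (toImg_surj hJH))
  rintro _ ⟨m, hm, rfl⟩
  exact cl_mem_img (hJH m.2) hm

end Cfsg.Agent.PTerm
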