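import Cfsg.Agent.Lib.Components.PTerminalBasic

/-! Pumping a `p`-component of maximal order into the centralizer of another element. -/

set_option autoImplicit false
set_option linter.style.haveILetI false
set_option linter.unusedSectionVars false

namespace Cfsg.Agent.PTerm

open Subgroup Cfsg.Agent.Components
open Cfsg.Agent.BpBalance (PCIn)
open scoped Pointwise commutatorElement

universe u

/-- `a (x a x⁻¹) ⋯` with `p` factors when `x ^ p = 1`. -/
def psi {G : Type*} [Group G] (p : ℕ) (x a : G) : G := (a * x) ^ p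

section Orbit

variable {G : Type u} [Group G] [Finite G] {p : ℕ} [Fact p.Prime] {x : G} {J : Subgroup G}

theorem conj_mem_cent (hxp : x ^ p = 1) (hJ : IsComponent J) (hx : x ∉ normalizer (J : Set G))
    {j : ℕ} (h0 : 0 < j) (hj : j < p) {l : G} (hl : l ∈ J) :
    x ^ j * l * (x ^ j)⁻¹ ∈ centralizer (J : Set G) := by
  have hne : J.map (MulAut.conj (x ^ j)).toMonoidHom ≠ J := by
    intro he
    refine hx ?_
    obtain ⟨m, hm⟩ := exists_pow_eq_self_of_coprime (x := x) (n := j) (by
      rw [orderOf_eq_prime hxp fun h => hx (h ▸ one_mem _), Nat.coprime_comm]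
      exact ((Fact.out : p.Prime).coprime_iff_not_dvd).2 fun hd =>
        absurd (Nat.le_of_dvd h0 hd) (by omega))
    rw [← hm]
    refine pow_mem ?_ m
    exact mem_normalizer_fintype fun y hy => he.le ⟨y, hy, rfl⟩
  exact commutator_eq_bot_iff_le_centralizer.1 (components_commute (component_conj hJ (x ^ j)) hJ hne)
    ⟨l, hl, rfl⟩

theorem prod_split (hxp : x ^ p = 1) (hJ : IsComponent J) (hx : x ∉ normalizer (J : Set G)) {a : G}
    (ha : a ∈ J) : ∀ k, k < p → ∃ c ∈ centralizer (J : Set G), (a * x) ^ (k + 1) = a * c * x ^ (k + 1) := by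
  intro k
  induction k with
  | zero => exact fun _ => ⟨1, one_mem _, by simp⟩
  | succ k ih =>
    intro hk
    obtain ⟨c, hc, he⟩ := ih (by omega)
    refine ⟨c * (x ^ (k + 1) * a * (x ^ (k + 1))⁻¹),
      mul_mem hc (conj_mem_cent hxp hJ hx (by omega) hk ha), ?_⟩
    rw [pow_succ _ (k + 1), he, pow_succ x (k + 1)]
    group

theorem psi_eq (hxp : x ^ p = 1) (hJ : IsComponent J) (hx : x ∉ normalizer (J : Set G)) {a : G}
    (ha : a ∈ J) : ∃ c ∈ centralizer (J : Set G), psi p x a = a * c := by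
  have hp0 := (Fact.out : p.Prime).pos
  obtain ⟨c, hc, he⟩ := prod_split hxp hJ hx ha (p - 1) (by omega)
  rw [show p - 1 + 1 = p by omega, hxp, mul_one] at he
  exact ⟨c, hc, he⟩

theorem psi_comm (hxp : x ^ p = 1) (hJ : IsComponent J) (hx : x ∉ normalizer (J : Set G)) {a : G}
    (ha : a ∈ J) : psi p x a * x = x * psi p x a := by
  obtain ⟨c, hc, he⟩ := psi_eq hxp hJ hx ha
  rw [he]
  have h1 : a * c * a = a * (a * c) := by rw [mul_assoc, ← mem_centralizer_iff.1 hc a ha]
  have h2 : a * c * (a * x) = a * x * (a * c) := by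
    rw [← he, psi, ← pow_succ, pow_succ']
  rw [← mul_assoc, h1] at h2
  calc a * c * x = a⁻¹ * (a * (a * c) * x) := by group
    _ = a⁻¹ * (a * x * (a * c)) := by rw [h2]
    _ = x * (a * c) := by group

theorem psi_mul (hxp : x ^ p = 1) (hJ : IsComponent J) (hx : x ∉ normalizer (J : Set G)) {a b : G}
    (ha : a ∈ J) (hb : b ∈ J) : psi p x (a * b) = psi p x a * psi p x b := by
  let g : ℕ → G → G := fun k c => (c * x) ^ k * (x ^ k)⁻¹
  have hsucc : ∀ k c, g (k + 1) c = g k c * (x ^ k * c * (x ^ k)⁻¹) := fun k c => by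
    simp only [g, pow_succ]
    group
  have key : ∀ k i, k < p → i ≤ k → ∀ l ∈ J,
      g i b * (x ^ k * l * (x ^ k)⁻¹) = x ^ k * l * (x ^ k)⁻¹ * g i b := by
    intro k i hk
    induction i with
    | zero => intro _ l _; simp [g]
    | succ i ih =>
      intro hi l hl
      have hc := mem_centralizer_iff.1 (conj_mem_cent hxp hJ hx (show 0 < k - i by omega) (by omega) hl) b hb
      have h2 : x ^ i * b * (x ^ i)⁻¹ * (x ^ k * l * (x ^ k)⁻¹) =
          x ^ k * l * (x ^ k)⁻¹ * (x ^ i * b * (x ^ i)⁻¹) := by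
        rw [show x ^ k = x ^ i * x ^ (k - i) by rw [← pow_add]; congr 1; omega]
        calc _ = x ^ i * (b * (x ^ (k - i) * l * (x ^ (k - i))⁻¹)) * (x ^ i)⁻¹ := by group
          _ = _ := by rw [hc]; group
      rw [hsucc, mul_assoc, h2, ← mul_assoc, ih (by omega) l hl, mul_assoc]
  have hm : ∀ k, k ≤ p → g k (a * b) = g k a * g k b := by
    intro k
    induction k with
    | zero => intro _; simp [g]
    | succ k ih =>
      intro hk
      rw [hsucc, hsucc, hsucc, ih (by omega)]
      calc g k a * g k b * (x ^ k * (a * b) * (x ^ k)⁻¹)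
          = g k a * (g k b * (x ^ k * a * (x ^ k)⁻¹)) * (x ^ k * b * (x ^ k)⁻¹) := by group
        _ = _ := by rw [key k k (by omega) le_rfl a ha]; group
  have h := hm p le_rfl
  simpa [g, psi, hxp] using h

/-- The product of the conjugates of `J` under the powers of `x`. -/
def orb (p : ℕ) (x : G) (J : Subgroup G) : Subgroup G :=
  ⨆ i : Fin p, J.map (MulAut.conj (x ^ (i : ℕ))).toMonoidHom

theorem le_orb (hp : 0 < p) : J ≤ orb p x J := by
  intro a ha
  exact le_iSup (fun i : Fin p => J.map (MulAut.conj (x ^ (i : ℕ))).toMonoidHom) ⟨0, hp⟩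
    ⟨a, ha, show x ^ 0 * a * (x ^ 0)⁻¹ = a by simp⟩

theorem conj_mem_orb (hxp : x ^ p = 1) (k : ℕ) {a : G} (ha : a ∈ J) :
    x ^ k * a * (x ^ k)⁻¹ ∈ orb p x J := by
  have hp := (Fact.out : p.Prime).pos
  refine le_iSup (fun i : Fin p => J.map (MulAut.conj (x ^ (i : ℕ))).toMonoidHom) ⟨k % p, Nat.mod_lt _ hp⟩
    ⟨a, ha, ?_⟩
  have e : x ^ (k % p) = x ^ k := (pow_eq_pow_mod k hxp).symm
  show x ^ (k % p) * a * (x ^ (k % p))⁻¹ = _
  rw [e]

theorem psi_mem_orb (hxp : x ^ p = 1) {a : G} (ha : a ∈ J) : psi p x a ∈ orb p x J := by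
  have key : ∀ k, (a * x) ^ k * (x ^ k)⁻¹ ∈ orb p x J := by
    intro k
    induction k with
    | zero => simp
    | succ k ih =>
      rw [show (a * x) ^ (k + 1) * (x ^ (k + 1))⁻¹ =
        (a * x) ^ k * (x ^ k)⁻¹ * (x ^ k * a * (x ^ k)⁻¹) by simp only [pow_succ]; group]
      exact mul_mem ih (conj_mem_orb hxp k ha)
  simpa [psi, hxp] using key p

theorem orb_normalized (hxp : x ^ p = 1) : x ∈ normalizer (orb p x J : Set G) := by
  refine mem_normalizer_fintype fun y hy => ?_
  have : orb p x J ≤ (orb p x J).comap (MulAut.conj x).toMonoidHom := iSup_le fun i => by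
    rintro _ ⟨a, ha, rfl⟩
    show x * (x ^ (i : ℕ) * a * (x ^ (i : ℕ))⁻¹) * x⁻¹ ∈ orb p x J
    have := conj_mem_orb hxp ((i : ℕ) + 1) ha
    rw [pow_succ'] at this
    simpa [mul_assoc] using this
  exact this hy

/-- An element of the layer fixed by `x` is diagonal up to the centralizer of the orbit. -/
theorem orbit_parts (hxp : x ^ p = 1) (hJ : IsComponent J) (hx : x ∉ normalizer (J : Set G)) {e : G}
    (he : e ∈ layer G) (hex : e * x = x * e) :
    ∃ a ∈ J, ∃ z ∈ centralizer (orb p x J : Set G), psi p x a * z = e := by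
  have hEJ : layer G ≤ J ⊔ centralizer (J : Set G) := layer_le_iff.2 fun M hM => by
    rcases eq_or_ne M J with rfl | h
    · exact le_sup_left
    · exact (commutator_eq_bot_iff_le_centralizer.1 (components_commute hM hJ h)).trans le_sup_right
  obtain ⟨a, ha, b, hb, rfl⟩ := BpBalance.mem_sup_of_commute
    (by rw [commutator_comm]; exact commutator_eq_bot_iff_le_centralizer.2 le_rfl) (hEJ he)
  obtain ⟨c, hc, hψ⟩ := psi_eq hxp hJ hx ha
  refine ⟨a, ha, (psi p x a)⁻¹ * (a * b), ?_, by group⟩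
  set z := (psi p x a)⁻¹ * (a * b) with hz
  have hzJ : z ∈ centralizer (J : Set G) := by
    rw [hz, hψ, show (a * c)⁻¹ * (a * b) = c⁻¹ * b by group]
    exact mul_mem (inv_mem hc) hb
  have hzx : z * x = x * z := mem_centralizer_singleton_iff.1
    (mul_mem (inv_mem (mem_centralizer_singleton_iff.2 (psi_comm hxp hJ hx ha)))
      (mem_centralizer_singleton_iff.2 hex))
  have h2 : orb p x J ≤ centralizer ({z} : Set G) := iSup_le fun i => by
    rintro _ ⟨l, hl, rfl⟩
    show x ^ (i : ℕ) * l * (x ^ (i : ℕ))⁻¹ ∈ _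
    rw [mem_centralizer_singleton_iff]
    have hxi : Commute (x ^ (i : ℕ)) z := (Commute.pow_left (show Commute x z from hzx.symm) _)
    have hlz : Commute l z := mem_centralizer_iff.1 hzJ l hl
    exact ((hxi.mul_left hlz).mul_left hxi.inv_left).eq
  rw [mem_centralizer_iff]
  exact fun y hy => mem_centralizer_singleton_iff.1 (h2 hy)

/-- A `p`-component of `C(x)` in the layer is carried by one component or by one orbit of components. -/
theorem fixed_or_orbit (hxp : x ^ p = 1) {L : Subgroup G} (hL : PCIn p L (centralizer ({x} : Set G)))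
    (hLE : L ≤ layer G) (hJ : IsComponent J) (hne : ⁅L, J⁆ ≠ ⊥) :
    (x ∈ normalizer (J : Set G) ∧ L ≤ J) ∨
      (x ∉ normalizer (J : Set G) ∧ ∀ e ∈ L, ∃ a ∈ J, psi p x a = e) := by
  classical
  have hxz : centralizer ((zpowers x : Subgroup G) : Set G) = centralizer ({x} : Set G) := by
    rw [zpowers_eq_closure, centralizer_closure]
  have hsplit : ∀ A : Subgroup G, x ∈ normalizer (A : Set G) → L ≤ normalizer (A : Set G) →
      L ≤ A ⊔ centralizer (A : Set G) → L ≤ A ∨ L ≤ centralizer (A : Set G) := fun A hxA hLA hle =>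
    BpBalance.split (A := A) (B := centralizer (A : Set G)) (R := zpowers x) (K := L)
      (by rw [commutator_comm]; exact commutator_eq_bot_iff_le_centralizer.2 le_rfl)
      (zpowers_le.2 hxA) (zpowers_le.2 (normalizer_le_normalizer_centralizer A hxA))
      (hL.mono (le_inf (hxz ▸ hL.le) (le_inf hLA
        (hLA.trans (normalizer_le_normalizer_centralizer A)))) (inf_le_left.trans hxz.le)) hle
  have hEJ : layer G ≤ J ⊔ centralizer (J : Set G) := layer_le_iff.2 fun M hM => by
    rcases eq_or_ne M J with rfl | h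
    · exact le_sup_left
    · exact (commutator_eq_bot_iff_le_centralizer.1 (components_commute hM hJ h)).trans le_sup_right
  have hnc : ∀ A : Subgroup G, J ≤ A → ¬ L ≤ centralizer (A : Set G) := fun A hA h =>
    hne (commutator_eq_bot_iff_le_centralizer.2 (h.trans (centralizer_le hA)))
  by_cases hx : x ∈ normalizer (J : Set G)
  · exact Or.inl ⟨hx, (hsplit J hx (hLE.trans (layer_le_normalizer_component hJ))
      (hLE.trans hEJ)).resolve_right (hnc J le_rfl)⟩
  refine Or.inr ⟨hx, ?_⟩
  set A := orb p x J with hA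
  have hLA : L ≤ normalizer (A : Set G) := fun e he => mem_normalizer_fintype fun y hy => by
    have : A ≤ A.comap (MulAut.conj e).toMonoidHom := iSup_le fun i => by
      rintro z hz
      exact le_iSup (fun i : Fin p => J.map (MulAut.conj (x ^ (i : ℕ))).toMonoidHom) i
        ((mem_normalizer_iff.1 (layer_le_normalizer_component (component_conj hJ _) (hLE he)) z).1 hz)
    exact this hy
  have hparts : ∀ e ∈ L, ∃ a ∈ J, ∃ z ∈ centralizer (A : Set G), psi p x a * z = e := fun e he =>
    orbit_parts hxp hJ hx (hLE he) (mem_centralizer_singleton_iff.1 (hL.le he))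
  have hle : L ≤ A := (hsplit A (orb_normalized hxp) hLA fun e he => by
    obtain ⟨a, ha, z, hz, rfl⟩ := hparts e he
    exact mul_mem (mem_sup_left (psi_mem_orb hxp ha)) (mem_sup_right hz)).resolve_right
      (hnc A (le_orb (Fact.out : p.Prime).pos))
  let f : ↥J →* G :=
    { toFun := fun a => psi p x a
      map_one' := by simp [psi, hxp]
      map_mul' := fun a b => psi_mul hxp hJ hx a.2 b.2 }
  suffices L ≤ f.range by
    intro e he
    obtain ⟨a, rfl⟩ := this he
    exact ⟨a, a.2, rfl⟩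
  conv_lhs => rw [← hL.perfect]
  rw [commutator_le]
  intro e he e' he'
  obtain ⟨a, ha, z, hz, rfl⟩ := hparts e he
  obtain ⟨b, hb, w, hw, rfl⟩ := hparts e' he'
  have hzA : z ∈ A := (mul_mem_cancel_left (psi_mem_orb hxp ha)).1 (hle he)
  have hwA : w ∈ A := (mul_mem_cancel_left (psi_mem_orb hxp hb)).1 (hle he')
  have hza : ∀ y ∈ A, Commute z y := fun y hy => (mem_centralizer_iff.1 hz y hy).symm
  have hwa : ∀ y ∈ A, Commute w y := fun y hy => (mem_centralizer_iff.1 hw y hy).symm
  have e1 : ⁅psi p x a * z, psi p x b * w⁆ = ⁅psi p x a, psi p x b⁆ := by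
    have hb' := psi_mem_orb (J := J) hxp hb
    have ha' := psi_mem_orb (J := J) hxp ha
    simp only [commutatorElement_def, mul_inv_rev]
    calc psi p x a * z * (psi p x b * w) * (z⁻¹ * (psi p x a)⁻¹) * (w⁻¹ * (psi p x b)⁻¹)
        = psi p x a * (z * (psi p x b * w)) * z⁻¹ * (psi p x a)⁻¹ * (w⁻¹ * (psi p x b)⁻¹) := by group
      _ = psi p x a * psi p x b * (w * (psi p x a)⁻¹) * (w⁻¹ * (psi p x b)⁻¹) := by
          rw [(hza _ (mul_mem hb' hwA)).eq]; group
      _ = _ := by rw [(hwa _ (inv_mem ha')).eq]; group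
  rw [e1]
  exact ⟨⁅(⟨a, ha⟩ : J), ⟨b, hb⟩⁆, map_commutatorElement f _ _⟩

end Orbit

/-! ### Pumping -/

variable {X : Type u} [Group X] [Finite X] {p : ℕ} [Fact p.Prime]

/-- The hypothesis on the components of centralizers. -/
def SchreierAt (p : ℕ) (X : Type u) [Group X] : Prop :=
  ∀ x : X, orderOf x = p → ∀ K : Subgroup (Qu p (centralizer ({x} : Set X))), IsComponent K →
    Group.IsSolvable (Cfsg.Out (↥K ⧸ center ↥K))

/-- An element of order `p` with a `p`-component of its centralizer. -/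
structure Pair (p : ℕ) (x : X) (K : Subgroup X) : Prop where
  ord : orderOf x = p
  comp : PCIn p K (centralizer ({x} : Set X))

/-- All pairs have sections of order at most `n`. -/
def Big (p : ℕ) (X : Type u) [Group X] [Finite X] [Fact p.Prime] (n : ℕ) : Prop :=
  ∀ (x : X) (K : Subgroup X), Pair p x K → sz p K ≤ n

/-- The subgroup `L_{p'}(C_K(y))`. -/
abbrev pump (p : ℕ) (K : Subgroup X) (y : X) : Subgroup X :=
  pGen p (K ⊓ centralizer ({y} : Set X))

/-- `J` is the `p`-component of `C(y)` containing the pump of `(x, K)`. -/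
structure Triv (p n : ℕ) (K : Subgroup X) (y : X) (J : Subgroup X) : Prop where
  pair : Pair p y J
  size : sz p J = n
  le : pump p K y ≤ J
  img_eq : img p (centralizer ({y} : Set X)) (pump p K y) = img p (centralizer ({y} : Set X)) J

/-- `J` is one of the `p`-components moved by `x` which carry the pump diagonally. -/
structure Diag (p n : ℕ) (x : X) (K : Subgroup X) (y : X) (J : Subgroup X) : Prop where
  pair : Pair p y J
  size : sz p J = n
  mem : x ∈ centralizer ({y} : Set X)
  moved : cl p (centralizer ({y} : Set X)) x mem ∉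
    normalizer (img p (centralizer ({y} : Set X)) J : Set (Qu p (centralizer ({y} : Set X))))
  carrier : ∀ q, q ∈ img p (centralizer ({y} : Set X)) (pump p K y) ↔
    ∃ a ∈ img p (centralizer ({y} : Set X)) J, psi p (cl p (centralizer ({y} : Set X)) x mem) a = q
  inj : ∀ a ∈ img p (centralizer ({y} : Set X)) J, ∀ b ∈ img p (centralizer ({y} : Set X)) J,
    psi p (cl p (centralizer ({y} : Set X)) x mem) a = psi p (cl p (centralizer ({y} : Set X)) x mem) b →
      a = b

theorem Pair.pow {x : X} {K : Subgroup X} (h : Pair p x K) : x ^ p = 1 := by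
  rw [← h.ord]; exact pow_orderOf_eq_one x

theorem mem_cent_comm {x y : X} (h : y ∈ centralizer ({x} : Set X)) : x ∈ centralizer ({y} : Set X) :=
  mem_centralizer_singleton_iff.2 (mem_centralizer_singleton_iff.1 h).symm

theorem cl_pow_eq_one {H : Subgroup X} {x : X} (hx : x ∈ H) {k : ℕ} (h : x ^ k = 1) :
    cl p H x hx ^ k = 1 := by
  rw [← cl_pow, cl_eq_one]
  simp [h, one_mem]

theorem pump_le {K : Subgroup X} {x y : X} (h : Pair p x K) :
    pump p K y ≤ centralizer ({x} : Set X) ⊓ centralizer ({y} : Set X) :=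
  (pGen_le _).trans (inf_le_inf h.comp.le le_rfl)

/-- Balance: a `p`-component of `C(x, y)` lies in the layer of `C(y)` modulo the core. -/
theorem balance_img (hS : SchreierAt p X) {x y : X} (hyo : orderOf y = p)
    (hx : x ∈ centralizer ({y} : Set X)) (hxp : x ^ p = 1) {M : Subgroup X}
    (hM : PCIn p M (centralizer ({x} : Set X) ⊓ centralizer ({y} : Set X))) :
    img p (centralizer ({y} : Set X)) M ≤ layer (Qu p (centralizer ({y} : Set X))) := by
  set Y := centralizer ({y} : Set X)
  have hMY : M ≤ Y := hM.le.trans inf_le_right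
  set xg : ↥Y := ⟨x, hx⟩
  have h1 : PCIn p (M.subgroupOf Y) ((centralizer ({x} : Set X) ⊓ Y).subgroupOf Y) :=
    hM.comap_inj Y.subtype Y.subtype_injective (by rw [range_subtype]; exact hMY)
  have hc : (centralizer ({x} : Set X) ⊓ Y).subgroupOf Y =
      centralizer ((zpowers xg : Subgroup Y) : Set Y) := by
    rw [zpowers_eq_closure, centralizer_closure]
    ext c
    rw [mem_subgroupOf, mem_inf, mem_centralizer_singleton_iff (k := (c : X)) (g := x)]
    rw [mem_centralizer_singleton_iff (k := c) (g := xg), ← Subtype.coe_inj]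
    exact ⟨fun h => h.1, fun h => ⟨h, c.2⟩⟩
  rw [hc] at h1
  have h2 := h1.up (centralizer_le_normalizer _) (normalizer_le_normalizer_centralizer _)
  have h3 : M.subgroupOf Y ≤ pLayer p ↥Y := by
    refine le_trans ?_ (pLayer_normalizer_le (p := p) (hS y hyo)
      (show IsPGroup p (zpowers xg) from isPGroup_zpowers (Subtype.ext (by simpa using hxp))))
    rw [← map_subgroupOf_eq_of_le h2.le]
    exact map_mono (le_sSup h2.toComp)
  rw [← map_pLayer]
  exact map_mono h3

/-- The image of a pump in `C(y)` modulo its core. -/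
theorem pump_img {x : X} {K : Subgroup X} (hS : SchreierAt p X) (h : Pair p x K) {y : X}
    (hyo : orderOf y = p) (hy : y ∈ Dc p (centralizer ({x} : Set X)) K)
    (hx : x ∈ centralizer ({y} : Set X)) :
    PCIn p (img p (centralizer ({y} : Set X)) (pump p K y))
      (centralizer ({cl p (centralizer ({y} : Set X)) x hx} : Set (Qu p (centralizer ({y} : Set X))))) ∧
    img p (centralizer ({y} : Set X)) (pump p K y) ≤ layer (Qu p (centralizer ({y} : Set X))) ∧
    sz p K ≤ Nat.card ↥(img p (centralizer ({y} : Set X)) (pump p K y)) := by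
  have hyp : y ^ p = 1 := by rw [← hyo]; exact pow_orderOf_eq_one y
  obtain ⟨hP, -, ⟨e⟩⟩ := piece h.comp hy hyp
  set Y := centralizer ({y} : Set X) with hY
  set L := pump p K y
  have hLY : L ≤ Y := hP.le.trans inf_le_right
  have hsz : sz p K ≤ Nat.card ↥(img p Y L) := by
    rw [sz, ← Nat.card_congr e.toEquiv]
    exact sz_le_img hLY
  have h1 : PCIn p (L.subgroupOf Y) ((centralizer ({x} : Set X) ⊓ Y).subgroupOf Y) :=
    hP.comap_inj Y.subtype Y.subtype_injective (by rw [range_subtype]; exact hLY)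
  have h1e : (centralizer ({x} : Set X) ⊓ Y).subgroupOf Y = (centralizer ({x} : Set X)).subgroupOf Y := by
    rw [subgroupOf, comap_inf, comap_subtype, comap_subtype, subgroupOf_self, inf_top_eq]
  rw [h1e] at h1
  have hne : img p Y L ≠ ⊥ := by
    intro he
    rw [he, card_bot] at hsz
    haveI := quasisimple_nontrivial h.comp.qs
    exact absurd (Finite.one_lt_card (α := ↥K ⧸ pPrimeCore p ↥K)) (not_lt.2 hsz)
  refine ⟨?_, ?_, hsz⟩
  · rw [← img_cent hx (isPGroup_zpowers h.pow)]
    exact h1.map (QuotientGroup.mk' (pPrimeCore p ↥Y)) hne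
  · exact balance_img hS hyo hx h.pow hP

/-- The pump is carried by one component or diagonally by `p` components. -/
theorem triv_or_diag {n : ℕ} (hS : SchreierAt p X) (hn : Big p X n) {x : X} {K : Subgroup X}
    (h : Pair p x K) (hK : sz p K = n) {y : X} (hyo : orderOf y = p)
    (hy : y ∈ Dc p (centralizer ({x} : Set X)) K) :
    (∃ J, Triv p n K y J) ∨ ∃ J, Diag p n x K y J := by
  have hx := mem_cent_comm (Dc_le hy)
  obtain ⟨hP, hE, hc⟩ := pump_img hS h hyo hy hx
  set Y := centralizer ({y} : Set X) with hY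
  set Lb := img p Y (pump p K y)
  set xb := cl p Y x hx
  have hxp : xb ^ p = 1 := cl_pow_eq_one hx h.pow
  obtain ⟨Jb, hJb, hne⟩ : ∃ Jb : Subgroup (Qu p Y), IsComponent Jb ∧ ⁅Lb, Jb⁆ ≠ ⊥ := by
    by_contra hcon
    push Not at hcon
    refine hP.not_abelian (hE.trans ?_)
    exact layer_le_iff.2 fun M hM => commutator_eq_bot_iff_le_centralizer.1
      (by rw [commutator_comm]; exact hcon M hM)
  obtain ⟨J, hJ, rfl⟩ := exists_pcin hJb
  have hpair : Pair p y J := ⟨hyo, hJ⟩
  have hJle : Nat.card ↥(img p Y J) ≤ n := (sz_eq hJ).trans_le (hn y J hpair)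
  rw [hK] at hc
  rcases fixed_or_orbit hxp hP hE hJb hne with ⟨-, hle⟩ | ⟨hmv, hsur⟩
  · left
    have heq : Lb = img p Y J := eq_of_le_of_card_ge hle (hJle.trans hc)
    refine ⟨J, hpair, le_antisymm (hn y J hpair) ?_, ?_, heq⟩
    · rw [← sz_eq hJ, ← heq]; exact hc
    · show pGen p _ ≤ J
      rw [← pGen_pGen, ← pGen_preimage hJ]
      exact pGen_mono (le_sup_of_img_le ((pump_le h).trans inf_le_right) hJ.le hle)
  · right
    let f : ↥(img p Y J) → Qu p Y := fun a => psi p xb a
    let s := {a : ↥(img p Y J) | f a ∈ Lb}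
    let g : ↥s → ↥Lb := fun a => ⟨f a.1, a.2⟩
    have hg : Function.Surjective g := by
      rintro ⟨e, he⟩
      obtain ⟨a, ha, rfl⟩ := hsur e he
      exact ⟨⟨⟨a, ha⟩, he⟩, rfl⟩
    have h1 : Nat.card ↥Lb ≤ Nat.card ↥s := Nat.card_le_card_of_surjective g hg
    have h2 : Nat.card ↥s ≤ Nat.card ↥(img p Y J) := Nat.card_le_card_of_injective _ Subtype.val_injective
    have hs : s = Set.univ := Set.eq_of_subset_of_ncard_le (Set.subset_univ _) (by
      rw [Set.ncard_univ, ← Nat.card_coe_set_eq]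
      omega)
    have hall : ∀ a : ↥(img p Y J), f a ∈ Lb := fun a => (hs.symm ▸ Set.mem_univ a : a ∈ s)
    let g' : ↥(img p Y J) → ↥Lb := fun a => ⟨f a, hall a⟩
    have hg' : Function.Surjective g' := by
      rintro ⟨e, he⟩
      obtain ⟨a, ha, rfl⟩ := hsur e he
      exact ⟨⟨a, ha⟩, rfl⟩
    have hbij : Function.Injective g' := (hg'.bijective_of_nat_card_le (by omega)).1
    refine ⟨J, ⟨hpair, le_antisymm (hn y J hpair) ?_, hx, hmv, fun q => ⟨hsur q, ?_⟩, ?_⟩⟩
    · rw [← sz_eq hJ]; omega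
    · rintro ⟨a, ha, rfl⟩
      exact hall ⟨a, ha⟩
    · intro a ha b hb he
      exact congrArg Subtype.val (@hbij ⟨a, ha⟩ ⟨b, hb⟩ (Subtype.ext he))

/-- Elements centralizing the section of `K` centralize the image of the pump. -/
theorem cent_pump {x : X} {K : Subgroup X} {y : X} (h : Pair p x K)
    (hy : y ∈ Dc p (centralizer ({x} : Set X)) K) (hyp : y ^ p = 1)
    (hcard : Nat.card ↥(img p (centralizer ({y} : Set X)) (pump p K y)) = sz p K) {c : X}
    (hc : c ∈ Dc p (centralizer ({x} : Set X)) K) (hcy : c ∈ centralizer ({y} : Set X)) :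
    cl p (centralizer ({y} : Set X)) c hcy ∈ centralizer
      (img p (centralizer ({y} : Set X)) (pump p K y) : Set (Qu p (centralizer ({y} : Set X)))) := by
  obtain ⟨hP, -, ⟨e⟩⟩ := piece h.comp hy hyp
  set Y := centralizer ({y} : Set X)
  set L := pump p K y
  have hLY : L ≤ Y := hP.le.trans inf_le_right
  have hLx : L ≤ centralizer ({x} : Set X) := hP.le.trans inf_le_left
  have hker : (toImg (p := p) Y hLY).ker = pPrimeCore p ↥L := by
    refine SetLike.coe_injective (Set.eq_of_subset_of_ncard_le (toImg_ker_le hLY) ?_)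
    rw [← Nat.card_coe_set_eq, ← Nat.card_coe_set_eq]
    refine Nat.le_of_mul_le_mul_right ?_ (Nat.card_pos (α := ↥(img p Y L)))
    have h1 := (toImg (p := p) Y hLY).ker.card_mul_index
    rw [index_ker, MonoidHom.range_eq_top.2 (toImg_surj hLY), card_top] at h1
    have h2 := (pPrimeCore p ↥L).card_mul_index
    rw [show (pPrimeCore p ↥L).index = Nat.card ↥(img p Y L) by
      rw [hcard]; exact Nat.card_congr e.toEquiv] at h2
    exact (h2.trans h1.symm).le
  refine mem_centralizer_iff.2 fun q hq => ?_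
  obtain ⟨l, hl, hlY, rfl⟩ := mem_img.1 hq
  have hn : c ∈ normalizer (L : Set X) := normalizer_le_pGen _
    (inf_normalizer_le_normalizer_inf ⟨Dc_le_normalizer h.comp hc, le_normalizer hcy⟩)
  have hm : c * l * c⁻¹ * l⁻¹ ∈ L := mul_mem ((mem_normalizer_iff.1 hn l).1 hl) (inv_mem hl)
  have hN : ((cor p (centralizer ({x} : Set X))).subgroupOf L) ≤ pPrimeCore p ↥L := by
    refine FittingCores.le_pPrimeCore (normal_subgroupOf_of_le_normalizer (hLx.trans cor_normal)) ?_
    refine (cor_coprime (p := p) (H := centralizer ({x} : Set X))).coprime_dvd_left ?_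
    rw [← card_map_of_injective L.subtype_injective]
    exact card_dvd_of_le (map_comap_le _ _)
  have hmem : (⟨_, hm⟩ : L) ∈ (toImg (p := p) Y hLY).ker :=
    hker.symm.le (hN (((mem_Dc_iff_comm h.comp.le).1 hc).2 l (pGen_le _ hl).1))
  have h3 : cl p Y (c * l * c⁻¹ * l⁻¹) (hLY hm) = 1 := congrArg Subtype.val hmem
  rw [cl_mul (mul_mem (mul_mem hcy hlY) (inv_mem hcy)) (inv_mem hlY),
    cl_mul (mul_mem hcy hlY) (inv_mem hcy), cl_mul hcy hlY, cl_inv hcy, cl_inv hlY,
    mul_inv_eq_one, mul_inv_eq_iff_eq_mul] at h3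
  exact h3.symm

theorem Triv.card {n : ℕ} {K : Subgroup X} {y : X} {J : Subgroup X} (hT : Triv p n K y J) :
    Nat.card ↥(img p (centralizer ({y} : Set X)) (pump p K y)) = n := by
  rw [hT.img_eq, sz_eq hT.pair.comp, hT.size]

theorem Triv.Dc_le {n : ℕ} {x : X} {K : Subgroup X} {y : X} {J : Subgroup X} (hT : Triv p n K y J)
    (h : Pair p x K) (hK : sz p K = n) (hy : y ∈ Dc p (centralizer ({x} : Set X)) K) (hyp : y ^ p = 1)
    {c : X} (hc : c ∈ Dc p (centralizer ({x} : Set X)) K)
    (hcy : c ∈ centralizer ({y} : Set X)) : c ∈ Dc p (centralizer ({y} : Set X)) J := by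
  refine mem_Dc.2 ⟨hcy, ?_⟩
  rw [← hT.img_eq]
  exact cent_pump h hy hyp (hT.card.trans hK.symm) hc hcy

theorem Diag.card {n : ℕ} {x : X} {K : Subgroup X} {y : X} {J : Subgroup X} (hD : Diag p n x K y J) :
    Nat.card ↥(img p (centralizer ({y} : Set X)) (pump p K y)) = n := by
  rw [← hD.size, ← sz_eq hD.pair.comp]
  refine (Nat.card_eq_of_bijective (fun a : ↥(img p (centralizer ({y} : Set X)) J) =>
    (⟨_, (hD.carrier _).2 ⟨a, a.2, rfl⟩⟩ : ↥(img p (centralizer ({y} : Set X)) (pump p K y))))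
    ⟨fun a b e => Subtype.ext (hD.inj a a.2 b b.2 (congrArg Subtype.val e)), fun q => ?_⟩).symm
  obtain ⟨a, ha, e⟩ := (hD.carrier q).1 q.2
  exact ⟨⟨a, ha⟩, Subtype.ext e⟩

end Cfsg.Agent.PTerm
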