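import Cfsg.Agent.Lib.Components.PNormalizer
import Cfsg.Agent.Lib.Components.Local
import Cfsg.Agent.Lib.Components.Extended
import Cfsg.Agent.Lib.Components.Balance
import Cfsg.Prelude.Def_KGroupFacts

/-! The `p`-layer of a `p`-local subgroup lies in the `p`-layer of the group when the components modulo the
`p'`-core have solvable outer automorphism groups. -/

set_option autoImplicit false
set_option linter.style.haveILetI false

namespace Cfsg.Agent.Components

open Subgroup
open scoped Pointwise commutatorElement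

variable {G : Type*} [Group G]

/-- An automorphism induces one of the quotient by the centre. -/
def autCentral (K : Type*) [Group K] : MulAut K →* MulAut (K ⧸ center K) where
  toFun e := QuotientGroup.congr _ _ e (center_map_equiv e)
  map_one' := by
    ext x
    induction x using QuotientGroup.induction_on
    rfl
  map_mul' a b := by
    ext x
    induction x using QuotientGroup.induction_on
    rfl

/-- The products of an element of `K` and an element centralizing `K`. -/
def innerOn (K : Subgroup G) : Subgroup G where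
  carrier := {x | ∃ k ∈ K, k⁻¹ * x ∈ centralizer (K : Set G)}
  one_mem' := ⟨1, one_mem K, by simp⟩
  mul_mem' := by
    rintro a b ⟨k, hk, ha⟩ ⟨l, hl, hb⟩
    refine ⟨k * l, mul_mem hk hl, ?_⟩
    have h := mul_mem ha hb
    have hc := mem_centralizer_iff.1 ha l⁻¹ (inv_mem hl)
    rwa [show (k * l)⁻¹ * (a * b) = k⁻¹ * a * (l⁻¹ * b) by
      rw [show (k * l)⁻¹ * (a * b) = l⁻¹ * (k⁻¹ * a) * b by group, hc]
      group]
  inv_mem' := by
    rintro a ⟨k, hk, ha⟩
    refine ⟨k⁻¹, inv_mem hk, ?_⟩
    have h := inv_mem ha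
    have hc := mem_centralizer_iff.1 h k hk
    rwa [show k⁻¹⁻¹ * a⁻¹ = (k⁻¹ * a)⁻¹ by
      rw [show k⁻¹⁻¹ * a⁻¹ = k * (k⁻¹ * a)⁻¹ * k⁻¹ by group, hc]; group]

variable [Finite G] {p : ℕ} [Fact p.Prime]

omit [Fact p.Prime] in
/-- A perfect group normalizing a component with solvable outer automorphism group acts by inner
automorphisms on it. -/
theorem le_innerOn {L K : Subgroup G} (hL : ⁅L, L⁆ = L) (hLK : L ≤ normalizer (K : Set G))
    (hK : IsQuasisimple ↥K) (hS : Group.IsSolvable (Cfsg.Out (↥K ⧸ center ↥K))) : L ≤ innerOn K := by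
  let φ : normalizer (K : Set G) →* Cfsg.Out (↥K ⧸ center ↥K) :=
    ((QuotientGroup.mk' _).comp (autCentral ↥K)).comp K.normalizerMonoidHom
  have hker : ∀ x (hx : x ∈ L), φ ⟨x, hLK hx⟩ = 1 := by
    set L' := L.subgroupOf (normalizer (K : Set G))
    have hL' : ⁅L', L'⁆ = L' := by
      apply map_injective (normalizer (K : Set G)).subtype_injective
      rw [Subgroup.map_commutator, map_subgroupOf_eq_of_le hLK, hL]
    have hb : L'.map φ = ⊥ := by
      haveI := hS
      haveI : Group.IsSolvable ↥(L'.map φ) := inferInstance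
      by_contra hne
      haveI : Nontrivial (L'.map φ) := (nontrivial_iff_ne_bot _).2 hne
      refine (Group.IsSolvable.commutator_lt_top_of_nontrivial (G := L'.map φ)).ne ?_
      rw [_root_.commutator_def]
      apply map_injective (L'.map φ).subtype_injective
      rw [map_commutator, ← MonoidHom.range_eq_map, range_subtype, ← map_commutator, hL']
    intro x hx
    have : φ ⟨x, hLK hx⟩ ∈ L'.map φ := mem_map_of_mem φ hx
    rwa [hb, mem_bot] at this
  intro x hx
  obtain ⟨kb, hkb⟩ := (QuotientGroup.eq_one_iff _).1 (hker x hx)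
  obtain ⟨k, rfl⟩ := QuotientGroup.mk'_surjective _ kb
  refine ⟨k, k.2, ?_⟩
  set c := (k : G)⁻¹ * x with hc
  have hcK : ∀ y : K, c * y * c⁻¹ ∈ K := fun y =>
    (mem_normalizer_iff.1 (mul_mem (inv_mem (le_normalizer k.2)) (hLK hx)) _).1 y.2
  have hcen : ∀ y : K, (⟨c * y * c⁻¹, hcK y⟩ : K) * y⁻¹ ∈ center ↥K := by
    intro y
    have h := DFunLike.congr_fun hkb (y : ↥K ⧸ center ↥K)
    rw [MulAut.conj_apply] at h
    change (QuotientGroup.mk (k * y * k⁻¹) : ↥K ⧸ center ↥K) =
      QuotientGroup.mk (K.normalizerMonoidHom ⟨x, hLK hx⟩ y) at h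
    rw [QuotientGroup.eq] at h
    have h' := (inferInstance : (center ↥K).Normal).conj_mem _ h (y * k⁻¹)
    convert h' using 1
    apply Subtype.ext
    simp only [c, Subgroup.coe_mul, Subgroup.coe_inv,
      show ∀ (z : normalizer (K : Set G)) (w : ↥K), (K.normalizerMonoidHom z w : G) = z * w * (z : G)⁻¹ from
        fun _ _ => rfl]
    group
  let δ : ↥K →* ↥(center ↥K) :=
    { toFun := fun y => ⟨_, hcen y⟩
      map_one' := Subtype.ext (Subtype.ext (by simp))
      map_mul' := fun y z => Subtype.ext (by
        show (⟨c * (y * z : ↥K) * c⁻¹, _⟩ : ↥K) * (y * z)⁻¹ = _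
        have h1 := Subgroup.mem_center_iff.1 (hcen z) y⁻¹
        calc _ = (⟨c * y * c⁻¹, hcK y⟩ : ↥K) * ((⟨c * z * c⁻¹, hcK z⟩ : ↥K) * z⁻¹ * y⁻¹) := by
              apply Subtype.ext; simp [mul_assoc]
          _ = (⟨c * y * c⁻¹, hcK y⟩ : ↥K) * (y⁻¹ * ((⟨c * z * c⁻¹, hcK z⟩ : ↥K) * z⁻¹)) := by rw [h1]
          _ = _ := by simp [mul_assoc]) }
  haveI : Group.IsPerfect ↥K := hK.1
  haveI : IsMulCommutative ↥(center ↥K) := inferInstance
  rw [mem_centralizer_iff]
  intro y hy
  have h1 : δ ⟨y, hy⟩ = 1 := by
    letI : CommGroup ↥(center ↥K) :=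
      { mul_comm := fun a b => Subtype.ext (Subgroup.mem_center_iff.1 b.2 a) }
    have : commutator ↥K ≤ δ.ker := Abelianization.commutator_subset_ker δ
    exact this (by rw [Group.IsPerfect.commutator_eq_top]; exact mem_top _)
  have h2 : c * y * c⁻¹ * y⁻¹ = 1 := congrArg (fun z : ↥(center ↥K) => ((z : ↥K) : G)) h1
  rw [mul_inv_eq_one, mul_inv_eq_iff_eq_mul] at h2
  exact h2.symm

omit [Fact p.Prime] in
/-- The layer acts by inner automorphisms on each component. -/
theorem layer_le_innerOn {K : Subgroup G} (hK : IsComponent K) : layer G ≤ innerOn K :=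
  layer_le_iff.2 fun M hM => by
    intro x hx
    by_cases h : M = K
    · exact ⟨x, h ▸ hx, by simp⟩
    · exact ⟨1, one_mem K, by
        simpa using commutator_eq_bot_iff_le_centralizer.1 (components_commute hM hK h) hx⟩

omit [Fact p.Prime] in
/-- An element inner on every component is inner on the layer. -/
theorem exists_layer_factor {x : G} (hx : ∀ K, IsComponent K → x ∈ innerOn K) :
    ∃ e ∈ layer G, e⁻¹ * x ∈ centralizer (layer G : Set G) := by
  classical
  have key : ∀ s : Finset (Subgroup G), (∀ K ∈ s, IsComponent K) →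
      ∃ e ∈ layer G, ∀ K ∈ s, e⁻¹ * x ∈ centralizer (K : Set G) := by
    intro s
    induction s using Finset.induction_on with
    | empty => exact fun _ => ⟨1, one_mem _, by simp⟩
    | @insert K s hKs ih =>
      intro hs
      obtain ⟨e, he, hes⟩ := ih fun M hM => hs M (Finset.mem_insert_of_mem hM)
      have hK := hs K (Finset.mem_insert_self _ _)
      obtain ⟨k, hk, hkc⟩ := mul_mem (inv_mem (layer_le_innerOn hK he)) (hx K hK)
      refine ⟨e * k, mul_mem he (component_le_layer hK hk), fun M hM => ?_⟩
      rw [mul_inv_rev, mul_assoc]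
      rcases Finset.mem_insert.1 hM with rfl | hM'
      · exact hkc
      · refine mul_mem (inv_mem ?_) (hes M hM')
        exact commutator_eq_bot_iff_le_centralizer.1
          (components_commute hK (hs M hM) fun h => hKs (h ▸ hM')) hk
  haveI := Fintype.ofFinite (Subgroup G)
  obtain ⟨e, he, hes⟩ := key (Finset.univ.filter fun K => IsComponent K) fun K hK => (Finset.mem_filter.1 hK).2
  refine ⟨e, he, ?_⟩
  have : layer G ≤ centralizer ({e⁻¹ * x} : Set G) := layer_le_iff.2 fun K hK y hy => by
    rw [mem_centralizer_iff]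
    rintro _ rfl
    exact (mem_centralizer_iff.1 (hes K (Finset.mem_filter.2 ⟨Finset.mem_univ _, hK⟩)) y hy).symm
  rw [mem_centralizer_iff]
  exact fun y hy => (mem_centralizer_iff.1 (this hy) _ rfl).symm

/-- A perfect subgroup of `N(P)` inside the layer of `N(P)` modulo its core lies in the layer. -/
theorem balance_core (hO : pPrimeCore p G = ⊥)
    (hS : ∀ K : Subgroup G, IsComponent K → Group.IsSolvable (Cfsg.Out (↥K ⧸ center ↥K)))
    {P : Subgroup G} (hP : IsPGroup p P) {L : Subgroup G} (hLN : L ≤ normalizer (P : Set G))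
    (hL : ⁅L, L⁆ = L)
    (hLE : L.subgroupOf (normalizer (P : Set G)) ≤
      (layer (↥(normalizer (P : Set G)) ⧸ pPrimeCore p ↥(normalizer (P : Set G)))).comap
        (QuotientGroup.mk' (pPrimeCore p ↥(normalizer (P : Set G))))) : L ≤ layer G := by
  classical
  set N := normalizer (P : Set G) with hN
  let f := QuotientGroup.mk' (pPrimeCore p ↥N)
  haveI := FittingCores.pCore_normal (G := G) p
  have hQc : (Nat.card ((pPrimeCore p ↥N).map N.subtype)).Coprime p := (pPrimeCore_normalizer_props P hP).2.2
  -- the layer modulo the core centralizes normal p-subgroups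
  have hcent : ∀ T : Subgroup G, T ≤ N → IsPGroup p T → N ≤ normalizer (T : Set G) →
      L ≤ centralizer (T : Set G) := by
    intro T hT hTp hTn x hx
    haveI : Group.IsNilpotent ↥((T.subgroupOf N).map f) :=
      ((hTp.comap_of_injective N.subtype N.subtype_injective : IsPGroup p (T.subgroupOf N)).map f).isNilpotent
    have hTN : ((T.subgroupOf N).map f).Normal :=
      Normal.map ((normal_subgroupOf_iff_le_normalizer hT).2 hTn) f (QuotientGroup.mk'_surjective _)
    have hcom := layer_commute_solvable (H := (T.subgroupOf N).map f) inferInstance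
      (by rw [normalizer_eq_top_iff.2 hTN]; exact le_top)
    rw [mem_centralizer_iff]
    intro t ht
    have h1 : f ⁅(⟨x, hLN hx⟩ : N), (⟨t, hT ht⟩ : N)⁆ = 1 := by
      rw [map_commutatorElement]
      have h1 : f (⟨x, hLN hx⟩ : N) ∈ layer (↥N ⧸ pPrimeCore p ↥N) :=
        hLE (show (⟨x, hLN hx⟩ : N) ∈ L.subgroupOf N from hx)
      have := commutator_mem_commutator h1
        (mem_map_of_mem f (show (⟨t, hT ht⟩ : N) ∈ T.subgroupOf N from ht))
      rwa [hcom, mem_bot] at this
    have hR := (QuotientGroup.eq_one_iff _).1 h1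
    have h2 : x * t * x⁻¹ * t⁻¹ ∈ T := mul_mem ((mem_normalizer_iff.1 (hTn (hLN hx)) t).1 ht) (inv_mem ht)
    have h3 : x * t * x⁻¹ * t⁻¹ = 1 :=
      Cfsg.Agent.PBasic.eq_one_of_isPGroup_of_coprime hTp h2
        (Cfsg.Agent.PBasic.coprime_orderOf_of_mem hQc ⟨_, hR, by simp [commutatorElement_def]⟩)
    rw [mul_inv_eq_one] at h3
    exact (mul_inv_eq_iff_eq_mul.1 h3).symm
  have hLP : L ≤ centralizer (P : Set G) := hcent P le_normalizer hP le_rfl
  have hLQ : L ≤ centralizer ((pCore p G ⊓ centralizer (P : Set G) : Subgroup G) : Set G) :=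
    hcent _ (inf_le_right.trans (centralizer_le_normalizer _))
      ((FittingCores.pCore_isPGroup p).to_le inf_le_left)
      ((le_inf le_normalizer_of_normal (normalizer_le_normalizer_centralizer P)).trans
        inf_normalizer_le_normalizer_inf)
  have hLF : L ≤ centralizer (pCore p G : Set G) := by
    have := le_ker_of_perfect (p := p) hL (QuotientGroup.mk' (centralizer (pCore p G : Set G))) (fun x hx => by
      refine ⟨(orderOf x).factorization p, ?_⟩
      rw [← map_pow]
      refine (QuotientGroup.eq_one_iff _).2 (centralizes_pCore_of_coprime hP ?_ (pow_mem (hLP hx) _)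
        (pow_mem (hLQ hx) _))
      have h0 := (orderOf_pos x).ne'
      rw [orderOf_pow' _ (pow_ne_zero _ (Fact.out : p.Prime).ne_zero),
        Nat.gcd_eq_right (Nat.ordProj_dvd _ _), Nat.coprime_comm]
      exact Nat.coprime_ordCompl Fact.out h0)
    rwa [QuotientGroup.ker_mk'] at this
  have hLfix : L ≤ fixesComponents G := fun x hx =>
    layer_mod_core_fixes hO hP (hLE (show (⟨x, hLN hx⟩ : N) ∈ L.subgroupOf N from hx))
  haveI := fittingSubgroup_normal (G := G)
  haveI := fittingSubgroup_nilpotent (G := G)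
  have hF : IsPGroup p (fittingSubgroup G) := isPGroup_of_normal_nilpotent hO _
  have hFle : fittingSubgroup G ≤ pCore p G := FittingCores.le_pCore inferInstance hF
  have hstar : L ≤ generalizedFittingSubgroup G := by
    intro x hx
    obtain ⟨e, he, hec⟩ := exists_layer_factor (x := x) fun K hK =>
      le_innerOn hL (fun y hy => mem_fixesComponents.1 (hLfix hy) K hK) hK.2 (hS K hK) hx
    have hc : e⁻¹ * x ∈ centralizer (generalizedFittingSubgroup G : Set G) := by
      have : generalizedFittingSubgroup G ≤ centralizer ({e⁻¹ * x} : Set G) := by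
        refine sup_le ?_ ?_ <;> intro y hy <;> rw [mem_centralizer_iff] <;> rintro _ rfl
        · exact (mem_centralizer_iff.1 hec y hy).symm
        · have h1 : e ∈ centralizer (fittingSubgroup G : Set G) := layer_le_centralizer_fitting he
          have h2 : x ∈ centralizer (fittingSubgroup G : Set G) := centralizer_le hFle (hLF hx)
          exact (mem_centralizer_iff.1 (mul_mem (inv_mem h1) h2) y hy).symm
      rw [mem_centralizer_iff]
      exact fun y hy => (mem_centralizer_iff.1 (this hy) _ rfl).symm
    simpa using mul_mem (layer_le_generalizedFitting he) (centralizer_generalizedFitting_le hc)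
  haveI := layer_normal (G := G)
  have := le_ker_of_perfect (p := p) hL (QuotientGroup.mk' (layer G)) (fun x hx => by
    obtain ⟨a, ha, b, hb, rfl⟩ := mem_sup_of_normal_left.1 (show x ∈ layer G ⊔ fittingSubgroup G from hstar hx)
    obtain ⟨n, hn⟩ := hF ⟨b, hb⟩
    refine ⟨n, ?_⟩
    rw [map_mul, show QuotientGroup.mk' (layer G) a = 1 from (QuotientGroup.eq_one_iff a).2 ha, one_mul,
      ← map_pow, show b ^ p ^ n = 1 from congrArg Subtype.val hn, map_one])
  rwa [QuotientGroup.ker_mk'] at this

/-- The `p`-layer is perfect. -/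
theorem pLayer_commutator_eq : ⁅pLayer p G, pLayer p G⁆ = pLayer p G :=
  le_antisymm (commutator_le_self _) (sSup_le fun K hK => by
    conv_lhs => rw [← pComponent_commutator_eq hK]
    exact commutator_mono (le_sSup hK) (le_sSup hK))

/-- `L_{p'}`-balance under the Schreier property. -/
theorem pLayer_normalizer_le
    (hS : ∀ K : Subgroup (G ⧸ pPrimeCore p G), IsComponent K → Group.IsSolvable (Cfsg.Out (↥K ⧸ center ↥K)))
    {R : Subgroup G} (hR : IsPGroup p R) :
    (pLayer p ↥(normalizer (R : Set G))).map (normalizer (R : Set G)).subtype ≤ pLayer p G := by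
  classical
  haveI := FittingCores.pPrimeCore_normal (G := G) p
  set O := pPrimeCore p G with hOdef
  set q := QuotientGroup.mk' O with hq
  set N := normalizer (R : Set G) with hN
  haveI : Finite (G ⧸ O) := Quotient.finite _
  have hOc : (Nat.card O).Coprime p := FittingCores.pPrimeCore_coprime p
  set Rb := R.map q with hRb
  set Nb := normalizer (Rb : Set (G ⧸ O)) with hNb
  have hNq : N.map q = Nb := map_normalizer_eq hOc hR
  let r : N →* Nb := (q.comp N.subtype).codRestrict Nb fun x => hNq.le (mem_map_of_mem q x.2)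
  have hr : Function.Surjective r := by
    rintro ⟨y, hy⟩
    obtain ⟨x, hx, rfl⟩ := hNq.ge hy
    exact ⟨⟨x, hx⟩, rfl⟩
  haveI := FittingCores.pPrimeCore_normal (G := N) p
  haveI := FittingCores.pPrimeCore_normal (G := Nb) p
  have hker : r.ker.map N.subtype ≤ O := by
    rintro _ ⟨x, hx, rfl⟩
    exact (QuotientGroup.eq_one_iff _).1 (congrArg Subtype.val hx)
  have hle : pPrimeCore p N ≤ (pPrimeCore p Nb).comap r := map_le_iff_le_comap.1
    (FittingCores.le_pPrimeCore (Normal.map inferInstance r hr)
      ((FittingCores.pPrimeCore_coprime p).coprime_dvd_left (card_map_dvd _ _)))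
  have hge : (pPrimeCore p Nb).comap r ≤ pPrimeCore p N := by
    refine FittingCores.le_pPrimeCore inferInstance ?_
    have h1 : r.ker ≤ (pPrimeCore p Nb).comap r := by rw [← MonoidHom.comap_bot]; exact comap_mono bot_le
    rw [← relIndex_bot_left, ← relIndex_mul_relIndex ⊥ r.ker _ bot_le h1, relIndex_bot_left]
    refine Nat.Coprime.mul_left ?_ ?_
    · rw [← card_map_of_injective N.subtype_injective]
      exact hOc.coprime_dvd_left (card_dvd_of_le hker)
    · rw [← MonoidHom.comap_bot, relIndex_comap, map_comap_eq_self_of_surjective hr, relIndex_bot_left]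
      exact FittingCores.pPrimeCore_coprime p
  let g : ↥N ⧸ pPrimeCore p N →* ↥Nb ⧸ pPrimeCore p Nb := QuotientGroup.map _ _ r hle
  have hg : Function.Bijective g := by
    refine ⟨?_, fun y => ?_⟩
    · rw [← MonoidHom.ker_eq_bot_iff, QuotientGroup.ker_map, Subgroup.map_eq_bot_iff, QuotientGroup.ker_mk']
      exact hge
    · obtain ⟨z, rfl⟩ := QuotientGroup.mk'_surjective _ y
      obtain ⟨x, rfl⟩ := hr z
      exact ⟨QuotientGroup.mk' _ x, rfl⟩
  haveI : Finite (↥N ⧸ pPrimeCore p N) := Quotient.finite _
  set L := (pLayer p ↥N).map N.subtype with hL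
  have hLp : ⁅L, L⁆ = L := by rw [hL, ← map_commutator, pLayer_commutator_eq]
  have hLb : L.map q ≤ layer (G ⧸ O) := by
    refine balance_core (p := p) (pPrimeCore_quotient G) hS (hR.map q) ?_ ?_ ?_
    · exact (map_mono (map_subtype_le _)).trans hNq.le
    · rw [← map_commutator, hLp]
    · rintro y ⟨x, ⟨z, hz, rfl⟩, hzy⟩
      have e : r z = y := Subtype.ext hzy
      show QuotientGroup.mk' _ y ∈ layer _
      rw [← e, ← layer_map_equiv (MulEquiv.ofBijective g hg)]
      exact ⟨QuotientGroup.mk' _ z, map_pLayer.le (mem_map_of_mem _ hz), rfl⟩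
  have hLE : L ≤ pLayer p G ⊔ O := by
    rw [← map_pLayer (p := p), map_le_iff_le_comap, comap_map_eq, QuotientGroup.ker_mk'] at hLb
    exact hLb
  have hgen : L ≤ pGen p L := by
    rw [hL, map_le_iff_le_comap]
    refine sSup_le fun K hK => ?_
    rw [← map_le_iff_le_comap]
    conv_lhs => rw [← pComponent_pGen hK]
    exact (map_pGen_le N.subtype K).trans (pGen_mono (map_mono (le_sSup hK)))
  haveI := pLayer_normal (G := G) (p := p)
  refine hgen.trans ((pGen_mono hLE).trans (pGen_le_of_normal le_sup_left inferInstance ?_))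
  rw [sup_comm, relIndex_sup_right]
  exact hOc.coprime_dvd_left (relIndex_dvd_card _ _)

end Cfsg.Agent.Components
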